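import Cfsg.Agent.Lib.ZStar.UniqueInvol
import Cfsg.Agent.Lib.Classical.QuaternionRec
import Cfsg.Agent.Lib.Coprime.NoncyclicAbelian
import Cfsg.Agent.Lib.Coprime.Generation

/-!
# Groups of prime power order with a single subgroup of prime order
-/

set_option autoImplicit false

namespace CfsgLib.ZStar

/-- A 2-group with a single involution is cyclic or generalized quaternion. -/
theorem cyclic_or_quaternion {P : Type*} [Group P] [Finite P] (hP : IsPGroup 2 P)
    (huniq : ∀ x y : P, orderOf x = 2 → orderOf y = 2 → x = y) :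
    IsCyclic P ∨ ∃ n : ℕ, Nonempty (P ≃* QuaternionGroup (2 ^ n)) := by
  rcases unique_involution_structure hP huniq with h | ⟨a, n, hn, ha, -, hidx, hout⟩
  · exact Or.inl h
  refine Or.inr ⟨n - 1, ?_⟩
  have : NeZero (2 ^ (n - 1)) := ⟨by positivity⟩
  have ha' : orderOf a = 2 * 2 ^ (n - 1) := by rw [ha, ← pow_succ', Nat.sub_add_cancel (by omega)]
  obtain ⟨w, hw⟩ : ∃ w : P, w ∉ Subgroup.zpowers a := by
    by_contra h
    push Not at h
    rw [show Subgroup.zpowers a = ⊤ from eq_top_iff.mpr fun x _ => h x, Subgroup.index_top] at hidx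
    omega
  have hww : w * w ∈ Subgroup.zpowers a := by
    rw [Subgroup.mul_mem_iff_of_index_two hidx]
  obtain ⟨k, hk⟩ := hww
  have hk' : a ^ k = w * w := hk
  have h1 : (w * w)⁻¹ = w * w := by
    have h := congrArg (fun x => x ^ k) (hout w hw)
    simp only [conj_zpow, inv_zpow, hk'] at h
    rw [← h]; group
  have hu : orderOf (w * w) = 2 := by
    refine orderOf_eq_prime ?_ ?_
    · rw [pow_two]
      nth_rewrite 1 [← h1]
      exact inv_mul_cancel _
    · intro h
      have hw2 : orderOf w = 2 := orderOf_eq_prime ((pow_two w).trans h)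
        (fun e => hw (e ▸ one_mem _))
      refine hw ?_
      rw [huniq w (a ^ 2 ^ (n - 1)) hw2 (by
        rw [orderOf_pow_of_dvd (by positivity) ⟨2, by rw [ha', mul_comm]⟩, ha',
          Nat.mul_div_cancel _ (by positivity)])]
      exact pow_mem (Subgroup.mem_zpowers a) _
  have hw2 : w * w = a ^ 2 ^ (n - 1) := huniq _ _ hu (by
    rw [orderOf_pow_of_dvd (by positivity) ⟨2, by rw [ha', mul_comm]⟩, ha',
      Nat.mul_div_cancel _ (by positivity)])
  obtain ⟨f, hf, -⟩ := CfsgLib.Classical.exists_quaternion_hom ha' hw2 (hout w hw) hw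
  have hcard : Nat.card (QuaternionGroup (2 ^ (n - 1))) = Nat.card P := by
    rw [Nat.card_eq_fintype_card, QuaternionGroup.card,
      ← (Subgroup.zpowers a).card_mul_index, hidx, Nat.card_zpowers, ha']
    ring
  exact ⟨(MulEquiv.ofBijective f ((Nat.bijective_iff_injective_and_card f).mpr ⟨hf, hcard⟩)).symm⟩

/-- A `p`-group with a single subgroup of order `p`, `p` odd, is cyclic. -/
theorem cyclic_of_unique_subgroup {P : Type*} [Group P] [Finite P] {p : ℕ} [Fact p.Prime]
    (hp : p ≠ 2) (hP : IsPGroup p P)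
    (huniq : ∀ H K : Subgroup P, Nat.card H = p → Nat.card K = p → H = K) : IsCyclic P := by
  by_contra hnc
  obtain ⟨A, hA, hAc⟩ := Cfsg.Agent.NoncyclicAbelian.exists_noncyclic_abelian hp hP hnc
  obtain ⟨q, hq, x, -, y, -, hx, hy, hy1, hxy⟩ := CfsgLib.Coprime.exists_pair_of_not_isCyclic A hAc
  have : Fact q.Prime := ⟨hq⟩
  have hoy : orderOf y = q := orderOf_eq_prime hy hy1
  have hox : orderOf x = q := orderOf_eq_prime hx (fun e => hxy (e ▸ one_mem _))
  obtain ⟨k, hk⟩ := IsPGroup.iff_orderOf.mp hP y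
  have hqp : q = p := by
    rw [hoy] at hk
    exact (Nat.prime_dvd_prime_iff_eq hq Fact.out).mp (hq.dvd_of_dvd_pow hk.dvd)
  apply hxy
  rw [← huniq (Subgroup.zpowers x) (Subgroup.zpowers y) (by rw [Nat.card_zpowers, hox, hqp])
    (by rw [Nat.card_zpowers, hoy, hqp])]
  exact Subgroup.mem_zpowers x

end CfsgLib.ZStar
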