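import Cfsg.Agent.Lib.ZStar.Eight

/-!
# Glauberman's Z*-theorem

`commutatorsInCore_of_isolated`: an isolated involution commutes with every element modulo `O(G)`.
`exists_normal_odd_commutator_mem`: the same for an involution whose only conjugate in a Sylow
2-subgroup containing it is itself.
-/

set_option autoImplicit false

namespace CfsgLib.ZStar

open Cfsg

universe u

theorem glauberman_aux : ∀ (n : ℕ) (G : Type u) [Group G] [Fintype G], Nat.card G = n →
    ∀ z : G, IsIsolatedInvolution z → CommutatorsInCore z := by
  intro n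
  induction n using Nat.strong_induction_on with
  | _ n ih =>
    intro G _ _ hn z hz
    classical
    subst hn
    by_cases hO : pPrimeCore 2 G = ⊥
    swap
    · -- pass to `G / O(G)`
      have : (pPrimeCore 2 G).Normal := Transfer.pPrimeCore_normal 2 G
      have : Fintype (G ⧸ pPrimeCore 2 G) := Fintype.ofFinite _
      set f := QuotientGroup.mk' (pPrimeCore 2 G)
      have hf : Function.Surjective f := QuotientGroup.mk'_surjective _
      have hker : f.ker = pPrimeCore 2 G := QuotientGroup.ker_mk' _
      have hz1 : f z ≠ 1 := fun h => by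
        have h1 := Transfer.coprime_orderOf_of_mem (Transfer.pPrimeCore_coprime 2)
          (show z ∈ pPrimeCore 2 G from hker ▸ h)
        rw [hz.1] at h1
        norm_num at h1
      have hlt : Nat.card (G ⧸ pPrimeCore 2 G) < Nat.card G := by
        rw [Subgroup.card_eq_card_quotient_mul_card_subgroup (pPrimeCore 2 G)]
        exact lt_mul_of_one_lt_right Nat.card_pos (Finite.one_lt_card_iff_nontrivial.mpr
          ((Subgroup.nontrivial_iff_ne_bot _).mpr hO))
      intro g
      have h := ih _ hlt _ rfl (f z) (isolated_map hz f hf hz1) (f g)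
      rw [← map_inv, ← map_inv, ← map_mul, ← map_mul, ← map_mul,
        PSolvable.pPrimeCore_eq_bot_of_ker hf hker, Subgroup.mem_bot, ← MonoidHom.mem_ker, hker] at h
      exact h
    suffices key : ∀ g, Commute z g from commutatorsInCore_of_commute key
    by_contra hnc
    -- no other central involution
    have hZ : ∀ w : G, orderOf w = 2 → (∀ g, Commute w g) → w = z := by
      intro w hw hwc
      by_contra hne
      have : (Subgroup.zpowers w).Normal := ⟨fun x hx g => by
        obtain ⟨k, rfl⟩ := hx
        show g * w ^ k * g⁻¹ ∈ _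
        rw [← ((hwc g).zpow_left k).eq, mul_inv_cancel_right]
        exact ⟨k, rfl⟩⟩
      have : Fintype (G ⧸ Subgroup.zpowers w) := Fintype.ofFinite _
      have hlt : Nat.card (G ⧸ Subgroup.zpowers w) < Nat.card G := by
        rw [Subgroup.card_eq_card_quotient_mul_card_subgroup (Subgroup.zpowers w)]
        exact lt_mul_of_one_lt_right Nat.card_pos (by rw [Nat.card_zpowers, hw]; norm_num)
      exact hnc fun g => commute_of_central_ne hz hO hw hwc hne (fun v hv => ih _ hlt _ rfl v hv) g
    have hlt : ∀ H : Subgroup G, H ≠ ⊤ → Nat.card H < Nat.card G := fun H hH =>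
      lt_of_le_of_ne (Nat.le_of_dvd Nat.card_pos H.card_subgroup_dvd_card)
        fun e => hH (Subgroup.eq_top_of_card_eq H e)
    -- no proper normal subgroup contains `z`
    have hK : ¬ ∃ K : Subgroup G, K.Normal ∧ K ≠ ⊤ ∧ z ∈ K := by
      rintro ⟨K, hKn, hKt, hzK⟩
      exact hnc fun g => commute_of_mem_normal hz hO K hzK
        (ih _ (hlt K hKt) _ rfl _ (isolated_subtype hz hzK)) g
    have ihC : ∀ w : G, orderOf w = 2 → ¬ (∀ g, Commute w g) →
        ∀ v : Subgroup.centralizer ({w} : Set G), IsIsolatedInvolution v → CommutatorsInCore v := by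
      intro w hw hwn v hv
      refine ih _ (hlt _ fun htop => hwn fun g => ?_) _ rfl v hv
      exact (Subgroup.mem_centralizer_singleton_iff.mp (htop ▸ Subgroup.mem_top g)).symm
    -- `z` is the only involution in its centralizer
    have hone : ∀ y : G, orderOf y = 2 → Commute z y → y = z := by
      intro y hy hc
      by_contra hne
      exact hK (exists_normal_of_commuting hz hy hc hne hZ ihC)
    have hNPC : ¬ HasNormalPComplement 2 G := fun h => hnc (commute_of_hasNormalPComplement hz hO h)
    obtain ⟨P, hP⟩ := (Transfer.isPGroup_zpowers (p := 2) (x := z)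
      ⟨1, by rw [hz.1, pow_one]⟩).exists_le_sylow
    have hzP : z ∈ P := hP (Subgroup.mem_zpowers z)
    have hPC : (P : Subgroup G) ≤ Subgroup.centralizer ({z} : Set G) := fun p hp => by
      rw [Subgroup.mem_centralizer_singleton_iff]
      exact mul_inv_eq_iff_eq_mul.mp
        (Invol.isolated_eq_of_mem_twoGroup hz P.2 hzP p (mul_mem (mul_mem hp hzP) (inv_mem hp)))
    have huniq : ∀ x y : P, orderOf x = 2 → orderOf y = 2 → x = y := fun x y hx hy =>
      Subtype.ext ((hone _ ((Subgroup.orderOf_coe x).trans hx)
          (Subgroup.mem_centralizer_singleton_iff.mp (hPC x.2)).symm).trans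
        (hone _ ((Subgroup.orderOf_coe y).trans hy)
          (Subgroup.mem_centralizer_singleton_iff.mp (hPC y.2)).symm).symm)
    rcases unique_involution_structure P.2 huniq with hcyc | ⟨a, m, hm, ha, hmax, hidx, hout⟩
    · exact hNPC (hasNormalPComplement_of_cyclic P hcyc)
    · rcases Nat.lt_or_ge m 3 with hm3 | hm3
      · have hm2 : m = 2 := by omega
        subst hm2
        exact hK (exists_normal_of_eight P hz.1 hzP hone (by rw [ha]; norm_num) hidx hmax hPC hNPC)
      · exact hK (exists_normal_of_large P hz.1 hone hm3 ha hidx hout)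

/-- **Glauberman's Z*-theorem.** -/
theorem commutatorsInCore_of_isolated {G : Type*} [Group G] [Finite G] {z : G}
    (hz : IsIsolatedInvolution z) : CommutatorsInCore z := by
  have := Fintype.ofFinite G
  exact glauberman_aux (Nat.card G) G rfl z hz

/-- The Z*-theorem, stated with a Sylow 2-subgroup. -/
theorem exists_normal_odd_commutator_mem {G : Type*} [Group G] [Finite G] (P : Sylow 2 G) (z : G)
    (hz : orderOf z = 2) (hzP : z ∈ P) (hiso : ∀ g : G, g * z * g⁻¹ ∈ P → g * z * g⁻¹ = z) :
    ∃ N : Subgroup G, N.Normal ∧ Odd (Nat.card N) ∧ ∀ g : G, z * g * z⁻¹ * g⁻¹ ∈ N :=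
  ⟨pPrimeCore 2 G, Transfer.pPrimeCore_normal 2 G, odd_card_core,
    commutatorsInCore_of_isolated (Invol.isolated_of_sylow P hz hzP hiso)⟩

end CfsgLib.ZStar
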