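import Cfsg.Agent.Lib.Invol.Dihedral
import Cfsg.Agent.Lib.PSolvable.Core
import Cfsg.Agent.Lib.Transfer.Cyclic
import Cfsg.Agent.Lib.Transfer.Focal
import Cfsg.Agent.Lib.Char.Kernel
import Cfsg.Agent.Lib.Blocks.Idempotent

/-!
# Isolated involutions: reductions for the Z*-theorem
-/

set_option autoImplicit false

namespace CfsgLib.ZStar

open Cfsg

variable {G : Type*} [Group G]

/-- All commutators of `u` lie in `O(G)`. -/
def CommutatorsInCore (u : G) : Prop :=
  ∀ g : G, u * g * u⁻¹ * g⁻¹ ∈ pPrimeCore 2 G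

theorem eq_of_isConj_of_commute {u a b : G} (hu : IsIsolatedInvolution u) (ha : IsConj u a)
    (hb : IsConj u b) (hc : Commute a b) : a = b := by
  obtain ⟨g, rfl⟩ := isConj_iff.mp ha
  obtain ⟨h, rfl⟩ := isConj_iff.mp hb
  have e : h * g⁻¹ * (g * u * g⁻¹) * (h * g⁻¹)⁻¹ = h * u * h⁻¹ := by group
  have := (Invol.isolated_conj hu g).2 (h * g⁻¹) (by rwa [e])
  rw [e] at this
  exact this.symm

theorem conj_eq_of_commute {u : G} (hu : IsIsolatedInvolution u) {g : G}
    (h : Commute u (g * u * g⁻¹)) : Commute g u := mul_inv_eq_iff_eq_mul.mp (hu.2 g h)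

theorem isolated_subtype {u : G} (hu : IsIsolatedInvolution u) {H : Subgroup G} (hH : u ∈ H) :
    IsIsolatedInvolution (⟨u, hH⟩ : H) := by
  refine ⟨by rw [← Subgroup.orderOf_coe]; exact hu.1, fun g hc => Subtype.ext ?_⟩
  exact hu.2 g (congrArg Subtype.val hc.eq)

theorem isolated_map [Finite G] {u : G} (hu : IsIsolatedInvolution u) {Q : Type*} [Group Q]
    (f : G →* Q) (hf : Function.Surjective f) (h1 : f u ≠ 1) : IsIsolatedInvolution (f u) := by
  have h2 : f u * f u = 1 := by rw [← map_mul, Invol.mul_self_of_orderOf_two hu.1, map_one]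
  refine ⟨Invol.orderOf_two_of_mul_self h2 h1, fun q hc => ?_⟩
  obtain ⟨g, rfl⟩ := hf q
  rw [← map_inv, ← map_mul, ← map_mul] at hc ⊢
  have hodd := (Invol.isolated_odd hu (IsConj.refl u) (isConj_iff.mpr ⟨g, rfl⟩)).of_dvd_nat
    (orderOf_map_dvd f (u * (g * u * g⁻¹)))
  rw [map_mul] at hodd
  have hv : f (g * u * g⁻¹) * f (g * u * g⁻¹) = 1 := by
    rw [← map_mul, Invol.mul_self_of_orderOf_two (Invol.conj_orderOf_two hu.1 g), map_one]
  have hsq : f u * f (g * u * g⁻¹) * (f u * f (g * u * g⁻¹)) = 1 := by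
    rw [hc.symm.mul_mul_mul_comm, h2, hv, one_mul]
  exact (mul_left_cancel (h2.trans (Invol.eq_one_of_odd_of_sq hodd hsq).symm)).symm

theorem odd_orderOf_commutator [Finite G] {u : G} (hu : IsIsolatedInvolution u) (g : G) :
    Odd (orderOf (u * g * u⁻¹ * g⁻¹)) := by
  have h := Invol.isolated_odd hu (IsConj.refl u) (isConj_iff.mpr ⟨g, rfl⟩)
  rw [Invol.inv_of_orderOf_two hu.1]
  rwa [show u * g * u * g⁻¹ = u * (g * u * g⁻¹) by group]

/-- Conjugates of `u` commuting with `y` are conjugate under the centralizer of `y`. -/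
theorem exists_conj_commute [Finite G] {u v y : G} (hu : IsIsolatedInvolution u) (hv : IsConj u v)
    (hyu : Commute y u) (hyv : Commute y v) : ∃ c : G, Commute y c ∧ c * u * c⁻¹ = v := by
  have hv2 : orderOf v = 2 := by
    obtain ⟨g, rfl⟩ := isConj_iff.mp hv
    exact Invol.conj_orderOf_two hu.1 g
  obtain ⟨k, hk⟩ := Invol.exists_zpow_conj_of_odd hu.1 hv2
    (Invol.isolated_odd hu (IsConj.refl u) hv)
  exact ⟨_, (hyu.mul_right hyv).zpow_right k, hk⟩

theorem odd_card_core [Finite G] : Odd (Nat.card (pPrimeCore 2 G)) :=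
  Nat.coprime_two_right.mp (Transfer.pPrimeCore_coprime 2)

theorem commute_of_commutatorsInCore {u : G} (hO : pPrimeCore 2 G = ⊥) (h : CommutatorsInCore u)
    (g : G) : Commute u g := by
  have := h g
  rw [hO, Subgroup.mem_bot, mul_inv_eq_one, mul_inv_eq_iff_eq_mul] at this
  exact this

theorem commutatorsInCore_of_commute {u : G} (h : ∀ g : G, Commute u g) : CommutatorsInCore u :=
  fun g => by rw [(h g).eq, mul_inv_cancel_right, mul_inv_cancel]; exact one_mem _

/-- The hypothesis in a proper normal subgroup gives centrality. -/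
theorem commute_of_mem_normal [Finite G] {u : G} (hu : IsIsolatedInvolution u)
    (hO : pPrimeCore 2 G = ⊥) (K : Subgroup G) [K.Normal] (huK : u ∈ K)
    (h : CommutatorsInCore (⟨u, huK⟩ : K)) (g : G) : Commute u g := by
  have hcK : ∀ k ∈ K, Commute u k := by
    intro k hk
    have h1 := PSolvable.map_pPrimeCore_le K (Subgroup.mem_map_of_mem _ (h ⟨k, hk⟩))
    rw [hO, Subgroup.mem_bot] at h1
    simp only [Subgroup.coe_subtype, Subgroup.coe_mul, Subgroup.coe_inv] at h1
    rw [mul_inv_eq_one, mul_inv_eq_iff_eq_mul] at h1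
    exact h1
  exact (conj_eq_of_commute hu (hcK _ (Subgroup.Normal.conj_mem inferInstance u huK g))).symm

/-- A nontrivial irreducible character with `χ u = χ 1` gives a proper normal subgroup. -/
theorem exists_normal_of_value_eq [Fintype G] {χ : IrrCharacter G} (hne : χ ≠ Blocks.trivIrr G)
    {u : G} (h : (χ : G → ℂ) u = (χ : G → ℂ) 1) :
    ∃ K : Subgroup G, K.Normal ∧ K ≠ ⊤ ∧ u ∈ K := by
  obtain ⟨K, hKn, hK, -⟩ := Char.exists_kernel (Char.isCharacter_of_isIrr χ.2)
  refine ⟨K, hKn, fun htop => hne ?_, (hK u).mpr h⟩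
  have hc : ∀ g : G, (χ : G → ℂ) g = (χ : G → ℂ) 1 := fun g =>
    (hK g).mp (htop ▸ Subgroup.mem_top g)
  by_contra hcon
  have h' := Char.classInner_coe χ (Blocks.trivIrr G)
  rw [if_neg hcon] at h'
  simp [classInner, Blocks.trivIrr, hc, Finset.card_univ, Nat.card_eq_fintype_card,
    Char.irr_degree_ne_zero χ.2] at h'

/-- A cyclic Sylow 2-subgroup has a normal complement. -/
theorem hasNormalPComplement_of_cyclic [Finite G] (P : Sylow 2 G)
    (hP : IsCyclic (P : Subgroup G)) : HasNormalPComplement 2 G := by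
  obtain ⟨t, ht⟩ := Transfer.exists_zpowers_eq_of_isCyclic _ hP
  by_cases ht1 : t = 1
  · refine Transfer.hasNormalPComplement_of_central P ?_
    rw [ht, ht1, Subgroup.zpowers_one_eq_bot]
    exact bot_le
  refine Transfer.hasNormalPComplement_of_normalizer_le_centralizer P
    (Transfer.normalizer_le_centralizer_of_zpow P ht fun g _ _ r hr => ?_)
  rcases Int.even_or_odd r with ⟨s, hs⟩ | ⟨s, hs⟩
  · exfalso
    obtain ⟨k, hk⟩ := IsPGroup.iff_orderOf.mp P.2 ⟨t, ht ▸ Subgroup.mem_zpowers t⟩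
    rw [← Subgroup.orderOf_coe] at hk
    simp only at hk
    rcases Nat.eq_zero_or_pos k with rfl | hk0
    · exact ht1 (orderOf_eq_one_iff.mp (by rw [hk, pow_zero]))
    obtain ⟨j, rfl⟩ : ∃ j, k = j + 1 := ⟨k - 1, by omega⟩
    have h1 : (g * t * g⁻¹) ^ (2 ^ j) = 1 := by
      rw [hr, hs, ← two_mul, ← zpow_natCast, ← zpow_mul,
        show 2 * s * ((2 ^ j : ℕ) : ℤ) = ((2 ^ (j + 1) : ℕ) : ℤ) * s by push_cast; ring,
        zpow_mul, zpow_natCast, ← hk, pow_orderOf_eq_one, one_zpow]
    rw [conj_pow, mul_inv_eq_one, mul_eq_left] at h1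
    have := Nat.le_of_dvd (by positivity) (orderOf_dvd_of_pow_eq_one h1)
    rw [hk, pow_succ] at this
    have := Nat.two_pow_pos j
    omega
  · exact ⟨s, by push_cast; omega⟩

/-- With a normal 2-complement and trivial odd core, isolated involutions are central. -/
theorem commute_of_hasNormalPComplement [Finite G] {u : G} (hu : IsIsolatedInvolution u)
    (hO : pPrimeCore 2 G = ⊥) (h : HasNormalPComplement 2 G) (g : G) : Commute u g := by
  have hG : IsPGroup 2 G := by
    have : (pResidual 2 G).Normal := Transfer.pResidual_normal 2 G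
    have h1 := Transfer.isPGroup_quotient_pResidual (p := 2) (G := G)
    refine h1.of_equiv ?_
    exact QuotientGroup.quotientMulEquivOfEq
      ((Transfer.pPrimeCore_eq_pResidual h).symm.trans hO) |>.trans QuotientGroup.quotientBot
  exact (mul_inv_eq_iff_eq_mul.mp (Invol.isolated_eq_of_mem_twoGroup hu
    (hG.to_subgroup ⊤) (Subgroup.mem_top u) g (Subgroup.mem_top _))).symm

/-- A group with central Sylow 2-subgroup: its elements of odd order form the odd core. -/
theorem mem_core_of_odd_orderOf [Finite G] {z : G} (hz : orderOf z = 2) (hzc : ∀ g : G, Commute z g)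
    (hcard : Odd (Nat.card G / 2)) {x : G} (hx : Odd (orderOf x)) : x ∈ pPrimeCore 2 G := by
  obtain ⟨P, hP⟩ := (IsPGroup.of_card (G := Subgroup.zpowers z) (p := 2) (n := 1)
    (by rw [Nat.card_zpowers, hz, pow_one])).exists_le_sylow
  have h2 : 2 ∣ Nat.card G := hz ▸ orderOf_dvd_natCard z
  have hPz : (P : Subgroup G) = Subgroup.zpowers z := by
    refine (Subgroup.eq_of_le_of_card_ge hP ?_).symm
    rw [Nat.card_zpowers, hz]
    obtain ⟨n, hn⟩ := IsPGroup.iff_card.mp P.2
    rw [hn]
    rcases le_or_gt n 1 with h | h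
    · exact (Nat.pow_le_pow_right two_pos h).trans_eq (pow_one 2)
    · exfalso
      have h4 : 2 ^ 2 ∣ Nat.card G :=
        ((pow_dvd_pow 2 h).trans (hn ▸ Subgroup.card_subgroup_dvd_card _))
      obtain ⟨a, ha⟩ := h4
      obtain ⟨b, hb⟩ := hcard
      omega
  have hnpc : HasNormalPComplement 2 G := Transfer.hasNormalPComplement_of_central P (by
    rw [hPz, Subgroup.zpowers_le, Subgroup.mem_center_iff]
    exact fun g => (hzc g).eq.symm)
  rw [Transfer.pPrimeCore_eq_pResidual hnpc]
  exact Transfer.mem_pResidual_of_coprime (Nat.coprime_two_right.mpr hx)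

/-- The step through a central involution `z ≠ u`. -/
theorem commute_of_central_ne [Finite G] {u z : G} (hu : IsIsolatedInvolution u)
    (hO : pPrimeCore 2 G = ⊥) (hz : orderOf z = 2) (hzc : ∀ g : G, Commute z g) (hne : z ≠ u)
    [(Subgroup.zpowers z).Normal]
    (ih : ∀ v : G ⧸ Subgroup.zpowers z, IsIsolatedInvolution v → CommutatorsInCore v) (g : G) :
    Commute u g := by
  set f := QuotientGroup.mk' (Subgroup.zpowers z)
  have hf : Function.Surjective f := QuotientGroup.mk'_surjective _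
  have hker : f.ker = Subgroup.zpowers z := QuotientGroup.ker_mk' _
  have hu1 : f u ≠ 1 := by
    intro h
    have hm : u ∈ Subgroup.zpowers z := hker ▸ h
    obtain ⟨k, hk⟩ := hm
    simp only at hk
    have hz2 : z ^ (2 : ℤ) = 1 := by rw [zpow_two, Invol.mul_self_of_orderOf_two hz]
    rcases Int.even_or_odd k with ⟨s, rfl⟩ | ⟨s, rfl⟩
    · rw [← two_mul, zpow_mul, hz2, one_zpow] at hk
      exact Invol.ne_one_of_orderOf_two hu.1 hk.symm
    · rw [zpow_add_one, zpow_mul, hz2, one_zpow, one_mul] at hk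
      exact hne hk
  set L := (pPrimeCore 2 (G ⧸ Subgroup.zpowers z)).comap f
  have : L.Normal := (Transfer.pPrimeCore_normal 2 _).comap f
  have hcard : Nat.card L = 2 * Nat.card (pPrimeCore 2 (G ⧸ Subgroup.zpowers z)) := by
    rw [PSolvable.card_comap_of_surjective hf, hker, Nat.card_zpowers, hz]
  have hmem : u * g * u⁻¹ * g⁻¹ ∈ L := by
    have h := ih _ (isolated_map hu f hf hu1) (f g)
    rwa [← map_inv, ← map_inv, ← map_mul, ← map_mul, ← map_mul] at h
  have hzL : z ∈ L := by
    rw [Subgroup.mem_comap, show f z = 1 from MonoidHom.mem_ker.mp (by rw [hker]; exact Subgroup.mem_zpowers z)]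
    exact one_mem _
  have h1 := mem_core_of_odd_orderOf (z := (⟨z, hzL⟩ : L)) (by rw [← Subgroup.orderOf_coe]; exact hz)
    (fun a => Subtype.ext (hzc a).eq) (by
      rw [hcard, Nat.mul_div_cancel_left _ two_pos]
      exact odd_card_core)
    (x := ⟨_, hmem⟩) (by rw [← Subgroup.orderOf_coe]; exact odd_orderOf_commutator hu g)
  have h2 := PSolvable.map_pPrimeCore_le L (Subgroup.mem_map_of_mem _ h1)
  rw [hO, Subgroup.mem_bot] at h2
  simp only [Subgroup.coe_subtype] at h2
  rw [mul_inv_eq_one, mul_inv_eq_iff_eq_mul] at h2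
  exact h2

end CfsgLib.ZStar
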