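import Mathlib

/-!
# The integer vectors with inner products 4, 3, 2, 1
-/

set_option autoImplicit false

namespace CfsgLib.ZStar

/-- A sum of squares at most three consists of signs. -/
theorem support_signs {ι : Type*} (s : Finset ι) (m : ι → ℤ) {k : ℕ} (hk : k ≤ 3)
    (h : ∑ i ∈ s, m i * m i = k) :
    (s.filter fun i => m i ≠ 0).card = k ∧ ∀ i ∈ s, m i ≠ 0 → m i = 1 ∨ m i = -1 := by
  have hpm : ∀ i ∈ s, m i ≠ 0 → m i = 1 ∨ m i = -1 := by
    intro i hi h0
    have h1 : m i * m i ≤ k := h ▸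
      Finset.single_le_sum (f := fun i => m i * m i) (fun i _ => mul_self_nonneg _) hi
    have h3 : (k : ℤ) ≤ 3 := by exact_mod_cast hk
    have h2 : -2 < m i := by nlinarith
    have h4 : m i < 2 := by nlinarith
    omega
  refine ⟨?_, hpm⟩
  rw [← Finset.sum_filter_of_ne (p := fun i => m i ≠ 0) fun i _ h0 h1 => h0 (by rw [h1, mul_zero]),
    Finset.sum_congr rfl (g := fun _ => (1 : ℤ)) fun i hi => by
      rcases hpm i (Finset.mem_filter.mp hi).1 (Finset.mem_filter.mp hi).2 with e | e <;> simp [e],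
    Finset.sum_const, nsmul_one] at h
  exact_mod_cast h

/-- The vector of norm four and the three vectors of norm three use seven coordinates. -/
theorem seven_vectors {ι : Type*} [Fintype ι] [DecidableEq ι] (i₀ : ι) (c₀ : ι → ℤ)
    (c : Fin 3 → ι → ℤ) (d : ι → ℤ) (hd : ∀ i, d i ≠ 0) (h0 : c₀ i₀ = 1) (h1 : ∀ a, c a i₀ = 1)
    (n0 : ∑ i, c₀ i * c₀ i = 4) (n01 : ∀ a, ∑ i, c₀ i * c a i = 2)
    (n11 : ∀ a b, ∑ i, c a i * c b i = if a = b then 3 else 1) (hdeg : ∀ a, ∑ i, c a i * d i = 0) :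
    ∃ A B : Fin 3 → ι, Function.Injective A ∧ Function.Injective B ∧ (∀ a, A a ≠ i₀) ∧
      (∀ a, B a ≠ i₀) ∧ (∀ a b, A a ≠ B b) ∧ (∀ a, c₀ (A a) = 1 ∨ c₀ (A a) = -1) ∧
      (∀ a, c a (A a) = c₀ (A a)) ∧ (∀ a, c a (B a) = 1 ∨ c a (B a) = -1) ∧
      (∀ i, c₀ i ≠ 0 → i = i₀ ∨ ∃ a, i = A a) ∧
      (∀ a i, c a i ≠ 0 → i = i₀ ∨ i = A a ∨ i = B a) := by
  set s := (Finset.univ : Finset ι).erase i₀
  have hsplit : ∀ f : ι → ℤ, ∑ i, f i = f i₀ + ∑ i ∈ s, f i := fun f =>
    (Finset.add_sum_erase Finset.univ f (Finset.mem_univ i₀)).symm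
  have s0 : ∑ i ∈ s, c₀ i * c₀ i = (3 : ℕ) := by
    have := hsplit fun i => c₀ i * c₀ i
    rw [n0, h0] at this; push_cast; linarith
  have sa : ∀ a, ∑ i ∈ s, c a i * c a i = (2 : ℕ) := fun a => by
    have := hsplit fun i => c a i * c a i
    rw [n11, if_pos rfl, h1] at this; push_cast; linarith
  have s01 : ∀ a, ∑ i ∈ s, c₀ i * c a i = 1 := fun a => by
    have := hsplit fun i => c₀ i * c a i
    rw [n01, h0, h1] at this; linarith
  have sab : ∀ a b, a ≠ b → ∑ i ∈ s, c a i * c b i = 0 := fun a b hab => by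
    have := hsplit fun i => c a i * c b i
    rw [n11, if_neg hab, h1, h1] at this; linarith
  obtain ⟨hc0, hp0⟩ := support_signs s c₀ le_rfl s0
  have hAB : ∀ a, ∃ A B : ι, A ∈ s ∧ B ∈ s ∧ A ≠ B ∧ (c₀ A = 1 ∨ c₀ A = -1) ∧ c a A = c₀ A ∧
      c₀ B = 0 ∧ (c a B = 1 ∨ c a B = -1) ∧ ∀ i ∈ s, c a i ≠ 0 → i = A ∨ i = B := by
    intro a
    obtain ⟨hca, hpa⟩ := support_signs s (c a) (by norm_num) (sa a)
    obtain ⟨p, q, hpq, hS⟩ := Finset.card_eq_two.mp hca
    have hp : p ∈ s ∧ c a p ≠ 0 := Finset.mem_filter.mp (hS ▸ Finset.mem_insert_self p _)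
    have hq : q ∈ s ∧ c a q ≠ 0 :=
      Finset.mem_filter.mp (hS ▸ Finset.mem_insert_of_mem (Finset.mem_singleton_self q))
    have hsupp : ∀ i ∈ s, c a i ≠ 0 → i = p ∨ i = q := fun i hi hne => by
      simpa [hS] using (Finset.mem_filter.mpr ⟨hi, hne⟩ : i ∈ s.filter fun i => c a i ≠ 0)
    have e : c₀ p * c a p + c₀ q * c a q = 1 := by
      rw [← s01 a, ← Finset.sum_pair (f := fun i => c₀ i * c a i) hpq, ← hS]
      exact Finset.sum_filter_of_ne fun i _ hne h' => hne (by rw [h', mul_zero])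
    have hpp : c₀ p = 0 ∨ c₀ p = 1 ∨ c₀ p = -1 := by
      by_cases h' : c₀ p = 0
      · exact Or.inl h'
      · exact Or.inr (hp0 p hp.1 h')
    have hqq : c₀ q = 0 ∨ c₀ q = 1 ∨ c₀ q = -1 := by
      by_cases h' : c₀ q = 0
      · exact Or.inl h'
      · exact Or.inr (hp0 q hq.1 h')
    rcases hpa p hp.1 hp.2 with ep | ep <;> rcases hpa q hq.1 hq.2 with eq | eq <;>
      rw [ep, eq] at e <;>
      rcases hpp with fp | fp | fp <;> rcases hqq with fq | fq | fq <;> rw [fp, fq] at e <;>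
      norm_num at e <;>
      first
        | exact ⟨p, q, hp.1, hq.1, hpq, by omega, by omega, fq, by omega, hsupp⟩
        | exact ⟨q, p, hq.1, hp.1, hpq.symm, by omega, by omega, fp, by omega,
            fun i hi hne => (hsupp i hi hne).symm⟩
  choose A B hAs hBs hne hA0 hAa hB0 hBa hsupp using hAB
  have hAB' : ∀ a b, A a ≠ B b := fun a b e => by
    have := hA0 a
    rw [e, hB0 b] at this
    omega
  have hpair : ∀ a b, a ≠ b → c a (A a) * c b (A a) + c a (B a) * c b (B a) = 0 := fun a b hab => by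
    rw [← sab a b hab, ← Finset.sum_pair (f := fun i => c a i * c b i) (hne a)]
    refine Finset.sum_subset (fun i hi => ?_) fun i hi hni => ?_
    · rcases Finset.mem_insert.mp hi with rfl | hi
      · exact hAs a
      · rw [Finset.mem_singleton.mp hi]; exact hBs a
    · by_cases h' : c a i = 0
      · rw [h', zero_mul]
      · exact absurd (by simpa using hsupp a i hi h') hni
  have hzeroA : ∀ a b, A a ≠ A b → c b (A a) = 0 := fun a b hab => by
    by_contra h'
    rcases hsupp b _ (hAs a) h' with e | e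
    · exact hab e
    · exact hAB' a b e
  have hzeroB : ∀ a b, B a ≠ B b → c b (B a) = 0 := fun a b hab => by
    by_contra h'
    rcases hsupp b _ (hBs a) h' with e | e
    · exact hAB' b a e.symm
    · exact hab e
  have hAinj : Function.Injective A := by
    intro a b hab
    by_contra hne'
    have e := hpair a b hne'
    rw [hAa a, hab, hAa b] at e
    have hsq : c₀ (A b) * c₀ (A b) = 1 := by rcases hA0 b with e' | e' <;> simp [e']
    rw [hsq] at e
    have hBB : B a = B b := by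
      by_contra h'
      rw [hzeroB a b h', mul_zero, add_zero] at e
      omega
    have hex : ∀ x, ∑ i, c x i * d i = d i₀ + c₀ (A x) * d (A x) + c x (B x) * d (B x) := by
      intro x
      rw [hsplit, h1, one_mul, add_assoc]
      congr 1
      rw [← hAa x, ← Finset.sum_pair (f := fun i => c x i * d i) (hne x)]
      symm
      refine Finset.sum_subset (fun i hi => ?_) fun i hi hni => ?_
      · rcases Finset.mem_insert.mp hi with rfl | hi
        · exact hAs x
        · rw [Finset.mem_singleton.mp hi]; exact hBs x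
      · by_cases h' : c x i = 0
        · rw [h', zero_mul]
        · exact absurd (by simpa using hsupp x i hi h') hni
    have ea := hdeg a
    have eb := hdeg b
    rw [hex, hab, hBB] at ea
    rw [hex] at eb
    rw [hBB] at e
    have h2 : (c a (B b) - c b (B b)) * d (B b) = 0 := by linarith
    rcases mul_eq_zero.mp h2 with h3 | h3
    · rw [sub_eq_zero.mp h3] at e
      nlinarith [mul_self_nonneg (c b (B b))]
    · exact hd _ h3
  have hBinj : Function.Injective B := by
    intro a b hab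
    by_contra hne'
    have e := hpair a b hne'
    rw [hzeroA a b (fun h' => hne' (hAinj h')), mul_zero, zero_add] at e
    rcases mul_eq_zero.mp e with h' | h'
    · rcases hBa a with e' | e' <;> omega
    · rw [hab] at h'
      rcases hBa b with e' | e' <;> omega
  refine ⟨A, B, hAinj, hBinj, fun a => Finset.ne_of_mem_erase (hAs a),
    fun a => Finset.ne_of_mem_erase (hBs a), hAB', hA0, hAa, hBa, fun i hi => ?_, fun a i hi => ?_⟩
  · by_cases hi0 : i = i₀
    · exact Or.inl hi0
    · right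
      have hsub : Finset.univ.image A ⊆ s.filter fun i => c₀ i ≠ 0 := fun j hj => by
        obtain ⟨a, -, rfl⟩ := Finset.mem_image.mp hj
        exact Finset.mem_filter.mpr ⟨hAs a, by rcases hA0 a with e | e <;> omega⟩
      have heq := Finset.eq_of_subset_of_card_le hsub
        (by rw [hc0, Finset.card_image_of_injective _ hAinj]; simp)
      have := (Finset.mem_filter.mpr ⟨Finset.mem_erase.mpr ⟨hi0, Finset.mem_univ i⟩, hi⟩ :
        i ∈ s.filter fun i => c₀ i ≠ 0)
      rw [← heq] at this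
      obtain ⟨a, -, ha⟩ := Finset.mem_image.mp this
      exact ⟨a, ha.symm⟩
  · by_cases hi0 : i = i₀
    · exact Or.inl hi0
    · exact Or.inr (hsupp a i (Finset.mem_erase.mpr ⟨hi0, Finset.mem_univ i⟩) hi)

/-- The numerical conclusion. -/
theorem seven_values (g p q A B : Fin 3 → ℤ) (hg : 1 + ∑ a, g a = 0) (hp : 1 + ∑ a, p a = 0)
    (hq : ∀ a, 1 + p a + q a = 2 * (1 + g a))
    (hbound : 1 + ∑ a, (p a * p a + q a * q a) ≤ 2 * (1 + ∑ a, g a * g a))
    (hB : ∀ a, 1 + A a + B a = 0)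
    (hthree : ∀ a, A a * B a + p a * p a * B a + q a * q a * A a = 0) : ∀ a, p a = A a := by
  simp only [Fin.sum_univ_three] at hg hp hbound
  have hq' : ∀ a, q a = 1 + 2 * g a - p a := fun a => by linarith [hq a]
  simp only [hq'] at hbound
  have h0 : ∀ x : ℤ, 0 ≤ x * x - x := fun x => by
    rcases le_or_gt x 0 with h | h <;> nlinarith
  have key : ∀ x : ℤ, x * x - x = 0 → x = 0 ∨ x = 1 := fun x hx => by
    rcases mul_eq_zero.mp (show x * (x - 1) = 0 by linarith) with h | h
    · exact Or.inl h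
    · exact Or.inr (by linarith)
  have hsum : ((p 0 - g 0) * (p 0 - g 0) - (p 0 - g 0)) + ((p 1 - g 1) * (p 1 - g 1) - (p 1 - g 1)) +
      ((p 2 - g 2) * (p 2 - g 2) - (p 2 - g 2)) ≤ 0 := by linarith
  have e0 := key _ (le_antisymm (by linarith [h0 (p 1 - g 1), h0 (p 2 - g 2)]) (h0 (p 0 - g 0)))
  have e1 := key _ (le_antisymm (by linarith [h0 (p 0 - g 0), h0 (p 2 - g 2)]) (h0 (p 1 - g 1)))
  have e2 := key _ (le_antisymm (by linarith [h0 (p 0 - g 0), h0 (p 1 - g 1)]) (h0 (p 2 - g 2)))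
  have hd : ∀ a, p a = g a := by
    intro a
    fin_cases a <;> simp only [Fin.zero_eta, Fin.mk_one, Fin.reduceFinMk] <;> omega
  intro a
  have hB' : B a = -1 - A a := by linarith [hB a]
  have h3 := hthree a
  rw [hq', hd a, hB'] at h3
  have h4 : (A a - g a) * (A a - g a) = 0 := by linarith
  rw [hd a]
  exact (sub_eq_zero.mp (mul_self_eq_zero.mp h4)).symm

end CfsgLib.ZStar
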