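import Cfsg.Agent.Lib.ZStar.EightLocal
import Cfsg.Agent.Lib.ZStar.SevenVectors
import Cfsg.Agent.Lib.Char.TI

/-!
# A quaternion Sylow 2-subgroup of order 8
-/

set_option autoImplicit false
set_option linter.unusedSectionVars false

namespace CfsgLib.ZStar

open Cfsg
open scoped ComplexConjugate CfsgLib.Char

variable {G : Type*} [Group G] [Fintype G]

/-- The values of a character at an involution are integers. -/
theorem exists_int_value_involution {χ : IrrCharacter G} {t : G} (ht : t * t = 1) :
    ∃ m : ℤ, (χ : G → ℂ) t = m := by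
  obtain ⟨n, ρ, hρ, hχ⟩ := χ.2
  obtain ⟨b, μ, hμ, hb⟩ := Char.exists_eigenBasis_of_pow_eq_one (ρ t) two_ne_zero
    (by rw [pow_two, ← map_mul, ht, map_one])
  have hμ1 : ∀ i, ∃ e : ℤ, μ i = e := fun i => by
    rcases sq_eq_one_iff.mp (hμ i) with e | e
    · exact ⟨1, by simp [e]⟩
    · exact ⟨-1, by simp [e]⟩
  choose e he using hμ1
  refine ⟨∑ i, e i, ?_⟩
  rw [← hχ]
  show LinearMap.trace ℂ _ (ρ t) = _
  rw [Char.trace_eq_sum_of_diag b _ _ hb, Int.cast_sum]
  exact Finset.sum_congr rfl fun i _ => he i

/-- The regular part of the sum at a section, over the centralizer of `t`. -/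
theorem sum_section_eq_zero {M : Ideal AlgInt} (hM : IsPModular 2 M) {t : G}
    [Fintype (Subgroup.centralizer ({t} : Set G))]
    {χ : IrrCharacter G} (hχ : χ ∉ principalBlock M G) (x : Subgroup.centralizer ({t} : Set G))
    (hx : ∃ k : ℕ, orderOf x = 2 ^ k)
    (hle : Subgroup.centralizer ({(x : G)} : Set G) ≤ Subgroup.centralizer ({t} : Set G))
    [DecidablePred fun r : Subgroup.centralizer ({t} : Set G) => Commute x r ∧ IsPRegular 2 r] :
    ∑ r : Subgroup.centralizer ({t} : Set G) with Commute x r ∧ IsPRegular 2 r,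
      conj ((χ : G → ℂ) ((x : G) * (r : G))) = 0 := by
  classical
  have := Blocks.isPrime_of_isPModular hM
  have hT : Blocks.trivIrr (Subgroup.centralizer ({(x : G)} : Set G)) ∈
      principalBlock M (Subgroup.centralizer ({(x : G)} : Set G)) := by
    rw [Blocks.principalBlock_eq]
    exact Blocks.mem_blockOf_self (Blocks.trivIrr _)
  obtain ⟨k, hk⟩ := hx
  have h := congrArg conj (Blocks.sum_regPart_mul_conj_eq_zero hM (x := (x : G))
    ⟨k, (Subgroup.orderOf_coe x).trans hk⟩ hχ hT)
  rw [map_zero, map_sum] at h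
  simp only [Blocks.trivIrr, map_one, mul_one] at h
  rw [← Finset.sum_filter_add_sum_filter_not Finset.univ (IsPRegular 2),
    Finset.sum_eq_zero (s := Finset.univ.filter fun r => ¬ IsPRegular 2 r) (fun r hr => by
      rw [Blocks.regPart_of_singular (Finset.mem_filter.mp hr).2, map_zero]), add_zero] at h
  rw [← h]
  symm
  refine Finset.sum_bij (fun r _ => (⟨(r : G), hle r.2⟩ : Subgroup.centralizer ({t} : Set G)))
    (fun r hr => ?_) (fun r _ r' _ e => Subtype.ext (congrArg Subtype.val e :)) (fun r hr => ?_)
    (fun r hr => ?_)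
  · refine Finset.mem_filter.mpr ⟨Finset.mem_univ _, ?_, ?_⟩
    · exact Subtype.ext (Subgroup.mem_centralizer_singleton_iff.mp r.2).symm
    · rw [IsPRegular, Subgroup.orderOf_mk]
      have := (Finset.mem_filter.mp hr).2
      rwa [IsPRegular, ← Subgroup.orderOf_coe] at this
  · obtain ⟨hc, hreg⟩ := (Finset.mem_filter.mp hr).2
    refine ⟨⟨(r : G), Subgroup.mem_centralizer_singleton_iff.mpr (congrArg Subtype.val hc.eq).symm⟩,
      Finset.mem_filter.mpr ⟨Finset.mem_univ _, ?_⟩, rfl⟩
    rw [IsPRegular, Subgroup.orderOf_mk, Subgroup.orderOf_coe]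
    exact hreg
  · rw [Blocks.regPart_of_regular (Finset.mem_filter.mp hr).2]

/-- The case of a quaternion Sylow subgroup of order 8. -/
theorem exists_normal_of_eight (P : Sylow 2 G) {t : G} (ht : orderOf t = 2) (htP : t ∈ P)
    (hone : ∀ y : G, orderOf y = 2 → Commute t y → y = t) {a : P} (ha : orderOf a = 4)
    (hidx : (Subgroup.zpowers a).index = 2) (hmax : ∀ x : P, x ^ 2 ^ 2 = 1)
    (hPC : (P : Subgroup G) ≤ Subgroup.centralizer ({t} : Set G))
    (hNPC : ¬ HasNormalPComplement 2 G) :
    ∃ K : Subgroup G, K.Normal ∧ K ≠ ⊤ ∧ t ∈ K := by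
  classical
  obtain ⟨M, hM⟩ := Blocks.exists_isPModular (p := 2) Nat.prime_two
  have := Blocks.isPrime_of_isPModular hM
  have hD := eightData_centralizer P ht htP hone ha hidx hmax hPC hNPC
  obtain ⟨ψ, ε, F⟩ := exists_eightFamily hD hM
  set t' : Subgroup.centralizer ({t} : Set G) := ⟨t, Subgroup.mem_centralizer_singleton_iff.mpr rfl⟩
  set θ : Fin 3 → Subgroup.centralizer ({t} : Set G) → ℂ := fun a =>
    eightTheta (ψ a : Subgroup.centralizer ({t} : Set G) → ℂ) (ε a)
  set Ψ : Subgroup.centralizer ({t} : Set G) → ℂ := eightPsi ψ ε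
  have htt : t * t = 1 := Invol.mul_self_of_orderOf_two ht
  have hti : t⁻¹ = t := inv_eq_of_mul_eq_one_right htt
  have hθgen : ∀ a, IsGeneralizedCharacter _ (θ a) := fun a =>
    isGeneralized_eightTheta hD (F.invariant a) (F.sign a) (F.value a)
  have hΨgen : IsGeneralizedCharacter _ Ψ := by
    show IsGeneralizedCharacter _ (eightPsi ψ ε)
    rw [eightPsi_eq]
    exact Char.isGeneralized_add (Char.isGeneralized_of_isIrr (Blocks.trivIrr _).2)
      (Char.isGeneralized_sum _ _ fun a _ =>
        Char.isGeneralized_intCast_smul (Char.isGeneralized_of_isIrr (ψ a).2) (ε a))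
  have hθreg : ∀ a c, ¬ 2 ∣ orderOf c → θ a c = 0 := fun a c hc => by
    simp only [θ, eightTheta]
    rw [if_neg fun h => hc ((by norm_num : 2 ∣ 4).trans h), if_neg hc]
  have hΨreg : ∀ c, ¬ 4 ∣ orderOf c → Ψ c = 0 := fun c hc => by
    rw [show Ψ c = _ from F.psi c, if_neg hc]
  -- the TI set
  set T : Set G := {x | x ∈ Subgroup.centralizer ({t} : Set G) ∧ 2 ∣ orderOf x}
  have hTI : ∀ g : G, g ∉ Subgroup.centralizer ({t} : Set G) → ∀ x ∈ T, g * x * g⁻¹ ∈ T → x = 1 := by
    rintro g hg x ⟨hx, hx2⟩ ⟨hy, -⟩
    refine absurd ?_ hg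
    have hpos := orderOf_pos x
    obtain ⟨k, hk⟩ := hx2
    have hs2 : orderOf (x ^ k) = 2 := by
      rw [orderOf_pow_of_dvd (by omega) ⟨2, by omega⟩, hk, Nat.mul_div_cancel _ (by omega)]
    have hs : x ^ k = t := hone _ hs2
      ((Subgroup.mem_centralizer_singleton_iff.mp (pow_mem hx k)).symm)
    have hgs : g * t * g⁻¹ = t := by
      refine hone _ (Invol.conj_orderOf_two ht g) ?_
      rw [← hs, ← conj_pow]
      exact ((Subgroup.mem_centralizer_singleton_iff.mp (pow_mem hy k)).symm : Commute t _) |> fun h => by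
        rwa [hs]
    rw [Subgroup.mem_centralizer_singleton_iff]
    exact mul_inv_eq_iff_eq_mul.mp hgs
  have hoffθ : ∀ a, ∀ x : Subgroup.centralizer ({t} : Set G), (x : G) ∉ T → θ a x = 0 := fun a x hx =>
    hθreg a x fun h => hx ⟨x.2, by rwa [Subgroup.orderOf_coe]⟩
  have hoffΨ : ∀ x : Subgroup.centralizer ({t} : Set G), (x : G) ∉ T → Ψ x = 0 := fun x hx =>
    hΨreg x fun h => hx ⟨x.2, by rw [Subgroup.orderOf_coe]; exact (by norm_num : 2 ∣ 4).trans h⟩
  have h1θ : ∀ a, θ a 1 = 0 := fun a => hθreg a 1 (by simp)
  have h1Ψ : Ψ 1 = 0 := hΨreg 1 (by simp)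
  -- the class functions on `G`
  set Φ : Option (Fin 3) → G → ℂ := fun o => indFun (Subgroup.centralizer ({t} : Set G))
    (o.elim Ψ θ) with hΦdef
  have hgen : ∀ o, IsGeneralizedCharacter G (Φ o) := fun o => Char.isGeneralized_indFun _ (by
    cases o with
    | none => exact hΨgen
    | some a => exact hθgen a)
  choose c hc using fun (o : Option (Fin 3)) (χ : IrrCharacter G) =>
    Char.exists_int_classInner (hgen o) (Char.isGeneralized_of_isIrr χ.2)
  have hexp : ∀ o g, Φ o g = ∑ χ : IrrCharacter G, (c o χ : ℂ) * (χ : G → ℂ) g := fun o g => by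
    have h := congrFun (Char.classFunction_expansion (Char.isClassFunction_of_isGeneralized (hgen o))) g
    simpa [Finset.sum_apply, hc] using h
  have hinner : ∀ o o', classInner (Φ o) (Φ o') =
      ((∑ χ : IrrCharacter G, c o χ * c o' χ : ℤ) : ℂ) := by
    intro o o'
    conv_lhs =>
      rw [Char.classFunction_expansion (Char.isClassFunction_of_isGeneralized (hgen o)),
        Char.classFunction_expansion (Char.isClassFunction_of_isGeneralized (hgen o'))]
    rw [Char.classInner_sum_smul_sum_smul, Int.cast_sum]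
    exact Finset.sum_congr rfl fun χ _ => by rw [hc, hc, map_intCast, Int.cast_mul]
  have hT1 : ∀ o, c o (Blocks.trivIrr G) = 1 := by
    intro o
    have h := hc o (Blocks.trivIrr G)
    have h' : classInner (Φ o) (Blocks.trivIrr G : G → ℂ) = 1 := by
      rw [hΦdef]
      show classInner (indFun _ _) (fun _ => (1 : ℂ)) = 1
      rw [Char.frobenius_reciprocity _ _ (fun _ _ => rfl)]
      cases o with
      | none => exact classInner_eightPsi_one F
      | some a => exact classInner_eightTheta_one hD F a
    rw [h] at h'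
    exact_mod_cast h'
  have hcoff : ∀ o, ∀ x : Subgroup.centralizer ({t} : Set G), (x : G) ∉ T →
      (o : Option (Fin 3)).elim Ψ θ x = 0 := fun o => by
    cases o with
    | none => exact hoffΨ
    | some a => exact hoffθ a
  have hc1 : ∀ o : Option (Fin 3), o.elim Ψ θ 1 = 0 := fun o => by
    cases o with
    | none => exact h1Ψ
    | some a => exact h1θ a
  have hcls : ∀ o : Option (Fin 3),
      IsClassFunction (Subgroup.centralizer ({t} : Set G)) (o.elim Ψ θ) := fun o => by
    cases o with
    | none => exact Char.isClassFunction_of_isGeneralized hΨgen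
    | some a => exact Char.isClassFunction_of_isGeneralized (hθgen a)
  have hiso : ∀ o o', classInner (Φ o) (Φ o') = classInner (o.elim Ψ θ) (o'.elim Ψ θ) := fun o o' =>
    Char.classInner_indFun_of_ti _ T hTI _ _ (hcls o') (hcoff o) (hcoff o') (hc1 o)
  set d : IrrCharacter G → ℤ := fun χ => (charDegree (χ : G → ℂ) : ℤ)
  have hdC : ∀ χ : IrrCharacter G, (χ : G → ℂ) 1 = (d χ : ℂ) := fun χ => by
    rw [(Blocks.irr_degree_eq χ).1]; simp [d]
  have hdeg : ∀ o, ∑ χ : IrrCharacter G, c o χ * d χ = 0 := by
    intro o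
    have h : Φ o 1 = 0 := by
      rw [hΦdef]
      show indFun _ _ 1 = 0
      rw [Char.indFun_one, hc1, mul_zero]
    rw [hexp] at h
    simp only [hdC] at h
    exact_mod_cast h
  obtain ⟨A, B, hAinj, hBinj, hA1, hB1, hAB, hA0, hAa, hBa, hs0, hsa⟩ :=
    seven_vectors (Blocks.trivIrr G) (c none) (fun a => c (some a)) d
      (fun χ => by
        simp only [d]
        exact_mod_cast (Blocks.irr_degree_eq χ).2.ne')
      (hT1 none) (fun a => hT1 (some a))
      (by
        have h := (hinner none none).symm.trans
          ((hiso none none).trans (classInner_eightPsi_self F))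
        exact_mod_cast h)
      (fun a => by
        have h := (hinner none (some a)).symm.trans
          ((hiso none (some a)).trans (classInner_eightPsi_theta F a))
        exact_mod_cast h)
      (fun a b => by
        have h := (hinner (some a) (some b)).symm.trans
          ((hiso (some a) (some b)).trans (classInner_eightTheta hD F a b))
        have e : ((∑ χ : IrrCharacter G, c (some a) χ * c (some b) χ : ℤ) : ℂ) =
            (((if a = b then 3 else 1) : ℤ) : ℂ) := by
          rw [h]; split_ifs <;> norm_num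
        exact_mod_cast e)
      (fun a => hdeg (some a))
  -- all seven lie in the principal block
  have hmem : ∀ o χ, c o χ ≠ 0 → χ ∈ principalBlock M G := by
    intro o χ hne
    by_contra hχ
    refine hne ?_
    have h := hc o χ
    rw [hΦdef] at h
    simp only at h
    rw [Char.frobenius_reciprocity _ _ (Blocks.irr_classFunction χ)] at h
    have hz : ∑ z : Subgroup.centralizer ({t} : Set G),
        (o : Option (Fin 3)).elim Ψ θ z * conj ((χ : G → ℂ) z) = 0 := by
      rw [Blocks.sum_eq_sum_pPart_fibers Nat.prime_two]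
      refine Finset.sum_eq_zero fun x hx => ?_
      obtain ⟨k, hk⟩ := (Finset.mem_filter.mp hx).2
      rcases k with _ | _ | _ | k
      · refine Finset.sum_eq_zero fun r hr => ?_
        have hx1 : x = 1 := orderOf_eq_one_iff.mp (by simpa using hk)
        have hr' : ¬ 2 ∣ orderOf r := (Finset.mem_filter.mp hr).2.2
        subst hx1
        cases o with
        | none =>
          simp only [Option.elim_none, one_mul]
          rw [hΨreg r fun h4 => hr' ((by norm_num : 2 ∣ 4).trans h4), zero_mul]
        | some a => simp only [Option.elim_some, one_mul]; rw [hθreg a r hr', zero_mul]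
      · -- the section of `t`
        have hxt : x = t' := hD.unique x (by simpa using hk)
        subst hxt
        cases o with
        | none =>
          refine Finset.sum_eq_zero fun r hr => ?_
          simp only [Option.elim_none]
          rw [hΨreg _ (hD.regular_mul_not (Finset.mem_filter.mp hr).2.2).2, zero_mul]
        | some a =>
          have h1 := sum_section_eq_zero hM hχ t' ⟨1, by rw [hD.order_two, pow_one]⟩ le_rfl
          have hψm := Blocks.sum_regPart_mul_conj_eq_zero hM (x := t)
            ⟨1, by rw [ht, pow_one]⟩ hχ (F.mem a)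
          have h2 : ∑ r : Subgroup.centralizer ({t} : Set G) with Commute t' r ∧ IsPRegular 2 r,
              (ψ a : Subgroup.centralizer ({t} : Set G) → ℂ) r *
                conj ((χ : G → ℂ) (t * (r : G))) = 0 := by
            have h3 := congrArg conj hψm
            rw [map_zero, map_sum] at h3
            rw [← Finset.sum_filter_add_sum_filter_not Finset.univ (IsPRegular 2),
              Finset.sum_eq_zero (s := Finset.univ.filter fun r => ¬ IsPRegular 2 r) (fun r hr => by
                rw [Blocks.regPart_of_singular (Finset.mem_filter.mp hr).2, zero_mul, map_zero]),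
              add_zero] at h3
            rw [← h3]
            refine Finset.sum_congr (Finset.filter_congr fun r _ => ⟨fun h => h.2, fun h =>
              ⟨hD.central r, h⟩⟩) fun r hr => ?_
            rw [Blocks.regPart_of_regular (Finset.mem_filter.mp hr).2, map_mul, Complex.conj_conj,
              mul_comm]
          rw [Finset.sum_congr rfl (g := fun r : Subgroup.centralizer ({t} : Set G) =>
            2 * conj ((χ : G → ℂ) (t * (r : G))) + 2 * (ε a : ℂ) *
              ((ψ a : Subgroup.centralizer ({t} : Set G) → ℂ) r * conj ((χ : G → ℂ) (t * (r : G)))))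
            fun r hr => ?_, Finset.sum_add_distrib, ← Finset.mul_sum, ← Finset.mul_sum,
            show ∑ r : Subgroup.centralizer ({t} : Set G) with Commute t' r ∧ IsPRegular 2 r,
              conj ((χ : G → ℂ) (t * (r : G))) = 0 from h1, h2]
          · ring
          · obtain ⟨-, hreg⟩ := (Finset.mem_filter.mp hr).2
            obtain ⟨e1, e2⟩ := hD.regular_mul_not hreg
            simp only [Option.elim_some, θ, eightTheta, eightG]
            rw [if_neg e2, if_pos e1, F.invariant a r, Subgroup.coe_mul]
            ring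
      · -- sections of elements of order four
        have hx4 : orderOf x = 4 := by simpa using hk
        have h1 := sum_section_eq_zero hM hχ x ⟨2, by rw [hx4]; norm_num⟩ fun g hg => by
          rw [Subgroup.mem_centralizer_singleton_iff] at hg ⊢
          have hsq : ((x : G)) * x = t := congrArg Subtype.val (hD.four_sq hx4)
          rw [← hsq, ← mul_assoc, hg, mul_assoc, hg, mul_assoc]
        have hval : ∀ r, Commute x r → IsPRegular 2 r →
            o.elim Ψ θ (x * r) = o.elim (4 : ℂ) (fun _ => 2) := by
          intro r hxr hr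
          have h4 := hD.four_dvd_split hx4 hxr hr
          cases o with
          | none => simp only [Option.elim_none]; rw [show Ψ (x * r) = _ from F.psi _, if_pos h4]
          | some a => simp only [Option.elim_some, θ, eightTheta]; rw [if_pos h4]
        rw [Finset.sum_congr rfl fun r hr => by
          rw [hval r (Finset.mem_filter.mp hr).2.1 (Finset.mem_filter.mp hr).2.2, Subgroup.coe_mul],
          ← Finset.mul_sum, h1, mul_zero]
      · exact absurd (hk ▸ (show (8 : ℕ) = 2 ^ 3 by norm_num) ▸ pow_dvd_pow 2 (by omega))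
          (hD.not_eight x)
    rw [classInner, hz, mul_zero] at h
    exact_mod_cast h.symm
  -- values at `t`
  choose v hv using fun χ : IrrCharacter G => exists_int_value_involution (χ := χ) htt
  set g : Fin 3 → ℤ := fun a => ε a * (charDegree (ψ a : Subgroup.centralizer ({t} : Set G) → ℂ) : ℤ)
  have hψ1 : ∀ a, (ψ a : Subgroup.centralizer ({t} : Set G) → ℂ) 1 =
      ((charDegree (ψ a : Subgroup.centralizer ({t} : Set G) → ℂ) : ℤ) : ℂ) := fun a => by
    rw [(Blocks.irr_degree_eq (ψ a)).1]; simp
  have hsum0 : ∀ f : IrrCharacter G → ℤ, ∑ χ : IrrCharacter G, c none χ * f χ =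
      f (Blocks.trivIrr G) + ∑ a, c none (A a) * f (A a) := by
    intro f
    rw [← Finset.sum_subset (Finset.subset_univ (insert (Blocks.trivIrr G) (Finset.univ.image A)))
      (fun χ _ hn => ?_), Finset.sum_insert (by simpa using fun a => hA1 a), hT1, one_mul,
      Finset.sum_image fun a _ b _ e => hAinj e]
    by_cases h' : c none χ = 0
    · rw [h', zero_mul]
    · rcases hs0 χ h' with e | ⟨a, e⟩
      · exact absurd (Finset.mem_insert.mpr (Or.inl e)) hn
      · exact absurd (Finset.mem_insert.mpr (Or.inr (Finset.mem_image.mpr ⟨a, Finset.mem_univ a, e.symm⟩))) hn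
  have hsuma : ∀ a, ∀ f : IrrCharacter G → ℤ, ∑ χ : IrrCharacter G, c (some a) χ * f χ =
      f (Blocks.trivIrr G) + c none (A a) * f (A a) + c (some a) (B a) * f (B a) := by
    intro a f
    rw [← Finset.sum_subset (Finset.subset_univ ({Blocks.trivIrr G, A a, B a} : Finset _))
      (fun χ _ hn => ?_), Finset.sum_insert (by simp [(hA1 a).symm, (hB1 a).symm]),
      Finset.sum_pair (hAB a a), hT1, one_mul, hAa a, add_assoc]
    by_cases h' : c (some a) χ = 0
    · rw [h', zero_mul]
    · rcases hsa a χ h' with e | e | e <;> simp [e] at hn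
  have hdT : d (Blocks.trivIrr G) = 1 := by simp [d, Blocks.trivIrr, charDegree]
  have hvT : v (Blocks.trivIrr G) = 1 := by
    have := hv (Blocks.trivIrr G)
    simp [Blocks.trivIrr] at this
    exact_mod_cast this.symm
  have ht'T : ((t' : Subgroup.centralizer ({t} : Set G)) : G) ∈ T :=
    ⟨t'.2, by show 2 ∣ orderOf t; rw [ht]⟩
  have ht'1 : t' ≠ 1 := fun e => Invol.ne_one_of_orderOf_two ht (congrArg Subtype.val e)
  have hvals : ∀ o, ((∑ χ : IrrCharacter G, c o χ * v χ : ℤ) : ℂ) = o.elim Ψ θ t' := fun o => by
    rw [← Char.indFun_eq_of_ti _ T hTI _ (hcls o) (hcoff o) t' ht'T ht'1]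
    show _ = Φ o t
    rw [hexp, Int.cast_sum]
    exact Finset.sum_congr rfl fun χ _ => by rw [Int.cast_mul, hv]
  have hgsum : 1 + ∑ a, g a = 0 := by
    have h : (1 : ℂ) + ∑ a, (ε a : ℂ) * (ψ a : Subgroup.centralizer ({t} : Set G) → ℂ) 1 = 0 := by
      rw [F.psi 1, if_neg (by simp)]
    simp only [hψ1] at h
    simp only [g]
    exact_mod_cast h
  have hp : 1 + ∑ a, c none (A a) * v (A a) = 0 := by
    have h := hvals none
    simp only [Option.elim_none] at h
    rw [hΨreg t' (by rw [hD.order_two]; norm_num), hsum0, hvT] at h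
    exact_mod_cast h
  have hq : ∀ a, 1 + c none (A a) * v (A a) + c (some a) (B a) * v (B a) = 2 * (1 + g a) := by
    intro a
    have h := hvals (some a)
    simp only [Option.elim_some, θ, eightTheta] at h
    rw [if_neg (by rw [hD.order_two]; norm_num), if_pos (by rw [hD.order_two]), hsuma, hvT] at h
    have e := F.invariant a 1
    rw [mul_one] at e
    simp only [eightG] at h
    rw [e, hψ1] at h
    simp only [g]
    exact_mod_cast h
  have hB' : ∀ a, 1 + c none (A a) * d (A a) + c (some a) (B a) * d (B a) = 0 := fun a => by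
    have h := hdeg (some a)
    rwa [hsuma, hdT] at h
  -- the bound
  have hbound : 1 + ∑ a, (c none (A a) * v (A a) * (c none (A a) * v (A a)) +
      c (some a) (B a) * v (B a) * (c (some a) (B a) * v (B a))) ≤ 2 * (1 + ∑ a, g a * g a) := by
    have hnorm := Blocks.sum_principal_norm_sq hM (x := t) ⟨1, by rw [ht, pow_one]⟩
    rw [Finset.sum_congr rfl (g := fun χ : IrrCharacter G => ((v χ * v χ : ℤ) : ℂ)) fun χ _ => by
      rw [hv, map_intCast, Int.cast_mul]] at hnorm
    have hfin : (principalBlock M (Subgroup.centralizer ({t} : Set G))).Finite := Set.toFinite _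
    have hdegs : ((∑ᶠ ξ ∈ principalBlock M ↥(Subgroup.centralizer ({t} : Set G)),
        charDegree (ξ : Subgroup.centralizer ({t} : Set G) → ℂ) ^ 2 : ℕ) : ℂ) =
        ((2 * (1 + ∑ a, g a * g a) : ℤ) : ℂ) := by
      refine ((Nat.castAddMonoidHom ℂ).map_finsum_mem _ hfin).trans ?_
      rw [Blocks.sum_mem_eq_filter, Finset.sum_congr rfl (g := fun ξ : IrrCharacter (Subgroup.centralizer ({t} : Set G)) =>
        (ξ : Subgroup.centralizer ({t} : Set G) → ℂ) 1 * (ξ : Subgroup.centralizer ({t} : Set G) → ℂ) 1)
        fun ξ _ => by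
          rw [(Blocks.irr_degree_eq ξ).1, Nat.coe_castAddMonoidHom, Nat.cast_pow, sq],
        sum_sq_degree_principal hD hM F]
      simp only [hψ1, g]
      push_cast
      congr 2
      refine Finset.sum_congr rfl fun a _ => ?_
      rcases F.sign a with e | e <;> simp [e]
    rw [hdegs, ← Int.cast_sum, Int.cast_inj] at hnorm
    rw [← hnorm]
    set S := insert (Blocks.trivIrr G) (Finset.univ.image A ∪ Finset.univ.image B)
    have hsub : S ⊆ (Finset.univ : Finset (IrrCharacter G)).filter (· ∈ principalBlock M G) := by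
      intro χ hχ
      refine Finset.mem_filter.mpr ⟨Finset.mem_univ _, ?_⟩
      simp only [S, Finset.mem_insert, Finset.mem_union, Finset.mem_image, Finset.mem_univ,
        true_and] at hχ
      rcases hχ with rfl | ⟨a, rfl⟩ | ⟨a, rfl⟩
      · exact hmem none _ (by rw [hT1]; exact one_ne_zero)
      · exact hmem none _ (by rcases hA0 a with e | e <;> omega)
      · exact hmem (some a) _ (by rcases hBa a with e | e <;> omega)
    refine le_trans (le_of_eq ?_) (Finset.sum_le_sum_of_subset_of_nonneg hsub fun χ _ _ =>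
      mul_self_nonneg (v χ))
    rw [Finset.sum_insert (by
        simp only [Finset.mem_union, Finset.mem_image, Finset.mem_univ, true_and, not_or,
          not_exists]
        exact ⟨hA1, hB1⟩),
      Finset.sum_union (Finset.disjoint_left.mpr fun χ h1 h2 => by
        obtain ⟨a, -, rfl⟩ := Finset.mem_image.mp h1
        obtain ⟨b, -, hb⟩ := Finset.mem_image.mp h2
        exact hAB a b hb.symm),
      Finset.sum_image fun a _ b _ e => hAinj e, Finset.sum_image fun a _ b _ e => hBinj e,
      hvT, ← Finset.sum_add_distrib, mul_one]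
    congr 1
    refine Finset.sum_congr rfl fun a _ => ?_
    rcases hA0 a with e | e <;> rcases hBa a with e' | e' <;> rw [e, e'] <;> ring
  -- the third moment
  have hthree : ∀ a, c none (A a) * d (A a) * (c (some a) (B a) * d (B a)) +
      c none (A a) * v (A a) * (c none (A a) * v (A a)) * (c (some a) (B a) * d (B a)) +
      c (some a) (B a) * v (B a) * (c (some a) (B a) * v (B a)) * (c none (A a) * d (A a)) = 0 := by
    intro a
    have hn : (Nat.card G : ℂ) ≠ 0 := Nat.cast_ne_zero.mpr Nat.card_pos.ne'
    have hzero : ∀ y : G, Φ (some a) (y * t * y⁻¹ * t) = 0 := by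
      intro y
      have hodd : ¬ 2 ∣ orderOf (y * t * y⁻¹ * t) := fun h2 => by
        have he : Even (orderOf (y * t * y⁻¹ * t)) := even_iff_two_dvd.mpr h2
        have hy2 := Invol.conj_orderOf_two ht y
        obtain ⟨w, hw2, hwv, hwt⟩ := Invol.exists_common_commuting_invol hy2 ht he
        have hw : w = t := hone w hw2 hwt.symm
        rw [hw] at hwv
        rw [hone _ hy2 hwv, htt, orderOf_one] at h2
        omega
      rw [hΦdef]
      refine mul_eq_zero_of_right _ (Finset.sum_eq_zero fun x _ => ?_)
      by_cases hm : x⁻¹ * (y * t * y⁻¹ * t) * x ∈ Subgroup.centralizer ({t} : Set G)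
      · rw [Char.extendByZero_mem _ _ hm]
        refine hθreg a _ ?_
        rw [Subgroup.orderOf_mk]
        have e := Transfer.orderOf_conj x⁻¹ (y * t * y⁻¹ * t)
        rw [inv_inv] at e
        rwa [e]
      · exact Char.extendByZero_notMem _ _ hm
    have h0 : ∑ y : G, Φ (some a) (y * t * y⁻¹ * t) = 0 := Finset.sum_eq_zero fun y _ => hzero y
    simp only [hexp] at h0
    rw [Finset.sum_comm] at h0
    simp only [← Finset.mul_sum, Blocks.sum_conj_mul_irr] at h0
    have h1 : ∑ χ : IrrCharacter G, (c (some a) χ : ℂ) * ((v χ : ℂ) * (v χ : ℂ) / (d χ : ℂ)) = 0 := by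
      rw [← mul_right_inj' hn, mul_zero, Finset.mul_sum, ← h0]
      exact Finset.sum_congr rfl fun χ _ => by rw [hv, hdC]; ring
    have h2 : (1 : ℂ) + (c none (A a) : ℂ) * ((v (A a) : ℂ) * (v (A a) : ℂ) / (d (A a) : ℂ)) +
        (c (some a) (B a) : ℂ) * ((v (B a) : ℂ) * (v (B a) : ℂ) / (d (B a) : ℂ)) = 0 := by
      rw [← Finset.sum_subset (Finset.subset_univ ({Blocks.trivIrr G, A a, B a} : Finset _))
        (fun χ _ hn => ?_), Finset.sum_insert (by simp [(hA1 a).symm, (hB1 a).symm]),
        Finset.sum_pair (hAB a a), hT1, hvT, hdT, hAa a] at h1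
      · simpa [add_assoc] using h1
      · by_cases h' : c (some a) χ = 0
        · rw [h', Int.cast_zero, zero_mul]
        · rcases hsa a χ h' with e | e | e <;> simp [e] at hn
    have hdA : (d (A a) : ℂ) ≠ 0 := by rw [← hdC]; exact Char.irr_degree_ne_zero (A a).2
    have hdB : (d (B a) : ℂ) ≠ 0 := by rw [← hdC]; exact Char.irr_degree_ne_zero (B a).2
    field_simp at h2
    have h3 : d (A a) * d (B a) + c none (A a) * (v (A a) * v (A a)) * d (B a) +
        c (some a) (B a) * (v (B a) * v (B a)) * d (A a) = 0 := by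
      have h4 : ((d (A a) * d (B a) + c none (A a) * (v (A a) * v (A a)) * d (B a) +
          c (some a) (B a) * (v (B a) * v (B a)) * d (A a) : ℤ) : ℂ) = 0 := by
        push_cast; linear_combination h2
      exact_mod_cast h4
    linear_combination (c none (A a) * c (some a) (B a)) * h3
  have hfinal := seven_values g (fun a => c none (A a) * v (A a))
    (fun a => c (some a) (B a) * v (B a)) (fun a => c none (A a) * d (A a))
    (fun a => c (some a) (B a) * d (B a)) hgsum hp hq hbound hB' hthree 0
  have hvd : v (A 0) = d (A 0) := by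
    rcases hA0 0 with e | e <;> rw [e] at hfinal <;> linarith
  exact exists_normal_of_value_eq (hA1 0) (by rw [hv, hdC, hvd])

end CfsgLib.ZStar
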