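import Cfsg.Agent.Lib.ZStar.Main

/-!
# Consequences of the Z*-theorem: inverted elements, invariant Sylow subgroups
-/

set_option autoImplicit false

namespace CfsgLib.ZStar

open Cfsg

variable {G : Type*} [Group G]

theorem odd_orderOf_of_mem_odd [Finite G] {O : Subgroup G} (hO : Odd (Nat.card O)) {x : G}
    (hx : x ∈ O) : Odd (orderOf x) :=
  hO.of_dvd_nat ((Subgroup.orderOf_coe ⟨x, hx⟩).symm ▸ orderOf_dvd_natCard _)

/-- Squaring is injective on the elements of odd order. -/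
theorem eq_of_mul_self_eq {x y : G} (hx : Odd (orderOf x)) (hy : Odd (orderOf y))
    (h : x * x = y * y) : x = y := by
  obtain ⟨m, hm⟩ := hx.mul hy
  have e : ∀ w : G, orderOf w ∣ orderOf x * orderOf y → w = (w * w) ^ (m + 1) := by
    intro w hw
    rw [← pow_two, ← pow_mul, show 2 * (m + 1) = orderOf x * orderOf y + 1 by omega, pow_succ,
      orderOf_dvd_iff_pow_eq_one.mp hw, one_mul]
  rw [e x (dvd_mul_right _ _), e y (dvd_mul_left _ _), h]

theorem exists_sqrt {x : G} (hx : Odd (orderOf x)) : ∃ k : ℕ, x ^ k * x ^ k = x := by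
  obtain ⟨m, hm⟩ := hx
  exact ⟨m + 1, by rw [← pow_add, show m + 1 + (m + 1) = orderOf x + 1 by omega, pow_succ,
    pow_orderOf_eq_one, one_mul]⟩

theorem conj_pow_inverted {z k : G} (h : z * k * z⁻¹ = k⁻¹) (n : ℕ) :
    z * k ^ n * z⁻¹ = (k ^ n)⁻¹ := by rw [← conj_pow, h, inv_pow]

theorem commute_of_conj_eq {z k : G} (h : z * k * z⁻¹ = k) : Commute k z :=
  (mul_inv_eq_iff_eq_mul.mp h).symm

theorem conj_eq_of_commute' {z k : G} (h : Commute k z) : z * k * z⁻¹ = k := by
  rw [← h.eq, mul_inv_cancel_right]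

/-- Elements of odd order inverted by an isolated involution lie in the odd core. -/
theorem mem_core_of_inverted [Finite G] {z : G} (hz : IsIsolatedInvolution z) {k : G}
    (hk : Odd (orderOf k)) (hi : z * k * z⁻¹ = k⁻¹) : k ∈ pPrimeCore 2 G := by
  have h := commutatorsInCore_of_isolated hz k
  rw [hi, ← mul_inv_rev] at h
  have h2 : k * k ∈ pPrimeCore 2 G := inv_mem_iff.mp h
  obtain ⟨m, hm⟩ := hk
  have e : (k * k) ^ (m + 1) = k := by
    rw [← pow_two, ← pow_mul, show 2 * (m + 1) = orderOf k + 1 by omega, pow_succ,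
      pow_orderOf_eq_one, one_mul]
  rw [← e]
  exact pow_mem h2 _

/-- The cosets of the centralizer of an isolated involution correspond to the elements of odd
order it inverts. -/
theorem card_inverted_eq [Finite G] {z : G} (hz : IsIsolatedInvolution z) :
    Nat.card {k : G // Odd (orderOf k) ∧ z * k * z⁻¹ = k⁻¹} = Nat.card {v : G // IsConj z v} := by
  refine Nat.card_congr ?_
  have hzz := Invol.mul_self_of_orderOf_two hz.1
  have hzi := Invol.inv_of_orderOf_two hz.1
  refine { toFun := fun k => ⟨k.1 * z, ?_⟩, invFun := fun v => ⟨v.1 * z, ?_, ?_⟩,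
           left_inv := fun k => Subtype.ext ?_, right_inv := fun v => Subtype.ext ?_ }
  · obtain ⟨k, hk1, hk2⟩ := k
    obtain ⟨n, hn⟩ := exists_sqrt hk1
    refine isConj_iff.mpr ⟨k ^ n, ?_⟩
    have h1 := conj_pow_inverted hk2 n
    calc k ^ n * z * (k ^ n)⁻¹ = k ^ n * z * (z * k ^ n * z⁻¹) := by rw [h1]
      _ = k ^ n * (z * z) * k ^ n * z := by rw [hzi]; group
      _ = k * z := by rw [hzz, mul_one, hn]
  · exact Invol.isolated_odd hz v.2 (IsConj.refl z)
  · obtain ⟨g, hg⟩ := isConj_iff.mp v.2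
    have hv : v.1⁻¹ = v.1 := Invol.inv_of_orderOf_two (hg ▸ Invol.conj_orderOf_two hz.1 g)
    rw [mul_inv_rev, hzi, hv, mul_assoc, mul_assoc, hzz, mul_one]
  · show k.1 * z * z = k.1
    rw [mul_assoc, hzz, mul_one]
  · show v.1 * z * z = v.1
    rw [mul_assoc, hzz, mul_one]

theorem card_centralizer_mul_card_inverted [Finite G] {z : G} (hz : IsIsolatedInvolution z) :
    Nat.card (Subgroup.centralizer ({z} : Set G)) *
      Nat.card {k : G // Odd (orderOf k) ∧ z * k * z⁻¹ = k⁻¹} = Nat.card G := by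
  rw [card_inverted_eq hz, mul_comm, Invol.card_isConj_mul_card_centralizer]

/-- The factorisation of the inverted elements under a second commuting involution. -/
theorem card_inverted_mul [Finite G] {O : Subgroup G} [O.Normal] (hO : Odd (Nat.card O)) {z s : G}
    (hz : z * z = 1) (hs : s * s = 1) (hc : Commute s z) :
    Nat.card {k : G // k ∈ O ∧ z * k * z⁻¹ = k⁻¹} =
      Nat.card {k : G // (k ∈ O ∧ z * k * z⁻¹ = k⁻¹) ∧ Commute k s} *
      Nat.card {k : G // (k ∈ O ∧ z * k * z⁻¹ = k⁻¹) ∧ Commute k (s * z)} := by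
  have hodd : ∀ {x : G}, x ∈ O → Odd (orderOf x) := fun h => odd_orderOf_of_mem_odd hO h
  set σ : G →* G := (MulAut.conj z).toMonoidHom with hσd
  set τ : G →* G := (MulAut.conj s).toMonoidHom with hτd
  have hσ : ∀ x, σ x = z * x * z⁻¹ := fun x => rfl
  have hτ : ∀ x, τ x = s * x * s⁻¹ := fun x => rfl
  have hσO : ∀ {x}, x ∈ O → σ x ∈ O := fun h => Subgroup.Normal.conj_mem inferInstance _ h z
  have hτO : ∀ {x}, x ∈ O → τ x ∈ O := fun h => Subgroup.Normal.conj_mem inferInstance _ h s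
  have hinv : ∀ {t : G}, t * t = 1 → ∀ x, t * (t * x * t⁻¹) * t⁻¹ = x := fun {t} ht x => by
    rw [inv_eq_of_mul_eq_one_right ht]
    calc t * (t * x * t) * t = t * t * x * (t * t) := by simp only [mul_assoc]
      _ = x := by rw [ht, one_mul, mul_one]
  have hττ : ∀ x, τ (τ x) = x := fun x => hinv hs x
  have hσσ : ∀ x, σ (σ x) = x := fun x => hinv hz x
  have hcomm : ∀ x, σ (τ x) = τ (σ x) := fun x => by
    simp only [hσ, hτ]
    calc z * (s * x * s⁻¹) * z⁻¹ = (z * s) * x * (z * s)⁻¹ := by group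
      _ = (s * z) * x * (s * z)⁻¹ := by rw [hc.eq]
      _ = s * (z * x * z⁻¹) * s⁻¹ := by group
  have hsz : ∀ x, σ x = x⁻¹ → (Commute x (s * z) ↔ τ x = x⁻¹) := by
    intro x hx
    have e : (s * z) * x * (s * z)⁻¹ = (τ x)⁻¹ := by
      rw [hτ, show (s * x * s⁻¹)⁻¹ = s * x⁻¹ * s⁻¹ by group, ← hx, hσ]
      group
    constructor
    · intro h
      have := conj_eq_of_commute' h
      rw [e] at this
      rw [← inv_inv (τ x), this]
    · intro h
      apply commute_of_conj_eq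
      rw [e, h, inv_inv]
  have huniq : ∀ {c c' w : G}, c ∈ O → c' ∈ O → w ∈ O → c * w * c = c' * w * c' → c = c' := by
    intro c c' w h1 h2 h3 he
    have he2 : c * w * (c * w) = c' * w * (c' * w) := by rw [← mul_assoc, he, mul_assoc]
    exact mul_right_cancel (eq_of_mul_self_eq (hodd (mul_mem h1 h3)) (hodd (mul_mem h2 h3)) he2)
  rw [← Nat.card_prod]
  let f : {k : G // (k ∈ O ∧ z * k * z⁻¹ = k⁻¹) ∧ Commute k s} ×
      {k : G // (k ∈ O ∧ z * k * z⁻¹ = k⁻¹) ∧ Commute k (s * z)} →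
      {k : G // k ∈ O ∧ z * k * z⁻¹ = k⁻¹} := fun ab => ⟨ab.1.1 * ab.2.1 * ab.1.1,
    mul_mem (mul_mem ab.1.2.1.1 ab.2.2.1.1) ab.1.2.1.1, by
      show σ (ab.1.1 * ab.2.1 * ab.1.1) = _
      rw [map_mul, map_mul, show σ ab.1.1 = _ from ab.1.2.1.2, show σ ab.2.1 = _ from ab.2.2.1.2]
      group⟩
  refine (Nat.card_congr (Equiv.ofBijective f ⟨?_, ?_⟩)).symm
  · rintro ⟨⟨a, ⟨ha, haz⟩, has⟩, ⟨b, ⟨hb, hbz⟩, hbs⟩⟩ ⟨⟨a', ⟨ha', ha'z⟩, ha's⟩, ⟨b', ⟨hb', hb'z⟩, hb's⟩⟩ h
    simp only [f, Subtype.mk.injEq] at h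
    have key : ∀ a b : G, σ b = b⁻¹ → Commute a s → Commute b (s * z) →
        τ (a * b * a) = (a * a) * (a * b * a)⁻¹ * (a * a) := by
      intro a b hbz has hbs
      have h1 : τ a = a := conj_eq_of_commute' has
      rw [map_mul, map_mul, h1, (hsz b hbz).mp hbs]
      group
    have h1 := key a b hbz has hbs
    have h2 := key a' b' hb'z ha's hb's
    rw [← h, h1] at h2
    have h3 := huniq (mul_mem ha ha) (mul_mem ha' ha')
      (inv_mem (mul_mem (mul_mem ha hb) ha)) h2
    have h4 : a = a' := eq_of_mul_self_eq (hodd ha) (hodd ha') h3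
    subst h4
    have h5 : b = b' := mul_left_cancel (mul_right_cancel h)
    subst h5
    rfl
  · rintro ⟨y, hy, hyz⟩
    have hyz' : σ y = y⁻¹ := hyz
    have hd : τ y * y⁻¹ ∈ O := mul_mem (hτO hy) (inv_mem hy)
    obtain ⟨n, hn⟩ := exists_sqrt (hodd hd)
    obtain ⟨c, hcd⟩ : ∃ c, c = (τ y * y⁻¹) ^ n * y := ⟨_, rfl⟩
    have hcO : c ∈ O := hcd ▸ mul_mem (pow_mem hd n) hy
    have hc1 : c * y⁻¹ * c = τ y := by
      subst hcd
      rw [mul_inv_cancel_right, ← mul_assoc, hn, inv_mul_cancel_right]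
    have hcσ : σ c = c⁻¹ := by
      have h1 := congrArg (fun w => (σ w)⁻¹) hc1
      simp only [map_mul, map_inv, hyz', inv_inv, hcomm] at h1
      rw [mul_inv_rev, mul_inv_rev, ← mul_assoc] at h1
      have h2 := huniq (inv_mem (hσO hcO)) hcO (inv_mem hy) (h1.trans hc1.symm)
      conv_rhs => rw [← h2, inv_inv]
    have hcτ : τ c = c := by
      have h1 := congrArg τ hc1
      rw [map_mul, map_mul, map_inv, hττ] at h1
      have h2 : c * (τ y)⁻¹ * c = y := by rw [← hc1]; group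
      exact huniq (hτO hcO) hcO (inv_mem (hτO hy)) (h1.trans h2.symm)
    obtain ⟨m, hm⟩ := exists_sqrt (hodd hcO)
    obtain ⟨a, had⟩ : ∃ a, a = c ^ m := ⟨_, rfl⟩
    rw [← had] at hm
    have haO : a ∈ O := had ▸ pow_mem hcO m
    have haσ : σ a = a⁻¹ := by rw [had, map_pow, hcσ, inv_pow]
    have haτ : τ a = a := by rw [had, map_pow, hcτ]
    have hbσ : σ (a⁻¹ * y * a⁻¹) = (a⁻¹ * y * a⁻¹)⁻¹ := by
      rw [map_mul, map_mul, map_inv, haσ, hyz']; group
    refine ⟨⟨⟨a, ⟨haO, haσ⟩, commute_of_conj_eq haτ⟩,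
      ⟨a⁻¹ * y * a⁻¹, ⟨mul_mem (mul_mem (inv_mem haO) hy) (inv_mem haO), hbσ⟩, (hsz _ hbσ).mpr ?_⟩⟩,
      Subtype.ext ?_⟩
    · rw [map_mul, map_mul, map_inv, haτ, ← hc1, ← hm]; group
    · show a * (a⁻¹ * y * a⁻¹) * a = y
      group

theorem card_centralizer_mul_card_mul [Finite G] {z : G} (hz : IsIsolatedInvolution z) {s : G}
    (hs : orderOf s = 2) (hc : Commute s z) :
    Nat.card G = Nat.card (Subgroup.centralizer ({z} : Set G)) *
      Nat.card {k : G // Odd (orderOf k) ∧ z * k * z⁻¹ = k⁻¹ ∧ Commute k (s * z)} *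
      Nat.card {k : G // Odd (orderOf k) ∧ z * k * z⁻¹ = k⁻¹ ∧ Commute k s} := by
  have : (pPrimeCore 2 G).Normal := Transfer.pPrimeCore_normal 2 G
  have e0 : Nat.card {k : G // Odd (orderOf k) ∧ z * k * z⁻¹ = k⁻¹} =
      Nat.card {k : G // k ∈ pPrimeCore 2 G ∧ z * k * z⁻¹ = k⁻¹} :=
    Nat.card_congr (Equiv.subtypeEquivRight fun k =>
      ⟨fun h => ⟨mem_core_of_inverted hz h.1 h.2, h.2⟩,
        fun h => ⟨odd_orderOf_of_mem_odd odd_card_core h.1, h.2⟩⟩)
  have e : ∀ Q : G → Prop, Nat.card {k : G // Odd (orderOf k) ∧ z * k * z⁻¹ = k⁻¹ ∧ Q k} =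
      Nat.card {k : G // (k ∈ pPrimeCore 2 G ∧ z * k * z⁻¹ = k⁻¹) ∧ Q k} := fun Q =>
    Nat.card_congr (Equiv.subtypeEquivRight fun k =>
      ⟨fun h => ⟨⟨mem_core_of_inverted hz h.1 h.2.1, h.2.1⟩, h.2.2⟩,
        fun h => ⟨odd_orderOf_of_mem_odd odd_card_core h.1.1, h.1.2, h.2⟩⟩)
  rw [e, e, ← card_centralizer_mul_card_inverted hz, e0, card_inverted_mul odd_card_core
    (Invol.mul_self_of_orderOf_two hz.1) (Invol.mul_self_of_orderOf_two hs) hc]
  ring

/-- The conjugates of an isolated involution in a subgroup are conjugate there. -/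
theorem exists_mem_conj_of_mem [Finite G] {z : G} (hz : IsIsolatedInvolution z) {N : Subgroup G}
    (hzN : z ∈ N) {v : G} (hv : IsConj z v) (hvN : v ∈ N) : ∃ n ∈ N, n * z * n⁻¹ = v := by
  have hv2 : orderOf v = 2 := by
    obtain ⟨g, rfl⟩ := isConj_iff.mp hv
    exact Invol.conj_orderOf_two hz.1 g
  obtain ⟨k, hk⟩ := Invol.exists_zpow_conj_of_odd hz.1 hv2
    (Invol.isolated_odd hz (IsConj.refl z) hv)
  exact ⟨_, zpow_mem (mul_mem hzN hvN) k, hk⟩

/-- An isolated involution normalises a Sylow `p`-subgroup. -/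
theorem exists_invariant_sylow [Finite G] {z : G} (hz : IsIsolatedInvolution z) (p : ℕ)
    [Fact p.Prime] : ∃ P : Sylow p G, z ∈ Subgroup.normalizer ((P : Subgroup G) : Set G) := by
  rcases eq_or_ne p 2 with rfl | hp
  · obtain ⟨P, hP⟩ := (IsPGroup.of_card (G := Subgroup.zpowers z) (p := 2) (n := 1)
      (by rw [Nat.card_zpowers, hz.1, pow_one])).exists_le_sylow
    exact ⟨P, Subgroup.le_normalizer (hP (Subgroup.mem_zpowers z))⟩
  have : (pPrimeCore 2 G).Normal := Transfer.pPrimeCore_normal 2 G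
  obtain ⟨P₀⟩ := (inferInstance : Nonempty (Sylow p G))
  set H := pPrimeCore 2 G ⊔ (P₀ : Subgroup G) with hH
  have hHodd : Odd (Nat.card H) := Nat.coprime_two_right.mp
    (Transfer.coprime_card_sup_of_normal ‹(pPrimeCore 2 G).Normal› (Transfer.pPrimeCore_coprime 2) (by
      obtain ⟨n, hn⟩ := IsPGroup.iff_card.mp P₀.2
      rw [hn]
      exact Nat.Coprime.pow_left _ ((Nat.coprime_primes (Fact.out) Nat.prime_two).mpr hp)))
  have hzH : ∀ h ∈ H, z * h * z⁻¹ ∈ H := by
    intro h hh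
    rw [show z * h * z⁻¹ = (z * h * z⁻¹ * h⁻¹) * h by group]
    exact mul_mem (hH ▸ Subgroup.mem_sup_left (commutatorsInCore_of_isolated hz h)) hh
  let α : Equiv.Perm (Sylow p H) := by
    refine (?_ : MulAut H) |> fun e => MulAction.toPerm e
    exact
      { toFun := fun h => ⟨z * h * z⁻¹, hzH h h.2⟩
        invFun := fun h => ⟨z * h * z⁻¹, hzH h h.2⟩
        left_inv := fun h => Subtype.ext (by
          show z * (z * h * z⁻¹) * z⁻¹ = h
          rw [Invol.inv_of_orderOf_two hz.1,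
            show z * (z * h.1 * z) * z = z * z * h.1 * (z * z) by group,
            Invol.mul_self_of_orderOf_two hz.1, one_mul, mul_one])
        right_inv := fun h => Subtype.ext (by
          show z * (z * h * z⁻¹) * z⁻¹ = h
          rw [Invol.inv_of_orderOf_two hz.1,
            show z * (z * h.1 * z) * z = z * z * h.1 * (z * z) by group,
            Invol.mul_self_of_orderOf_two hz.1, one_mul, mul_one])
        map_mul' := fun a b => Subtype.ext (by
          show z * (a * b : G) * z⁻¹ = z * a * z⁻¹ * (z * b * z⁻¹)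
          group) }
  have hzz := Invol.mul_self_of_orderOf_two hz.1
  have hmem : ∀ (Q : Sylow p H) (h : H), h ∈ α Q → ∃ q : H, q ∈ Q ∧ z * q * z⁻¹ = h := by
    intro Q h hh
    obtain ⟨q, hq, e⟩ := Subgroup.mem_map.mp hh
    exact ⟨q, hq, congrArg Subtype.val e⟩
  have hα : ∀ Q, α (α Q) = Q := by
    intro Q
    refine Sylow.ext (Subgroup.eq_of_le_of_card_ge (fun h hh => ?_) ?_)
    · obtain ⟨q, hq, e⟩ := hmem _ h hh
      obtain ⟨r, hr, e'⟩ := hmem _ q hq
      rw [← e', Invol.inv_of_orderOf_two hz.1,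
        show z * (z * r.1 * z) * z = z * z * r.1 * (z * z) by group, hzz, one_mul, mul_one] at e
      exact (Subtype.ext e : r = h) ▸ hr
    · exact (Sylow.card_eq_multiplicity _).trans (Sylow.card_eq_multiplicity _).symm |>.le
  have hcount : Odd (Nat.card (Sylow p H)) := by
    obtain ⟨Q⟩ := (inferInstance : Nonempty (Sylow p H))
    exact hHodd.of_dvd_nat ((Sylow.card_dvd_index Q).trans (Subgroup.index_dvd_card _))
  have := Fintype.ofFinite (Sylow p H)
  obtain ⟨Q, hQ⟩ : ∃ Q, α Q = Q := by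
    by_contra hne
    push Not at hne
    have : 2 ∣ Fintype.card (Sylow p H) := by
      have hi : Function.Involutive α := hα
      classical
      have := Equiv.Perm.two_dvd_card_support (σ := α) (by ext Q; simp [pow_two, hα Q])
      rwa [Finset.card_eq_iff_eq_univ _ |>.mpr (Finset.eq_univ_of_forall fun Q => Equiv.Perm.mem_support.mpr (hne Q))] at this
    rw [Nat.card_eq_fintype_card] at hcount
    exact Nat.not_even_iff_odd.mpr hcount (even_iff_two_dvd.mpr this)
  have hcard : Nat.card ((Q : Subgroup H).map H.subtype) = Nat.card P₀ := by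
    rw [Subgroup.card_subtype, Sylow.card_eq_multiplicity Q, ← Sylow.card_eq_multiplicity (P₀.subtype (hH ▸ le_sup_right : (P₀ : Subgroup G) ≤ H))]
    exact Nat.card_congr (Subgroup.subgroupOfEquivOfLe (hH ▸ le_sup_right)).toEquiv
  refine ⟨Sylow.ofCard ((Q : Subgroup H).map H.subtype) (hcard.trans (Sylow.card_eq_multiplicity P₀)), ?_⟩
  rw [Sylow.coe_ofCard]
  apply Subgroup.mem_normalizer_iff_map_conj_eq.mpr
  refine Subgroup.eq_of_le_of_card_ge ?_ (Subgroup.card_map_of_injective (MulAut.conj z).injective).ge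
  rintro _ ⟨x, ⟨q, hq, rfl⟩, rfl⟩
  have h1 : (⟨z * q.1 * z⁻¹, hzH q q.2⟩ : H) ∈ α Q := Subgroup.mem_map.mpr ⟨q, hq, rfl⟩
  rw [hQ] at h1
  exact ⟨_, h1, rfl⟩

theorem isPGroup_sylow_le_of_le_normalizer [Finite G] {p : ℕ} [Fact p.Prime] {Q N : Subgroup G}
    (hN : N ≤ Subgroup.normalizer (Q : Set G)) (hQN : Q ≤ N) (hQ : IsPGroup p Q) (P : Sylow p N) :
    Q ≤ (P : Subgroup N).map N.subtype := by
  intro q hq
  have hn : (Q.subgroupOf N).Normal := Subgroup.normal_subgroupOf_iff_le_normalizer hQN |>.mpr hN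
  obtain ⟨R, hR⟩ := (hQ.of_equiv (Subgroup.subgroupOfEquivOfLe hQN).symm).exists_le_sylow
  obtain ⟨g, hg⟩ := MulAction.exists_smul_eq N R P
  have : Q.subgroupOf N ≤ P := by
    rw [← hg]
    intro x hx
    refine Subgroup.mem_map.mpr ⟨g⁻¹ * x * g, hR ?_, ?_⟩
    · have := hn.conj_mem x hx g⁻¹
      rwa [inv_inv] at this
    · show g * (g⁻¹ * x * g) * g⁻¹ = x
      group
  exact ⟨⟨q, hQN hq⟩, this (by simpa [Subgroup.mem_subgroupOf] using hq), rfl⟩

/-- A maximal invariant `p`-subgroup is a Sylow subgroup. -/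
theorem exists_sylow_eq_of_maximal [Finite G] {z : G} (hz : IsIsolatedInvolution z) {p : ℕ}
    [Fact p.Prime] (Q : Subgroup G) (hQ : IsPGroup p Q)
    (hzQ : z ∈ Subgroup.normalizer (Q : Set G))
    (hmax : ∀ R : Subgroup G, IsPGroup p R → z ∈ Subgroup.normalizer (R : Set G) → Q ≤ R → R = Q) :
    ∃ P : Sylow p G, (P : Subgroup G) = Q := by
  set N := Subgroup.normalizer (Q : Set G) with hN
  obtain ⟨P, hP⟩ := exists_invariant_sylow (isolated_subtype hz hzQ) p
  have hle := isPGroup_sylow_le_of_le_normalizer (le_refl N) Subgroup.le_normalizer hQ P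
  have hinv : z ∈ Subgroup.normalizer (((P : Subgroup N).map N.subtype : Subgroup G) : Set G) := by
    exact Subgroup.le_normalizer_map N.subtype ⟨_, hP, rfl⟩
  have heq := hmax _ (P.2.map _) hinv hle
  obtain ⟨S, hS⟩ := hQ.exists_le_sylow
  refine ⟨S, ?_⟩
  by_contra hne
  have hlt : Q < S := lt_of_le_of_ne hS (Ne.symm hne)
  have h1 : Q < (S : Subgroup G) ⊓ N := by
    refine lt_of_le_of_ne (le_inf hS Subgroup.le_normalizer) fun he => ?_
    have : Group.IsNilpotent (S : Subgroup G) := S.2.isNilpotent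
    have hnc := Group.normalizerCondition_of_isNilpotent (G := (S : Subgroup G))
      (Q.subgroupOf S) (by
        rw [lt_top_iff_ne_top, Ne, Subgroup.subgroupOf_eq_top]
        exact hlt.not_ge)
    obtain ⟨x, hx, hxQ⟩ := SetLike.exists_of_lt hnc
    apply hxQ
    rw [Subgroup.mem_subgroupOf, he]
    refine ⟨x.2, ?_⟩
    rw [← Subgroup.subgroupOf_normalizer_eq hS] at hx
    exact Subgroup.mem_subgroupOf.mp hx
  have h2 : IsPGroup p (((S : Subgroup G) ⊓ N).subgroupOf N) :=
    (S.2.to_le inf_le_left).of_equiv (Subgroup.subgroupOfEquivOfLe inf_le_right).symm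
  obtain ⟨S', hS'⟩ := h2.exists_le_sylow
  have h3 : Nat.card ((P : Subgroup N).map N.subtype) < Nat.card ((P : Subgroup N).map N.subtype) := by
    calc Nat.card ((P : Subgroup N).map N.subtype) = Nat.card Q := by rw [heq]
      _ < Nat.card ((S : Subgroup G) ⊓ N : Subgroup G) := Set.Finite.card_lt_card (Set.toFinite _) h1
      _ = Nat.card (((S : Subgroup G) ⊓ N).subgroupOf N) :=
        (Nat.card_congr (Subgroup.subgroupOfEquivOfLe inf_le_right).toEquiv).symm
      _ ≤ Nat.card (S' : Subgroup N) := Subgroup.card_le_of_le hS'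
      _ = Nat.card (P : Subgroup N) := (Sylow.card_eq_multiplicity _).trans (Sylow.card_eq_multiplicity _).symm
      _ = _ := (Subgroup.card_subtype N _).symm
  exact lt_irrefl _ h3

/-- An invariant Sylow subgroup meets the centralizer in a Sylow subgroup. -/
theorem not_dvd_relIndex_of_invariant [Finite G] {z : G} (hz : IsIsolatedInvolution z) {p : ℕ}
    [Fact p.Prime] (P : Sylow p G) (hzP : z ∈ Subgroup.normalizer ((P : Subgroup G) : Set G)) :
    ¬ p ∣ ((P : Subgroup G) ⊓ Subgroup.centralizer ({z} : Set G)).relIndex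
      (Subgroup.centralizer ({z} : Set G)) := by
  set C := Subgroup.centralizer ({z} : Set G) with hC
  obtain ⟨R₀, hR₀⟩ :=
    ((P.2.to_le inf_le_left).of_equiv
      (Subgroup.subgroupOfEquivOfLe (inf_le_right : (P : Subgroup G) ⊓ C ≤ C)).symm).exists_le_sylow
  set R := (R₀ : Subgroup C).map C.subtype with hR
  have hRC : R ≤ C := Subgroup.map_subtype_le _
  have hzR : z ∈ Subgroup.normalizer (R : Set G) :=
    Subgroup.mem_normalizer_iff.mpr fun r => by
      constructor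
      · intro hr
        rwa [conj_eq_of_commute' (Subgroup.mem_centralizer_singleton_iff.mp (hRC hr))]
      · intro hr
        have hr' := Subgroup.mem_centralizer_singleton_iff.mp (hRC hr)
        have : z * r * z⁻¹ = r := mul_left_cancel (a := z) (mul_right_cancel (b := z⁻¹) (by
          calc z * (z * r * z⁻¹) * z⁻¹ = (z * r * z⁻¹ * z) * z⁻¹ := by rw [hr']
            _ = z * r * z⁻¹ := by group))
        rwa [this] at hr
  obtain ⟨M, ⟨hM1, hM2, hM3⟩, hMmax⟩ := (Set.toFinite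
    {M : Subgroup G | IsPGroup p M ∧ z ∈ Subgroup.normalizer (M : Set G) ∧ R ≤ M}).exists_maximal
      ⟨R, R₀.2.map _, hzR, le_rfl⟩
  obtain ⟨P', hP'⟩ := exists_sylow_eq_of_maximal hz M hM1 hM2
    (fun X h1 h2 h3 => le_antisymm (hMmax ⟨h1, h2, hM3.trans h3⟩ h3) h3)
  obtain ⟨g, hg⟩ := MulAction.exists_smul_eq G P P'
  have hN : g * z * g⁻¹ ∈ Subgroup.normalizer ((P' : Subgroup G) : Set G) := by
    have hzP : z • P = P := Sylow.smul_eq_iff_mem_normalizer.mpr hzP
    apply Sylow.smul_eq_iff_mem_normalizer.mp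
    rw [← hg]
    rw [← mul_smul, inv_mul_cancel_right, mul_smul, hzP]
  obtain ⟨n, hn, hne⟩ := exists_mem_conj_of_mem hz (hP' ▸ hM2) (isConj_iff.mpr ⟨g, rfl⟩) hN
  have hcC : Commute (n⁻¹ * g) z := by
    apply commute_of_conj_eq
    calc z * (n⁻¹ * g) * z⁻¹ = n⁻¹ * (n * z * n⁻¹) * g * z⁻¹ := by group
      _ = n⁻¹ * g := by rw [hne]; group
  have hcP : (n⁻¹ * g) • P = P' := by
    rw [mul_smul, hg]
    exact Sylow.smul_eq_iff_mem_normalizer.mpr (inv_mem hn)
  set c := n⁻¹ * g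
  have hmap : ((P : Subgroup G) ⊓ C).map (MulAut.conj c).toMonoidHom = (P' : Subgroup G) ⊓ C := by
    have h1 : (P : Subgroup G).map (MulAut.conj c).toMonoidHom = P' := by
      rw [← hcP]; rfl
    have h2 : C.map (MulAut.conj c).toMonoidHom = C :=
      Subgroup.mem_normalizer_iff_map_conj_eq.mp (Subgroup.le_normalizer (by
        rw [hC, Subgroup.mem_centralizer_singleton_iff]; exact hcC.eq))
    rw [Subgroup.map_inf_eq _ _ _ (MulEquiv.injective _), h1, h2]
  have hRle : R ≤ (P : Subgroup G) ⊓ C := by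
    refine (Subgroup.eq_of_le_of_card_ge
      (fun x hx => Subgroup.mem_map.mpr ⟨⟨x, hx.2⟩, hR₀ (Subgroup.mem_subgroupOf.mpr hx), rfl⟩) ?_).ge
    calc Nat.card R ≤ Nat.card ((P' : Subgroup G) ⊓ C : Subgroup G) :=
          Subgroup.card_le_of_le (le_inf (hP' ▸ hM3) hRC)
      _ = _ := by rw [← hmap, Subgroup.card_map_of_injective (MulEquiv.injective _)]
  intro hdvd
  have hrel : ((P : Subgroup G) ⊓ C).relIndex C ∣ R.relIndex C := Subgroup.relIndex_dvd_of_le_left _ hRle
  have : R.relIndex C = (R₀ : Subgroup C).index := by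
    rw [Subgroup.relIndex, hR, Subgroup.subgroupOf, Subgroup.comap_map_eq_self_of_injective C.subtype_injective]
  exact R₀.not_dvd_index (this ▸ hdvd.trans hrel)

theorem pResidual_eq_top_iff [Finite G] {z : G} (hz : IsIsolatedInvolution z) :
    pResidual 2 G = ⊤ ↔ pResidual 2 (Subgroup.centralizer ({z} : Set G)) = ⊤ := by
  set C := Subgroup.centralizer ({z} : Set G) with hC
  have hN : (pPrimeCore 2 G).Normal := Transfer.pPrimeCore_normal 2 G
  have hOC : ∀ g : G, ∃ o ∈ pPrimeCore 2 G, ∃ c ∈ C, g = o * c := by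
    intro g
    have h := commutatorsInCore_of_isolated hz g
    set q := QuotientGroup.mk' (pPrimeCore 2 G)
    have hv : IsConj z (g * z * g⁻¹) := isConj_iff.mpr ⟨g, rfl⟩
    obtain ⟨o, ho, he⟩ := exists_mem_conj_of_mem (N := pPrimeCore 2 G ⊔ Subgroup.zpowers z) hz
      (Subgroup.mem_sup_right (Subgroup.mem_zpowers z)) hv (by
        rw [show g * z * g⁻¹ = (z * g * z⁻¹ * g⁻¹)⁻¹ * z by group]
        exact mul_mem (Subgroup.mem_sup_left (inv_mem h)) (Subgroup.mem_sup_right (Subgroup.mem_zpowers z)))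
    obtain ⟨a, ha, b, hb, rfl⟩ := Subgroup.mem_sup_of_normal_left.mp ho
    refine ⟨a, ha, b * (b⁻¹ * a⁻¹ * g), ?_, by group⟩
    have hbC : Commute b z := by
      obtain ⟨k, rfl⟩ := hb
      exact (Commute.refl z).zpow_left k
    refine mul_mem (by rw [hC, Subgroup.mem_centralizer_singleton_iff]; exact hbC.eq) ?_
    rw [hC, Subgroup.mem_centralizer_singleton_iff]
    apply mul_inv_eq_iff_eq_mul.mp
    calc b⁻¹ * a⁻¹ * g * z * (b⁻¹ * a⁻¹ * g)⁻¹ = (a * b)⁻¹ * (g * z * g⁻¹) * (a * b) := by group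
      _ = z := by rw [← he]; group
  have hOle : pPrimeCore 2 G ≤ pResidual 2 G := fun o ho =>
    Transfer.mem_pResidual_of_coprime (Nat.coprime_two_right.mpr (odd_orderOf_of_mem_odd odd_card_core ho))
  constructor
  · intro h
    have hf : Function.Surjective ((QuotientGroup.mk' (pPrimeCore 2 G)).comp C.subtype) := by
      intro q
      obtain ⟨g, rfl⟩ := QuotientGroup.mk'_surjective _ q
      obtain ⟨o, ho, c, hc, rfl⟩ := hOC g
      refine ⟨⟨c, hc⟩, ?_⟩
      simp [(QuotientGroup.eq_one_iff o).mpr ho]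
    have h1 := Transfer.map_pResidual (p := 2) _ hf
    have h2 : pResidual 2 (G ⧸ pPrimeCore 2 G) = ⊤ := by
      rw [← Transfer.map_pResidual (p := 2) _ (QuotientGroup.mk'_surjective _), h,
        Subgroup.map_top_of_surjective _ (QuotientGroup.mk'_surjective _)]
    rw [h2] at h1
    rw [eq_top_iff]
    intro c _
    obtain ⟨d, hd, he⟩ := h1.ge (Subgroup.mem_top ((QuotientGroup.mk' (pPrimeCore 2 G)).comp C.subtype c))
    have hm : ((d⁻¹ * c : C) : G) ∈ pPrimeCore 2 G := (QuotientGroup.eq).mp he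
    have : (d⁻¹ * c : C) ∈ pResidual 2 C := Transfer.mem_pResidual_of_coprime (by
      rw [← Subgroup.orderOf_coe]
      exact Nat.coprime_two_right.mpr (odd_orderOf_of_mem_odd odd_card_core hm))
    simpa using mul_mem hd this
  · intro h
    rw [eq_top_iff]
    intro g _
    obtain ⟨o, ho, c, hc, rfl⟩ := hOC g
    refine mul_mem (hOle ho) (Transfer.map_pResidual_subtype_le C ?_)
    exact ⟨⟨c, hc⟩, h ▸ Subgroup.mem_top _, rfl⟩

/-- An involution inverting elements of a group of odd order: cosets of the fixed subgroup. -/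
theorem relIndex_eq_card_inverted [Finite G] {z : G} (hz : orderOf z = 2) {P : Subgroup G}
    (hP : Odd (Nat.card P)) (hzP : z ∈ Subgroup.normalizer (P : Set G)) :
    (P ⊓ Subgroup.centralizer ({z} : Set G)).relIndex P =
      Nat.card {x : G // x ∈ P ∧ z * x * z⁻¹ = x⁻¹} := by
  have hzz := Invol.mul_self_of_orderOf_two hz
  have hzi := Invol.inv_of_orderOf_two hz
  rw [Subgroup.inf_relIndex_left]
  show (((Subgroup.centralizer ({z} : Set G)).subgroupOf P).index = _)
  rw [Subgroup.index, eq_comm]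
  refine (Nat.card_congr (Equiv.ofBijective (Quotient.lift (fun x : P => (⟨x.1 * z * x.1⁻¹ * z, ?_, ?_⟩ : {x : G // x ∈ P ∧ z * x * z⁻¹ = x⁻¹})) ?_) ⟨?_, ?_⟩)).symm
  · have := (Subgroup.mem_normalizer_iff.mp hzP _).mp (inv_mem x.2)
    rw [hzi] at this
    rw [mul_assoc, mul_assoc, ← mul_assoc z]
    exact mul_mem x.2 this
  · rw [show (x.1 * z * x.1⁻¹ * z)⁻¹ = z⁻¹ * x.1 * z⁻¹ * x.1⁻¹ by group, hzi,
      show z * (x.1 * z * x.1⁻¹ * z) * z = z * x.1 * z * x.1⁻¹ * (z * z) by group, hzz, mul_one]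
  · intro x y hxy
    have h : x⁻¹ * y ∈ (Subgroup.centralizer ({z} : Set G)).subgroupOf P := QuotientGroup.leftRel_apply.mp hxy
    rw [Subgroup.mem_subgroupOf, Subgroup.mem_centralizer_singleton_iff] at h
    refine Subtype.ext ?_
    show x.1 * z * x.1⁻¹ * z = y.1 * z * y.1⁻¹ * z
    have e : (x.1⁻¹ * y.1) * z * (x.1⁻¹ * y.1)⁻¹ = z := mul_inv_eq_iff_eq_mul.mpr h
    rw [show y.1 * z * y.1⁻¹ = x.1 * ((x.1⁻¹ * y.1) * z * (x.1⁻¹ * y.1)⁻¹) * x.1⁻¹ by group, e]
  · intro a b
    induction a using Quotient.inductionOn with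
    | h x =>
      induction b using Quotient.inductionOn with
      | h y =>
        intro h
        simp only [Quotient.lift_mk, Subtype.mk.injEq] at h
        apply Quotient.sound
        rw [← Quotient.eq_iff_equiv]
        apply QuotientGroup.eq.mpr
        rw [Subgroup.mem_subgroupOf, Subgroup.mem_centralizer_singleton_iff]
        apply mul_inv_eq_iff_eq_mul.mp
        have h' := mul_right_cancel h
        calc ((x⁻¹ * y : P) : G) * z * ((x⁻¹ * y : P) : G)⁻¹ = x.1⁻¹ * (y.1 * z * y.1⁻¹) * x.1 := by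
              push_cast; group
          _ = z := by rw [← h']; group
  · rintro ⟨k, hk, hki⟩
    obtain ⟨n, hn⟩ := exists_sqrt (odd_orderOf_of_mem_odd hP hk)
    refine ⟨QuotientGroup.mk (⟨k ^ n, pow_mem hk n⟩ : P), Subtype.ext ?_⟩
    show k ^ n * z * (k ^ n)⁻¹ * z = k
    rw [← conj_pow_inverted hki n, hzi,
      show k ^ n * z * (z * k ^ n * z) * z = k ^ n * (z * z) * k ^ n * (z * z) by group, hzz,
      mul_one, mul_one, hn]

end CfsgLib.ZStar
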