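import Cfsg.Agent.Lib.Invol.Dihedral
import Cfsg.Agent.Lib.Transfer.Basic
import Mathlib

/-!
# 2-groups with a single involution
-/

set_option autoImplicit false

namespace CfsgLib.ZStar

variable {P : Type*} [Group P] [Finite P]

/-- An element of maximal order is self-centralizing. -/
theorem mem_zpowers_of_commute (hP : IsPGroup 2 P)
    (huniq : ∀ x y : P, orderOf x = 2 → orderOf y = 2 → x = y) {a : P} {n : ℕ} (hn : 1 ≤ n)
    (ha : orderOf a = 2 ^ n) (hmax : ∀ x : P, x ^ 2 ^ n = 1) {c : P} (hc : Commute c a) :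
    c ∈ Subgroup.zpowers a := by
  suffices h : ∀ j : ℕ, ∀ c : P, Commute c a → c ^ 2 ^ j ∈ Subgroup.zpowers a →
      c ∈ Subgroup.zpowers a from h n c hc (by rw [hmax]; exact one_mem _)
  intro j
  induction j with
  | zero => intro c _ h; simpa using h
  | succ j ih =>
    intro c hc h
    refine ih c hc ?_
    rw [pow_succ, pow_mul] at h
    set d := c ^ 2 ^ j
    have hd : Commute d a := hc.pow_left _
    obtain ⟨k, hk⟩ := Subgroup.mem_zpowers_iff.mp h
    obtain ⟨m, rfl⟩ : ∃ m, n = m + 1 := ⟨n - 1, by omega⟩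
    have hev : (2 : ℤ) ∣ k := by
      have h1 : a ^ (k * (2 ^ m : ℕ)) = 1 := by
        rw [zpow_mul, hk, zpow_natCast, ← pow_mul, ← pow_succ', hmax]
      rw [← orderOf_dvd_iff_zpow_eq_one, ha, pow_succ', Nat.cast_mul, Nat.cast_ofNat] at h1
      exact (mul_dvd_mul_iff_right (by positivity)).mp h1
    obtain ⟨l, rfl⟩ := hev
    have hsq : (d * (a ^ l)⁻¹) * (d * (a ^ l)⁻¹) = 1 := by
      rw [(((hd.zpow_right l).inv_right).symm).mul_mul_mul_comm, ← pow_two, ← hk, ← mul_inv_rev,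
        ← zpow_add, two_mul, mul_inv_cancel]
    by_cases h1 : d * (a ^ l)⁻¹ = 1
    · rw [mul_inv_eq_one] at h1
      rw [h1]
      exact zpow_mem (Subgroup.mem_zpowers a) l
    · have h2 := huniq _ (a ^ 2 ^ m) (Invol.orderOf_two_of_mul_self hsq h1)
        (by rw [orderOf_pow_of_dvd (by positivity) (ha ▸ ⟨2, pow_succ 2 m⟩), ha, pow_succ,
          Nat.mul_div_cancel_left _ (by positivity)])
      rw [mul_inv_eq_iff_eq_mul] at h2
      rw [h2]
      exact mul_mem (pow_mem (Subgroup.mem_zpowers a) _) (zpow_mem (Subgroup.mem_zpowers a) l)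

/-- The integer congruences behind `x a x⁻¹ = a⁻¹`. -/
theorem dvd_succ_of_congr {N k r : ℤ} (hN : 2 ∣ N) (h1 : 2 * N ∣ r ^ 2 - 1)
    (h2 : 2 * N ∣ k * (r - 1)) (hk : 2 ∣ k) (hsol : ∀ l : ℤ, ¬ 2 * N ∣ l * (1 + r) + k)
    (hpow : ∀ c : ℤ, ¬ 2 ∣ c → IsCoprime c (2 * N)) : 2 * N ∣ r + 1 := by
  obtain ⟨M, rfl⟩ := hN
  obtain ⟨c, hc | hc⟩ := Int.even_or_odd' r
  · exfalso
    obtain ⟨q, hq⟩ := h1
    subst hc
    have : (2 : ℤ) ∣ 1 := ⟨2 * c ^ 2 - 2 * (M * q), by linear_combination -hq⟩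
    omega
  subst hc
  rcases Int.even_or_odd c with hce | hco
  · exfalso
    obtain ⟨k', rfl⟩ := hk
    obtain ⟨a, b, hab⟩ := hpow (c + 1) (by rcases hce with ⟨e, rfl⟩; omega)
    refine hsol (-(a * k')) ⟨2 * b * k', ?_⟩
    linear_combination (-2 * k') * hab
  · have hcop := hpow c (by rcases hco with ⟨e, rfl⟩; omega)
    have h4 : 2 * M ∣ k := by
      have h : 2 * M ∣ k * c := by
        obtain ⟨q, hq⟩ := h2
        exact ⟨q, by
          have : 2 * (k * c) = 2 * (2 * M * q) := by linear_combination hq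
          linarith⟩
      exact ((hcop.of_isCoprime_of_dvd_right ⟨2, by ring⟩).symm).dvd_of_dvd_mul_right h
    have h5 : 2 * M ∣ 2 * (c + 1) := by
      have h : 2 * M ∣ c * (2 * (c + 1)) := by
        obtain ⟨q, hq⟩ := h1
        exact ⟨q, by
          have : 2 * (c * (2 * (c + 1))) = 2 * (2 * M * q) := by linear_combination hq
          linarith⟩
      exact ((hcop.of_isCoprime_of_dvd_right ⟨2, by ring⟩).symm).dvd_of_dvd_mul_left h
    obtain ⟨e, he⟩ := h4
    obtain ⟨f, hf⟩ := h5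
    rcases Int.even_or_odd f with ⟨f', rfl⟩ | ⟨f', rfl⟩
    · exact ⟨f', by linear_combination hf⟩
    · exfalso
      rcases Int.even_or_odd e with ⟨e', rfl⟩ | ⟨e', rfl⟩
      · exact hsol 0 ⟨e', by linear_combination he⟩
      · exact hsol 1 ⟨f' + e' + 1, by linear_combination he + hf⟩

/-- An element normalizing a maximal cyclic subgroup and squaring into it inverts it. -/
theorem conj_eq_inv_of_sq_mem (hP : IsPGroup 2 P)
    (huniq : ∀ x y : P, orderOf x = 2 → orderOf y = 2 → x = y) {a : P} {n : ℕ} (hn : 2 ≤ n)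
    (ha : orderOf a = 2 ^ n) (hmax : ∀ x : P, x ^ 2 ^ n = 1) {x : P} {r : ℤ}
    (hr : x * a * x⁻¹ = a ^ r) (hx2 : x * x ∈ Subgroup.zpowers a) (hx : x ∉ Subgroup.zpowers a) :
    x * a * x⁻¹ = a⁻¹ := by
  obtain ⟨m, rfl⟩ : ∃ m, n = m + 1 + 1 := ⟨n - 2, by omega⟩
  obtain ⟨k, hk⟩ := Subgroup.mem_zpowers_iff.mp hx2
  have hd : ∀ e : ℤ, a ^ e = 1 ↔ 2 * (2 * (2 : ℤ) ^ m) ∣ e := fun e => by
    rw [← orderOf_dvd_iff_zpow_eq_one, ha]
    push_cast
    rw [show (2 : ℤ) ^ (m + 1 + 1) = 2 * (2 * 2 ^ m) by ring]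
  have hconj : ∀ e : ℤ, x * a ^ e * x⁻¹ = a ^ (r * e) := fun e => by
    rw [← conj_zpow, hr, zpow_mul]
  have hrr : a ^ (r * r) = a := by
    calc a ^ (r * r) = x * a ^ r * x⁻¹ := (hconj r).symm
      _ = x * x * a * (x * x)⁻¹ := by rw [← hr]; group
      _ = a := by rw [← hk, (Commute.zpow_self a k).eq, mul_inv_cancel_right]
  have hxk : a ^ (r * k) = a ^ k := by rw [← hconj, hk]; group
  have hkev : (2 : ℤ) ∣ k := by
    have h1 : a ^ (k * (2 ^ (m + 1) : ℕ)) = 1 := by
      rw [zpow_mul, hk, zpow_natCast, ← pow_two, ← pow_mul, ← pow_succ', hmax]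
    rw [hd] at h1
    push_cast at h1
    rw [show (2 : ℤ) * (2 * 2 ^ m) = 2 * 2 ^ (m + 1) by ring] at h1
    exact (mul_dvd_mul_iff_right (by positivity)).mp h1
  have h := dvd_succ_of_congr (N := 2 * (2 : ℤ) ^ m) (k := k) (r := r) ⟨_, rfl⟩
    (by rw [← hd, zpow_sub_one, sq, hrr, mul_inv_cancel])
    (by rw [← hd, mul_sub, mul_one, zpow_sub, mul_comm, hxk, mul_inv_cancel])
    hkev ?_ ?_
  · rw [hr]
    exact mul_eq_one_iff_eq_inv.mp (by rw [← zpow_add_one]; exact (hd _).mpr h)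
  · intro l hl
    have hsq : a ^ l * x * (a ^ l * x) = 1 := by
      rw [← (hd _).mpr hl, show l * (1 + r) + k = l + r * l + k by ring, zpow_add, zpow_add,
        ← hconj, hk]
      group
    have hne : a ^ l * x ≠ 1 := fun h => hx (by
      rw [eq_inv_of_mul_eq_one_right h]
      exact inv_mem (zpow_mem (Subgroup.mem_zpowers a) l))
    have h2 := huniq _ (a ^ 2 ^ (m + 1)) (Invol.orderOf_two_of_mul_self hsq hne)
      (by rw [orderOf_pow_of_dvd (by positivity) (ha ▸ ⟨2, pow_succ 2 _⟩), ha, pow_succ 2 (m + 1),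
        Nat.mul_div_cancel_left _ (by positivity)])
    exact hx (by
      rw [← inv_mul_cancel_left (a ^ l) x, h2]
      exact mul_mem (inv_mem (zpow_mem (Subgroup.mem_zpowers a) l))
        (pow_mem (Subgroup.mem_zpowers a) _))
  · intro c hc
    rw [show (2 : ℤ) * (2 * 2 ^ m) = 2 ^ (m + 2) by ring]
    exact (((Int.prime_two).coprime_iff_not_dvd.mpr hc).symm).pow_right

/-- A 2-group with a single involution is cyclic or has a cyclic subgroup of index 2 inverted by
the elements outside. -/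
theorem unique_involution_structure (hP : IsPGroup 2 P)
    (huniq : ∀ x y : P, orderOf x = 2 → orderOf y = 2 → x = y) :
    IsCyclic P ∨ ∃ (a : P) (n : ℕ), 2 ≤ n ∧ orderOf a = 2 ^ n ∧ (∀ x : P, x ^ 2 ^ n = 1) ∧
      (Subgroup.zpowers a).index = 2 ∧ ∀ x ∉ Subgroup.zpowers a, x * a * x⁻¹ = a⁻¹ := by
  classical
  obtain ⟨a, hamax⟩ := Finite.exists_max (fun x : P => orderOf x)
  obtain ⟨n, hn⟩ := IsPGroup.iff_orderOf.mp hP a
  have hmax : ∀ x : P, x ^ 2 ^ n = 1 := fun x => by
    obtain ⟨k, hk⟩ := IsPGroup.iff_orderOf.mp hP x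
    refine orderOf_dvd_iff_pow_eq_one.mp ?_
    rw [hk]
    refine pow_dvd_pow 2 ((Nat.pow_le_pow_iff_right one_lt_two).mp ?_)
    rw [← hk, ← hn]
    exact hamax x
  by_cases hall : ∀ x, x ∈ Subgroup.zpowers a
  · exact Or.inl ⟨⟨a, hall⟩⟩
  have hn2 : 2 ≤ n := by
    by_contra hlt
    refine hall fun x => ?_
    have hx2 : x * x = 1 := by
      obtain ⟨j, hj⟩ : 2 ^ n ∣ 2 :=
        (Nat.pow_dvd_pow 2 (show n ≤ 1 by omega)).trans (pow_one 2).dvd
      rw [← pow_two, hj, pow_mul, hmax, one_pow]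
    by_cases hx : x = 1
    · rw [hx]; exact one_mem _
    · have ha1 : a ≠ 1 := fun h => hx (orderOf_eq_one_iff.mp (le_antisymm
        (by simpa [h] using hamax x) (orderOf_pos x)))
      have hn1 : n = 1 := by
        rcases Nat.eq_zero_or_pos n with h0 | h0
        · exact absurd (orderOf_eq_one_iff.mp (by rw [hn, h0, pow_zero])) ha1
        · omega
      rw [huniq x a (Invol.orderOf_two_of_mul_self hx2 hx) (by rw [hn, hn1, pow_one])]
      exact Subgroup.mem_zpowers a
  refine Or.inr ⟨a, n, hn2, hn, hmax, ?_⟩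
  set A := Subgroup.zpowers a with hA
  have hcent : ∀ c, Commute c a → c ∈ A := fun c hc =>
    mem_zpowers_of_commute hP huniq (by omega) hn hmax hc
  -- elements normalizing `A` invert `a`
  have hinv : ∀ x : P, x * a * x⁻¹ ∈ A → x ∉ A → x * a * x⁻¹ = a⁻¹ := by
    intro x hx hxA
    obtain ⟨r, hr⟩ := Subgroup.mem_zpowers_iff.mp hx
    refine conj_eq_inv_of_sq_mem hP huniq hn2 hn hmax hr.symm ?_ hxA
    have key : ∀ j : ℕ, ∀ z : P, z * a * z⁻¹ ∈ A → z ^ 2 ^ j ∈ A → z * z ∈ A := by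
      intro j
      induction j with
      | zero => intro z _ h; simpa using mul_mem h h
      | succ j ih =>
        intro z hz h
        have hz2 : z * z * a * (z * z)⁻¹ ∈ A := by
          obtain ⟨s, hs⟩ := Subgroup.mem_zpowers_iff.mp hz
          rw [show z * z * a * (z * z)⁻¹ = z * (z * a * z⁻¹) * z⁻¹ by group, ← hs, ← conj_zpow]
          exact zpow_mem hz s
        have h4 : z * z * (z * z) ∈ A :=
          ih (z * z) hz2 (by rwa [pow_succ', pow_mul, pow_two] at h)
        by_contra hzz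
        obtain ⟨s, hs⟩ := Subgroup.mem_zpowers_iff.mp hz
        obtain ⟨s', hs'⟩ := Subgroup.mem_zpowers_iff.mp hz2
        have h5 := conj_eq_inv_of_sq_mem hP huniq hn2 hn hmax hs'.symm h4 hzz
        have h6 : a ^ (s * s + 1) = 1 := by
          rw [zpow_add_one, zpow_mul, hs, conj_zpow, hs,
            show z * (z * a * z⁻¹) * z⁻¹ = z * z * a * (z * z)⁻¹ by group, h5, inv_mul_cancel]
        rw [← orderOf_dvd_iff_zpow_eq_one, hn] at h6
        have h7 : (4 : ℤ) ∣ s * s + 1 := (by exact_mod_cast (Nat.pow_dvd_pow 2 hn2) :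
          ((4 : ℕ) : ℤ) ∣ ((2 ^ n : ℕ) : ℤ)).trans h6
        rcases Int.even_or_odd' s with ⟨e, rfl | rfl⟩
        · obtain ⟨q, hq⟩ := h7
          have : (4 : ℤ) ∣ 1 := ⟨q - e * e, by linarith⟩
          omega
        · obtain ⟨q, hq⟩ := h7
          have : (4 : ℤ) ∣ 2 := ⟨q - e * e - e, by linarith⟩
          omega
    exact key n x hx (by rw [hmax]; exact one_mem _)
  have hsq : ∀ x : P, x * a * x⁻¹ ∈ A → x ∉ A → x ^ 4 = 1 := by
    intro x hx hxA
    have h1 := hinv x hx hxA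
    have h2 : x * x ∈ A := hcent _ (mul_inv_eq_iff_eq_mul.mp (by
      rw [show x * x * a * (x * x)⁻¹ = x * (x * a * x⁻¹) * x⁻¹ by group, h1, ← conj_inv, h1,
        inv_inv]))
    obtain ⟨k, hk⟩ := Subgroup.mem_zpowers_iff.mp h2
    have h3 : (a ^ k)⁻¹ = a ^ k := by
      have e : x * a ^ k * x⁻¹ = a ^ k := by rw [hk]; group
      rwa [← conj_zpow, h1, inv_zpow] at e
    rw [hk] at h3
    rw [show (4 : ℕ) = 2 * 2 from rfl, pow_mul, pow_two, pow_two]
    nth_rw 1 [← h3]
    exact inv_mul_cancel _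
  have hnorm : ∀ x : P, x * a * x⁻¹ ∈ A := by
    by_cases hn3 : 3 ≤ n
    · by_contra hc
      push Not at hc
      set N := Subgroup.normalizer (A : Set P)
      have hmemN : ∀ x : P, x ∈ N ↔ x * a * x⁻¹ ∈ A := by
        intro x
        refine ⟨fun h => (Subgroup.mem_normalizer_iff.mp h a).mp (Subgroup.mem_zpowers a), fun h => ?_⟩
        rw [Subgroup.mem_normalizer_iff]
        have hmap : A.map (MulAut.conj x).toMonoidHom = A := by
          refine Subgroup.eq_of_le_of_card_ge ?_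
            (Subgroup.card_map_of_injective (MulAut.conj x).injective).ge
          rw [hA, MonoidHom.map_zpowers, Subgroup.zpowers_le]
          exact h
        intro y
        constructor
        · intro hy
          rw [← hmap]
          exact ⟨y, hy, rfl⟩
        · intro hy
          rw [← hmap] at hy
          obtain ⟨y', hy', e⟩ := hy
          simp only [MulEquiv.coe_toMonoidHom, MulAut.conj_apply, mul_left_inj, mul_right_inj] at e
          exact e ▸ hy'
      have hlt : N < ⊤ := lt_top_iff_ne_top.mpr fun htop => by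
        obtain ⟨x, hx⟩ := hc
        exact hx ((hmemN x).mp (htop ▸ Subgroup.mem_top x))
      have := hP.isNilpotent
      obtain ⟨m, hm, hmN⟩ := SetLike.exists_of_lt
        (Group.normalizerCondition_of_isNilpotent N hlt)
      refine hmN ((hmemN m).mpr ?_)
      have hb : m * a * m⁻¹ ∈ N :=
        (Subgroup.mem_normalizer_iff.mp hm a).mp ((hmemN a).mpr (by simp [hA]))
      by_contra hbA
      have h1 := hsq _ ((hmemN _).mp hb) hbA
      have h2 := orderOf_dvd_of_pow_eq_one h1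
      rw [CfsgLib.Transfer.orderOf_conj, hn] at h2
      have h8 : 2 ^ 3 ≤ 2 ^ n := Nat.pow_le_pow_right two_pos hn3
      have := Nat.le_of_dvd (by norm_num) h2
      omega
    · intro x
      have hn' : n = 2 := by omega
      have hsqA : ∀ y : P, y * y ∈ A := fun y => by
        by_cases h1 : y * y = 1
        · rw [h1]; exact one_mem _
        · have hy4 : y * y * (y * y) = 1 := by
            rw [← pow_two, ← pow_two, ← pow_mul, show 2 * 2 = 2 ^ n by rw [hn']; norm_num, hmax]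
          have ha2 : orderOf (a * a) = 2 := by
            rw [← pow_two, orderOf_pow_of_dvd two_ne_zero (by rw [hn, hn']; norm_num), hn, hn']
            norm_num
          rw [huniq (y * y) (a * a) (Invol.orderOf_two_of_mul_self hy4 h1) ha2]
          exact mul_mem (Subgroup.mem_zpowers a) (Subgroup.mem_zpowers a)
      have h2 : x * a * x⁻¹ * a⁻¹ = x * x * ((x⁻¹ * a) * (x⁻¹ * a)) * (a * a)⁻¹ := by group
      have h3 : x * a * x⁻¹ * a⁻¹ ∈ A := by
        rw [h2]
        exact mul_mem (mul_mem (hsqA x) (hsqA _)) (inv_mem (hsqA a))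
      simpa using mul_mem h3 (Subgroup.mem_zpowers a)
  refine ⟨?_, fun x hx => hinv x (hnorm x) hx⟩
  obtain ⟨w, hw⟩ := not_forall.mp hall
  rw [Subgroup.index_eq_two_iff]
  refine ⟨w, fun b => ?_⟩
  by_cases hb : b ∈ A
  · exact Or.inr ⟨hb, fun h => hw (by simpa using mul_mem (inv_mem hb) h)⟩
  · refine Or.inl ⟨hcent _ (mul_inv_eq_iff_eq_mul.mp ?_), hb⟩
    rw [show b * w * a * (b * w)⁻¹ = b * (w * a * w⁻¹) * b⁻¹ by group, hinv w (hnorm w) hw,
      ← conj_inv, hinv b (hnorm b) hb, inv_inv]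

end CfsgLib.ZStar
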