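import Cfsg.Agent.Lib.ZStar.Main

/-!
# The Z*-theorem for elements of 2-power order

An element of a Sylow 2-subgroup all of whose powers are weakly closed is central modulo `O(G)`.
-/

set_option autoImplicit false

namespace CfsgLib.ZStar

open Cfsg

universe u

section Basic

variable {G : Type*} [Group G] [Finite G]

/-- A 2-element of `SK`, `K` normal of odd order, is conjugate into `S` by an element of `K`. -/
theorem exists_conj_mem_of_mem_sup (S : Sylow 2 G) {K : Subgroup G} [K.Normal] {y : G}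
    (hy : IsPGroup 2 (Subgroup.zpowers y)) (hyS : y ∈ (S : Subgroup G) ⊔ K) :
    ∃ o ∈ K, o * y * o⁻¹ ∈ S := by
  have := Fintype.ofFinite G
  obtain ⟨c, hc, hcS⟩ := exists_conj_mem_sylow S (N := (S : Subgroup G) ⊔ K) le_sup_left
    (Subgroup.zpowers_le.mpr hyS) hy
  obtain ⟨s, hs, o, ho, rfl⟩ := Subgroup.mem_sup_of_normal_right.mp hc
  refine ⟨o, ho, ?_⟩
  have h := mul_mem (mul_mem (inv_mem hs) (hcS y (Subgroup.mem_zpowers y))) hs
  have he : s⁻¹ * (s * o * y * (s * o)⁻¹) * s = o * y * o⁻¹ := by group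
  rwa [he] at h

/-- Congruent 2-elements modulo a normal subgroup of odd order are conjugate under it. -/
theorem exists_conj_eq_of_mul_mem {K : Subgroup G} [K.Normal] (hK : (Nat.card K).Coprime 2)
    {x y : G} (hx : IsPGroup 2 (Subgroup.zpowers x)) (hy : IsPGroup 2 (Subgroup.zpowers y))
    (hxy : y * x⁻¹ ∈ K) : ∃ o ∈ K, o * y * o⁻¹ = x := by
  obtain ⟨S, hS⟩ := hx.exists_le_sylow
  have hxS : x ∈ S := hS (Subgroup.mem_zpowers x)
  have hys : y ∈ (S : Subgroup G) ⊔ K := by
    rw [show y = y * x⁻¹ * x by group]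
    exact mul_mem (Subgroup.mem_sup_right hxy) (Subgroup.mem_sup_left hxS)
  obtain ⟨o, ho, hoS⟩ := exists_conj_mem_of_mem_sup S hy hys
  refine ⟨o, ho, mul_inv_eq_one.mp ?_⟩
  refine PSolvable.eq_one_of_mem_of_mem S.2 hK (mul_mem hoS (inv_mem hxS)) ?_
  have he : o * y * o⁻¹ * x⁻¹ = o * (y * x⁻¹) * (x * o⁻¹ * x⁻¹) := by group
  rw [he]
  exact mul_mem (mul_mem ho hxy) (Subgroup.Normal.conj_mem inferInstance _ (inv_mem ho) x)

/-- Dividing by a central 2-subgroup creates no odd core. -/
theorem pPrimeCore_eq_bot_of_central {Q : Type*} [Group Q] {f : G →* Q}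
    (hf : Function.Surjective f) (hker : f.ker ≤ Subgroup.center G) (h2 : IsPGroup 2 f.ker)
    (hO : pPrimeCore 2 G = ⊥) : pPrimeCore 2 Q = ⊥ := by
  haveI : Finite Q := Finite.of_surjective f hf
  set M := (pPrimeCore 2 Q).comap f
  haveI hM : M.Normal := (Transfer.pPrimeCore_normal 2 Q).comap f
  have hkM : f.ker ≤ M := MonoidHom.ker_le_comap f _
  haveI := (Transfer.pPrimeCore_normal 2 Q)
  obtain ⟨P, hP⟩ := (h2.of_equiv (Subgroup.subgroupOfEquivOfLe hkM).symm).exists_le_sylow
  have hPker : ∀ p : M, p ∈ P → (p : G) ∈ f.ker := by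
    intro p hp
    refine f.mem_ker.mpr ?_
    have hPimg : IsPGroup 2 ((P : Subgroup M).map (f.comp M.subtype)) := P.2.map _
    exact PSolvable.eq_one_of_mem_of_mem hPimg (Transfer.pPrimeCore_coprime 2)
      ⟨p, hp, rfl⟩ p.2
  have hnpc : HasNormalPComplement 2 M := by
    refine Transfer.hasNormalPComplement_of_central P fun p hp => ?_
    rw [Subgroup.mem_center_iff]
    intro q
    exact Subtype.ext (Subgroup.mem_center_iff.mp (hker (hPker p hp)) (q : G))
  obtain ⟨P', N, hN, hc⟩ := hnpc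
  have hN2 : (Nat.card N).Coprime 2 := by
    refine Nat.Coprime.symm ((Nat.prime_two.coprime_iff_not_dvd).mpr ?_)
    rw [← hc.index_eq_card]
    exact P'.not_dvd_index
  have hNO : N ≤ pPrimeCore 2 M := Transfer.le_pPrimeCore hN hN2
  have hM0 : pPrimeCore 2 M = ⊥ := by
    have h := PSolvable.map_pPrimeCore_le (p := 2) M
    rw [hO, le_bot_iff, Subgroup.map_eq_bot_iff, Subgroup.ker_subtype, le_bot_iff] at h
    exact h
  have hN0 : N = ⊥ := le_bot_iff.mp (hM0 ▸ hNO)
  have hP' : IsPGroup 2 M := by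
    have htop : (P' : Subgroup M) = ⊤ := Subgroup.isComplement'_bot_left.mp (hN0 ▸ hc)
    exact (htop ▸ P'.2).of_equiv Subgroup.topEquiv
  rw [eq_bot_iff]
  intro q hq
  obtain ⟨g, rfl⟩ := hf q
  exact PSolvable.eq_one_of_mem_of_mem (hP'.map f) (Transfer.pPrimeCore_coprime 2)
    ⟨g, hq, rfl⟩ hq

end Basic

/-- All powers of `x` are weakly closed in `S`. -/
def PowersWeaklyClosed {G : Type*} [Group G] (S : Subgroup G) (x : G) : Prop :=
  x ∈ S ∧ ∀ (k : ℕ) (g : G), g * x ^ k * g⁻¹ ∈ S → g * x ^ k * g⁻¹ = x ^ k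

theorem PowersWeaklyClosed.map {G : Type*} [Group G] [Finite G] {S : Sylow 2 G} {x : G}
    (h : PowersWeaklyClosed (S : Subgroup G) x) {Q : Type*} [Group Q] (f : G →* Q)
    (hf : Function.Surjective f)
    (hlift : ∀ y : G, IsPGroup 2 (Subgroup.zpowers y) → y ∈ (S : Subgroup G) ⊔ f.ker →
      ∃ o ∈ f.ker, o * y * o⁻¹ ∈ S) :
    PowersWeaklyClosed ((S.mapSurjective hf : Sylow 2 Q) : Subgroup Q) (f x) := by
  rw [Sylow.coe_mapSurjective]
  refine ⟨⟨x, h.1, rfl⟩, fun k q hq => ?_⟩
  obtain ⟨g, rfl⟩ := hf q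
  simp only [← map_pow, ← map_inv, ← map_mul] at hq ⊢
  rw [← Subgroup.mem_comap, Subgroup.comap_map_eq] at hq
  have hxk : IsPGroup 2 (Subgroup.zpowers (g * x ^ k * g⁻¹)) := by
    have h2 := (S.2.to_le (Subgroup.zpowers_le.mpr (pow_mem h.1 k))).map (MulAut.conj g).toMonoidHom
    rwa [MonoidHom.map_zpowers] at h2
  obtain ⟨o, ho, hoS⟩ := hlift _ hxk hq
  have he : o * (g * x ^ k * g⁻¹) * o⁻¹ = o * g * x ^ k * (o * g)⁻¹ := by group
  have hweq := h.2 k (o * g) (he ▸ hoS)
  rw [← he] at hweq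
  have := congrArg f hweq
  simpa [map_mul, map_inv, f.mem_ker.mp ho] using this

theorem commutatorsInCore_of_powers_aux : ∀ (n : ℕ) (G : Type u) [Group G] [Finite G],
    Nat.card G ≤ n → ∀ (S : Sylow 2 G) (x : G), PowersWeaklyClosed (S : Subgroup G) x →
      CommutatorsInCore x := by
  intro n
  induction n with
  | zero =>
    intro G _ _ hn
    have := Nat.card_pos (α := G)
    omega
  | succ n ih =>
    intro G _ _ hn S x hx
    haveI hOn : (pPrimeCore 2 G).Normal := Transfer.pPrimeCore_normal 2 G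
    by_cases hO : pPrimeCore 2 G = ⊥
    swap
    · let f := QuotientGroup.mk' (pPrimeCore 2 G)
      have hf : Function.Surjective f := QuotientGroup.mk'_surjective _
      have hker : f.ker = pPrimeCore 2 G := QuotientGroup.ker_mk' _
      have hcard : Nat.card (G ⧸ pPrimeCore 2 G) ≤ n := by
        have h1 := Subgroup.card_eq_card_quotient_mul_card_subgroup (pPrimeCore 2 G)
        have h2 := (pPrimeCore 2 G).one_lt_card_iff_ne_bot.mpr hO
        have h3 : 0 < Nat.card (G ⧸ pPrimeCore 2 G) := Nat.card_pos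
        nlinarith
      have hO' := PSolvable.pPrimeCore_eq_bot_of_ker hf hker
      have hc := ih _ hcard (S.mapSurjective hf) (f x) (hx.map f hf fun y hy hyS => by
        haveI : f.ker.Normal := f.normal_ker
        exact exists_conj_mem_of_mem_sup S hy hyS)
      intro g
      have h1 := hc (f g)
      rw [hO', Subgroup.mem_bot] at h1
      rw [← hker, f.mem_ker]
      simpa using h1
    rcases eq_or_ne x 1 with rfl | hx1
    · intro g; simp
    obtain ⟨e, he⟩ := IsPGroup.iff_orderOf.mp S.2 ⟨x, hx.1⟩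
    rw [← Subgroup.orderOf_coe] at he
    obtain ⟨e, rfl⟩ : ∃ e', e = e' + 1 := by
      refine ⟨e - 1, ?_⟩
      rcases Nat.eq_zero_or_pos e with rfl | h0
      · exact absurd (orderOf_eq_one_iff.mp (by simpa using he)) hx1
      · omega
    set z := x ^ 2 ^ e
    have hz2 : orderOf z = 2 := by
      rw [orderOf_pow' x (by positivity), show orderOf x = 2 ^ (e + 1) from he,
        Nat.gcd_eq_right (pow_dvd_pow 2 (Nat.le_succ e)), pow_succ, Nat.mul_div_cancel_left _
          (by positivity)]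
    have hzS : z ∈ S := pow_mem hx.1 _
    have hzc : ∀ g : G, Commute z g := fun g => commute_of_commutatorsInCore hO
      (commutatorsInCore_of_isolated (Invol.isolated_of_sylow S hz2 hzS (hx.2 _))) g
    haveI hZn : (Subgroup.zpowers z).Normal := ⟨fun a ha g => by
      obtain ⟨i, rfl⟩ := ha
      rw [((hzc g).zpow_left i).symm.eq, mul_inv_cancel_right]
      exact ⟨i, rfl⟩⟩
    let f := QuotientGroup.mk' (Subgroup.zpowers z)
    have hf : Function.Surjective f := QuotientGroup.mk'_surjective _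
    have hker : f.ker = Subgroup.zpowers z := QuotientGroup.ker_mk' _
    have hkS : f.ker ≤ (S : Subgroup G) := by rw [hker]; exact Subgroup.zpowers_le.mpr hzS
    have hcard : Nat.card (G ⧸ Subgroup.zpowers z) ≤ n := by
      have h1 := Subgroup.card_eq_card_quotient_mul_card_subgroup (Subgroup.zpowers z)
      rw [Nat.card_zpowers, hz2] at h1
      have h3 : 0 < Nat.card (G ⧸ Subgroup.zpowers z) := Nat.card_pos
      omega
    have hO' : pPrimeCore 2 (G ⧸ Subgroup.zpowers z) = ⊥ :=
      pPrimeCore_eq_bot_of_central hf (hker.le.trans (Subgroup.zpowers_le.mpr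
        (Subgroup.mem_center_iff.mpr fun g => (hzc g).symm.eq))) (S.2.to_le hkS) hO
    have hc := ih _ hcard (S.mapSurjective hf) (f x) (hx.map f hf fun y _ hyS =>
      ⟨1, one_mem _, by rw [one_mul, inv_one, mul_one]; exact (sup_le le_rfl hkS) hyS⟩)
    refine commutatorsInCore_of_commute fun g => ?_
    have h1 := hc (f g)
    rw [hO', Subgroup.mem_bot, ← map_inv, ← map_inv, ← map_mul, ← map_mul, ← map_mul,
      ← f.mem_ker] at h1
    have h2 : g * x ^ 1 * g⁻¹ ∈ (S : Subgroup G) := by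
      have h3 := mul_mem (inv_mem (hkS h1)) hx.1
      rw [pow_one]
      convert h3 using 1
      group
    have h3 := hx.2 1 g h2
    rw [pow_one] at h3
    exact (mul_inv_eq_iff_eq_mul.mp h3).symm

/-- An element of a Sylow 2-subgroup whose powers are all weakly closed in it is central modulo
`O(G)`. -/
theorem commutatorsInCore_of_powers {G : Type*} [Group G] [Finite G] (S : Sylow 2 G) {x : G}
    (hx : PowersWeaklyClosed (S : Subgroup G) x) : CommutatorsInCore x :=
  commutatorsInCore_of_powers_aux (Nat.card G) G le_rfl S x hx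

end CfsgLib.ZStar
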