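import Mathlib
import Cfsg.Agent.Lib.Transfer.Sylow
import Cfsg.Agent.Lib.Coprime.Action

/-!
# Fusion of a 2-group centralising a Sylow 2-subgroup of a normal subgroup

`Γ` is a finite group with normal subgroup `G`, `T` a Sylow 2-subgroup of `G`, `A` a 2-subgroup
centralising `T` and meeting `G` trivially. An involution of `Z(A) ∩ [A, A]` is fused in `G A` to no
other element of `T A`; neither is any element of `A` when `A` is abelian and `A = [A, x]` for an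
element `x` centralising `T`.
-/

set_option autoImplicit false
set_option linter.style.haveILetI false
set_option linter.unusedSectionVars false

open scoped commutatorElement

namespace CfsgLib.ZStar.SylowFusion

open CfsgLib.Coprime

variable {Γ : Type*} [Group Γ] [Finite Γ]

/-- The standing hypotheses. -/
structure Setup (G T A : Subgroup Γ) : Prop where
  normal : G.Normal
  le : T ≤ G
  isTwoT : IsPGroup 2 T
  sylow : ¬ 2 ∣ T.relIndex G
  isTwoA : IsPGroup 2 A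
  cent : A ≤ Subgroup.centralizer (T : Set Γ)
  disjoint : A ⊓ G = ⊥

variable {G T A : Subgroup Γ}

namespace Setup

theorem le_normalizer (h : Setup G T A) : A ≤ Subgroup.normalizer (T : Set Γ) :=
  h.cent.trans (Subgroup.centralizer_le_normalizer _)

theorem mem_sup_iff (h : Setup G T A) {z : Γ} : z ∈ T ⊔ A ↔ ∃ t ∈ T, ∃ a ∈ A, t * a = z := by
  rw [← SetLike.mem_coe, Subgroup.coe_mul_of_right_le_normalizer_left T A h.le_normalizer, Set.mem_mul]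
  rfl

theorem commute (h : Setup G T A) {t a : Γ} (ht : t ∈ T) (ha : a ∈ A) : t * a = a * t :=
  Subgroup.mem_centralizer_iff.mp (h.cent ha) t ht

theorem mem_T (h : Setup G T A) {z : Γ} (hz : z ∈ T ⊔ A) (hzG : z ∈ G) : z ∈ T := by
  obtain ⟨t, ht, a, ha, rfl⟩ := h.mem_sup_iff.mp hz
  have ha1 : a = 1 := by
    have h1 : a ∈ A ⊓ G := Subgroup.mem_inf.mpr ⟨ha, by
      rw [show a = t⁻¹ * (t * a) by rw [inv_mul_cancel_left]]
      exact mul_mem (inv_mem (h.le ht)) hzG⟩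
    rwa [h.disjoint, Subgroup.mem_bot] at h1
  rwa [ha1, mul_one]

theorem isPGroup_sup (h : Setup G T A) : IsPGroup 2 ↥(T ⊔ A) :=
  IsPGroup.to_sup_of_normal_left' h.isTwoT h.isTwoA h.le_normalizer

theorem not_dvd_relIndex (h : Setup G T A) : ¬ 2 ∣ (T ⊔ A).relIndex (G ⊔ A) := by
  haveI := h.normal
  have hT : Nat.card ↥(T ⊔ A) = Nat.card T * Nat.card A :=
    card_sup_of_normalizer h.le_normalizer (eq_bot_iff.mpr fun z hz => by
      obtain ⟨hz1, hz2⟩ := Subgroup.mem_inf.mp hz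
      rw [← h.disjoint]
      exact Subgroup.mem_inf.mpr ⟨hz2, h.le hz1⟩)
  have hM : Nat.card ↥(G ⊔ A) = Nat.card G * Nat.card A :=
    card_sup_of_normalizer Subgroup.le_normalizer_of_normal (by rw [inf_comm, h.disjoint])
  have h1 := relIndex_mul_card_inf (T ⊔ A) (G ⊔ A)
  rw [inf_eq_left.mpr (sup_le_sup_right h.le A), hT, hM] at h1
  have h2 := relIndex_mul_card_inf T G
  rw [inf_eq_left.mpr h.le] at h2
  rw [← h2] at h1
  have h3 : (T ⊔ A).relIndex (G ⊔ A) = T.relIndex G :=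
    Nat.eq_of_mul_eq_mul_right (Nat.mul_pos Nat.card_pos Nat.card_pos)
      (h1.trans (mul_assoc _ _ _))
  rw [h3]
  exact h.sylow

/-- Sylow's theorem in an intermediate subgroup, with a conjugating element in `G`. -/
theorem exists_conj (h : Setup G T A) {K S : Subgroup Γ} (hPK : T ⊔ A ≤ K) (hKM : K ≤ G ⊔ A)
    (hSK : S ≤ K) (hS : IsPGroup 2 S) :
    ∃ g ∈ G, g ∈ K ∧ ∀ s ∈ S, g * s * g⁻¹ ∈ T ⊔ A := by
  haveI := h.normal
  haveI : Fact (Nat.Prime 2) := ⟨Nat.prime_two⟩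
  have hidx : ¬ 2 ∣ (T ⊔ A).relIndex K := fun hd => h.not_dvd_relIndex
    (hd.trans (Dvd.intro _ (Subgroup.relIndex_mul_relIndex (T ⊔ A) K (G ⊔ A) hPK hKM)))
  obtain ⟨k, hk, hkS⟩ := Transfer.exists_conj_le_of_not_dvd_relIndex hPK h.isPGroup_sup hidx hSK hS
  have hkM : k ∈ A ⊔ G := by rw [sup_comm]; exact hKM hk
  obtain ⟨a, ha, g, hg, rfl⟩ := Subgroup.mem_sup_of_normal_right.mp hkM
  have haP : a ∈ T ⊔ A := Subgroup.mem_sup_right ha
  refine ⟨g, hg, ?_, fun s hs => ?_⟩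
  · rw [show g = a⁻¹ * (a * g) by rw [inv_mul_cancel_left]]
    exact mul_mem (inv_mem (hPK haP)) hk
  · have h1 : a * g * s * (a * g)⁻¹ ∈ T ⊔ A := hkS ⟨s, hs, rfl⟩
    rw [show g * s * g⁻¹ = a⁻¹ * (a * g * s * (a * g)⁻¹) * a by group]
    exact mul_mem (mul_mem (inv_mem haP) h1) haP

theorem phi_mem (h : Setup G T A) {g a : Γ} (hg : g ∈ G) (ha : a ∈ A)
    (hga : g * a * g⁻¹ ∈ T ⊔ A) : a⁻¹ * (g * a * g⁻¹) ∈ T := by
  haveI := h.normal
  refine h.mem_T (mul_mem (inv_mem (Subgroup.mem_sup_right ha)) hga) ?_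
  rw [show a⁻¹ * (g * a * g⁻¹) = a⁻¹ * g * a * g⁻¹ by group]
  refine mul_mem ?_ (inv_mem hg)
  simpa using h.normal.conj_mem g hg a⁻¹

theorem phi_mul (h : Setup G T A) {g a b : Γ} (hg : g ∈ G) (ha : a ∈ A) (hb : b ∈ A)
    (hgA : ∀ a ∈ A, g * a * g⁻¹ ∈ T ⊔ A) :
    (a * b)⁻¹ * (g * (a * b) * g⁻¹) = a⁻¹ * (g * a * g⁻¹) * (b⁻¹ * (g * b * g⁻¹)) := by
  have h1 := h.commute (h.phi_mem hg ha (hgA a ha)) (inv_mem hb)
  calc (a * b)⁻¹ * (g * (a * b) * g⁻¹)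
      = b⁻¹ * (a⁻¹ * (g * a * g⁻¹)) * (g * b * g⁻¹) := by group
    _ = a⁻¹ * (g * a * g⁻¹) * b⁻¹ * (g * b * g⁻¹) := by rw [h1]
    _ = _ := by group

end Setup

/-- `a t` is a conjugate of `a`. -/
def Pair (G T : Subgroup Γ) (a t : Γ) : Prop :=
  t ∈ T ∧ t ≠ 1 ∧ ∃ g ∈ G, g * a * g⁻¹ = a * t

/-- `C_T(t)`. -/
def cT (T : Subgroup Γ) (t : Γ) : Subgroup Γ := T ⊓ Subgroup.centralizer ({t} : Set Γ)

theorem phi_pair (h : Setup G T A) {g a : Γ} (hg : g ∈ G) (ha : a ∈ A)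
    (hga : g * a * g⁻¹ ∈ T ⊔ A) (h1 : a⁻¹ * (g * a * g⁻¹) ≠ 1) :
    Pair G T a (a⁻¹ * (g * a * g⁻¹)) :=
  ⟨h.phi_mem hg ha hga, h1, g, hg, by rw [mul_inv_cancel_left]⟩

/-- The image of `C_T(t)` centralises the shifts. -/
theorem image_le_cT (h : Setup G T A) {g a : Γ} (hg : g ∈ G) (ha : a ∈ A)
    (hga : g * a * g⁻¹ ∈ T ⊔ A) {U : Subgroup Γ} (hUT : U ≤ T)
    (hgU : ∀ u ∈ U, g * u * g⁻¹ ∈ T) :
    U.map (MulAut.conj g).toMonoidHom ≤ cT T (a⁻¹ * (g * a * g⁻¹)) := by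
  rintro _ ⟨u, hu, rfl⟩
  refine Subgroup.mem_inf.mpr ⟨hgU u hu, Subgroup.mem_centralizer_singleton_iff.mpr ?_⟩
  show g * u * g⁻¹ * (a⁻¹ * (g * a * g⁻¹)) = a⁻¹ * (g * a * g⁻¹) * (g * u * g⁻¹)
  have h1 := h.commute (hgU u hu) (inv_mem ha)
  have h2 := h.commute (hUT hu) ha
  calc g * u * g⁻¹ * (a⁻¹ * (g * a * g⁻¹)) = g * u * g⁻¹ * a⁻¹ * (g * a * g⁻¹) := by group
    _ = a⁻¹ * (g * (u * a) * g⁻¹) := by rw [h1]; group
    _ = a⁻¹ * (g * a * g⁻¹) * (g * u * g⁻¹) := by rw [h2]; group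

/-- A fusion pair at a central element gives a map of `C_T(t) A` into `T A`. -/
theorem exists_map (h : Setup G T A) {c t : Γ} (hc : c ∈ A) (hcA : ∀ a ∈ A, a * c = c * a)
    (hp : Pair G T c t) :
    ∃ g ∈ G, (∀ u ∈ cT T t, g * u * g⁻¹ ∈ T) ∧ (∀ a ∈ A, g * a * g⁻¹ ∈ T ⊔ A) ∧
      c⁻¹ * (g * c * g⁻¹) ≠ 1 := by
  haveI := h.normal
  obtain ⟨ht, ht1, g₀, hg₀, he⟩ := hp
  have hPK : T ⊔ A ≤ (G ⊔ A) ⊓ Subgroup.centralizer ({c} : Set Γ) :=
    le_inf (sup_le_sup_right h.le A) (sup_le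
      (fun u hu => Subgroup.mem_centralizer_singleton_iff.mpr (h.commute hu hc))
      (fun a ha => Subgroup.mem_centralizer_singleton_iff.mpr (hcA a ha)))
  set S := (cT T t ⊔ A).map (MulAut.conj g₀⁻¹).toMonoidHom with hS
  have hSK : S ≤ (G ⊔ A) ⊓ Subgroup.centralizer ({c} : Set Γ) := by
    rintro _ ⟨u, hu, rfl⟩
    have hu1 : u * (c * t) = c * t * u := by
      have hle : cT T t ⊔ A ≤ Subgroup.centralizer ({c * t} : Set Γ) := by
        refine sup_le (fun v hv => ?_) fun v hv => ?_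
        · obtain ⟨hv1, hv2⟩ := Subgroup.mem_inf.mp hv
          exact Subgroup.mem_centralizer_singleton_iff.mpr (Commute.mul_right (h.commute hv1 hc)
            (Subgroup.mem_centralizer_singleton_iff.mp hv2)).eq
        · exact Subgroup.mem_centralizer_singleton_iff.mpr
            (Commute.mul_right (hcA v hv) (h.commute ht hv).symm).eq
      exact Subgroup.mem_centralizer_singleton_iff.mp (hle hu)
    have huM : u ∈ G ⊔ A := sup_le_sup_right ((inf_le_left : cT T t ≤ T).trans h.le) A hu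
    refine Subgroup.mem_inf.mpr ⟨?_, Subgroup.mem_centralizer_singleton_iff.mpr ?_⟩
    · show g₀⁻¹ * u * g₀⁻¹⁻¹ ∈ G ⊔ A
      exact mul_mem (mul_mem (Subgroup.mem_sup_left (inv_mem hg₀)) huM)
        (inv_mem (Subgroup.mem_sup_left (inv_mem hg₀)))
    · show g₀⁻¹ * u * g₀⁻¹⁻¹ * c = c * (g₀⁻¹ * u * g₀⁻¹⁻¹)
      calc g₀⁻¹ * u * g₀⁻¹⁻¹ * c = g₀⁻¹ * (u * (g₀ * c * g₀⁻¹)) * g₀ := by group
        _ = g₀⁻¹ * (g₀ * c * g₀⁻¹ * u) * g₀ := by rw [he, hu1]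
        _ = c * (g₀⁻¹ * u * g₀⁻¹⁻¹) := by group
  have hS2 : IsPGroup 2 S :=
    (h.isPGroup_sup.to_le (sup_le_sup_right (inf_le_left : cT T t ≤ T) A)).map _
  obtain ⟨g₁, hg₁, hg₁K, hg₁S⟩ := h.exists_conj hPK inf_le_left hSK hS2
  have hmem : ∀ u ∈ cT T t ⊔ A, g₁ * g₀⁻¹ * u * (g₁ * g₀⁻¹)⁻¹ ∈ T ⊔ A := by
    intro u hu
    have h1 := hg₁S _ ⟨u, hu, rfl⟩
    change g₁ * (g₀⁻¹ * u * g₀⁻¹⁻¹) * g₁⁻¹ ∈ T ⊔ A at h1
    rwa [show g₁ * g₀⁻¹ * u * (g₁ * g₀⁻¹)⁻¹ = g₁ * (g₀⁻¹ * u * g₀⁻¹⁻¹) * g₁⁻¹ by group]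
  refine ⟨g₁ * g₀⁻¹, mul_mem hg₁ (inv_mem hg₀), fun u hu => ?_,
    fun a ha => hmem a (Subgroup.mem_sup_right ha), fun h0 => ?_⟩
  · exact h.mem_T (hmem u (Subgroup.mem_sup_left hu))
      (h.normal.conj_mem u (h.le (Subgroup.mem_inf.mp hu).1) _)
  · have h1 : g₁ * g₀⁻¹ * c * (g₁ * g₀⁻¹)⁻¹ = c := (inv_mul_eq_one.mp h0).symm
    have h2 : g₁ * c * g₁⁻¹ = c := by
      rw [mul_inv_eq_iff_eq_mul]
      exact Subgroup.mem_centralizer_singleton_iff.mp hg₁K.2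
    refine ht1 ?_
    have h3 : g₀⁻¹ * c * g₀ = c := by
      have h4 : g₁ * (g₀⁻¹ * c * g₀) * g₁⁻¹ = g₁ * c * g₁⁻¹ := by
        rw [h2]
        refine Eq.trans ?_ h1
        group
      exact mul_left_cancel (mul_right_cancel h4)
    have h5 : g₀ * c * g₀⁻¹ = c := by
      conv_lhs => rw [← h3]
      group
    rw [h5] at he
    exact mul_eq_left.mp he.symm

/-- An element of `Z(A) ∩ [A, A]` has no fusion pair. -/
theorem not_pair_derived (h : Setup G T A) {c : Γ} (hc : c ∈ A) (hcA : ∀ a ∈ A, a * c = c * a)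
    (hd : c ∈ ⁅A, A⁆) (t : Γ) : ¬ Pair G T c t := by
  intro hp
  haveI : Nonempty {t : Γ // Pair G T c t} := ⟨⟨t, hp⟩⟩
  obtain ⟨⟨t₀, ht₀⟩, hmax⟩ := Finite.exists_max
    (α := {t : Γ // Pair G T c t}) (fun t => Nat.card (cT T (t : Γ)))
  obtain ⟨g, hg, hgU, hgA, hgc⟩ := exists_map h hc hcA ht₀
  set U := cT T t₀
  set f : Γ → Γ := fun a => a⁻¹ * (g * a * g⁻¹) with hf
  have hU1 : U.map (MulAut.conj g).toMonoidHom = cT T (f c) := by
    refine Subgroup.eq_of_le_of_card_ge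
      (image_le_cT h hg hc (hgA c hc) inf_le_left hgU) ?_
    rw [Subgroup.card_map_of_injective (MulEquiv.injective _)]
    exact hmax ⟨f c, phi_pair h hg hc (hgA c hc) hgc⟩
  have hfmul : ∀ a ∈ A, ∀ b ∈ A, f (a * b) = f a * f b := fun a ha b hb => h.phi_mul hg ha hb hgA
  have hcomm : ∀ a ∈ A, ∀ b ∈ A, f a * f b = f b * f a := by
    intro a ha b hb
    have h1 : f a ∈ cT T (f c) := by
      refine Subgroup.mem_inf.mpr ⟨h.phi_mem hg ha (hgA a ha),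
        Subgroup.mem_centralizer_singleton_iff.mpr ?_⟩
      rw [← hfmul a ha c hc, ← hfmul c hc a ha, hcA a ha]
    have h2 := image_le_cT h hg hb (hgA b hb) inf_le_left hgU (hU1.symm ▸ h1)
    exact Subgroup.mem_centralizer_singleton_iff.mp (Subgroup.mem_inf.mp h2).2
  let φ : ↥A →* Γ := MonoidHom.mk' (fun a => f a) fun a b => hfmul a a.2 b b.2
  have hker : ⁅A, A⁆ ≤ φ.ker.map A.subtype := by
    refine Subgroup.commutator_le.mpr fun a ha b hb => ?_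
    refine ⟨⁅(⟨a, ha⟩ : A), ⟨b, hb⟩⁆, ?_, ?_⟩
    · rw [SetLike.mem_coe, MonoidHom.mem_ker, map_commutatorElement,
        commutatorElement_eq_one_iff_mul_comm]
      exact hcomm a ha b hb
    · rw [map_commutatorElement]; rfl
  obtain ⟨d, hd1, hd2⟩ := hker hd
  refine hgc ?_
  have : f (d : Γ) = 1 := hd1
  rwa [show (d : Γ) = c from hd2] at this

/-- With full centralisation the shifts are invariant under `x`. -/
theorem phi_eq_one (h : Setup G T A) (hAc : ∀ a ∈ A, ∀ b ∈ A, a * b = b * a) {x : Γ}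
    (hxT : x ∈ Subgroup.centralizer (T : Set Γ)) (hxA : x ∈ Subgroup.normalizer (A : Set Γ))
    (hAx : ⁅A, Subgroup.zpowers x⁆ = A) {n₀ : ℕ}
    (hn₀ : ∀ a ∈ A, ∀ t, Pair G T a t → Nat.card (cT T t) ≤ n₀)
    {g : Γ} (hg : g ∈ G) {U : Subgroup Γ} (hUT : U ≤ T) (hUn : Nat.card U = n₀)
    (hgU : ∀ u ∈ U, g * u * g⁻¹ ∈ T) (hgA : ∀ a ∈ A, g * a * g⁻¹ ∈ T ⊔ A)
    (hfull : ¬ 2 ∣ ((T ⊔ A) ⊓ Subgroup.centralizer (U.map (MulAut.conj g).toMonoidHom : Set Γ)).relIndex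
      ((G ⊔ A) ⊓ Subgroup.centralizer (U.map (MulAut.conj g).toMonoidHom : Set Γ))) :
    ∀ a ∈ A, a⁻¹ * (g * a * g⁻¹) = 1 := by
  haveI : Fact (Nat.Prime 2) := ⟨Nat.prime_two⟩
  haveI := h.normal
  intro a₀ ha₀
  by_contra hne
  set U₁ := U.map (MulAut.conj g).toMonoidHom with hU₁
  set f : Γ → Γ := fun a => a⁻¹ * (g * a * g⁻¹) with hf
  have heq : ∀ a ∈ A, f a ≠ 1 → U₁ = cT T (f a) := by
    intro a ha h1
    refine Subgroup.eq_of_le_of_card_ge (image_le_cT h hg ha (hgA a ha) hUT hgU) ?_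
    rw [hU₁, Subgroup.card_map_of_injective (MulEquiv.injective _), hUn]
    exact hn₀ a ha _ (phi_pair h hg ha (hgA a ha) h1)
  have hfU : ∀ a ∈ A, f a ∈ U₁ := by
    intro a ha
    by_cases h1 : f a = 1
    · rw [h1]; exact one_mem _
    · rw [heq a ha h1]
      exact Subgroup.mem_inf.mpr ⟨h.phi_mem hg ha (hgA a ha),
        Subgroup.mem_centralizer_singleton_iff.mpr rfl⟩
  have hU₁T : U₁ ≤ T := by
    rintro _ ⟨u, hu, rfl⟩
    exact hgU u hu
  have hCT : T ⊓ Subgroup.centralizer (U₁ : Set Γ) ≤ U₁ := by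
    intro w hw
    rw [heq a₀ ha₀ hne]
    exact Subgroup.mem_inf.mpr ⟨(Subgroup.mem_inf.mp hw).1,
      Subgroup.mem_centralizer_singleton_iff.mpr
        (Subgroup.mem_centralizer_iff.mp (Subgroup.mem_inf.mp hw).2 (f a₀) (hfU a₀ ha₀)).symm⟩
  set W := (T ⊔ A) ⊓ Subgroup.centralizer (U₁ : Set Γ) with hW
  have hAU : A ≤ Subgroup.centralizer (U₁ : Set Γ) := h.cent.trans (Subgroup.centralizer_le hU₁T)
  have hAW : A ≤ W := le_inf le_sup_right hAU
  have hWform : ∀ w ∈ W, ∃ t ∈ U₁, t ∈ Subgroup.centralizer (U₁ : Set Γ) ∧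
      ∃ a ∈ A, t * a = w := by
    intro w hw
    obtain ⟨hwP, hwC⟩ := Subgroup.mem_inf.mp hw
    obtain ⟨t, ht, a, ha, rfl⟩ := h.mem_sup_iff.mp hwP
    have htC : t ∈ Subgroup.centralizer (U₁ : Set Γ) := by
      rw [show t = t * a * a⁻¹ by rw [mul_inv_cancel_right]]
      exact mul_mem hwC (inv_mem (hAU ha))
    exact ⟨t, hCT ⟨ht, htC⟩, htC, a, ha, rfl⟩
  have hWcomm : ∀ w ∈ W, ∀ a ∈ A, w * a = a * w := by
    intro w hw a ha
    obtain ⟨t, ht, -, b, hb, rfl⟩ := hWform w hw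
    rw [mul_assoc, hAc b hb a ha, ← mul_assoc, h.commute (hU₁T ht) ha, mul_assoc]
  -- the twisting element
  set k := x * g * x⁻¹ * g⁻¹ with hk
  have hkG : k ∈ G := mul_mem (h.normal.conj_mem g hg x) (inv_mem hg)
  have hxU : ∀ u ∈ T, x * u * x⁻¹ = u := fun u hu => by
    rw [mul_inv_eq_iff_eq_mul]
    exact (Subgroup.mem_centralizer_iff.mp hxT u hu).symm
  have hkU : ∀ u ∈ U₁, k * u * k⁻¹ = u := by
    rintro _ ⟨u, hu, rfl⟩
    show k * (g * u * g⁻¹) * k⁻¹ = g * u * g⁻¹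
    calc k * (g * u * g⁻¹) * k⁻¹ = x * g * (x⁻¹ * u * x) * (x * g)⁻¹ := by rw [hk]; group
      _ = x * (g * u * g⁻¹) * x⁻¹ := by
        rw [show x⁻¹ * u * x = u by
          conv_lhs => rw [← hxU u (hUT hu)]
          group]
        group
      _ = g * u * g⁻¹ := hxU _ (hgU u hu)
  have hkC : k ∈ Subgroup.centralizer (U₁ : Set Γ) := Subgroup.mem_centralizer_iff.mpr fun u hu =>
    (mul_inv_eq_iff_eq_mul.mp (hkU u hu)).symm
  set δ : Γ → Γ := fun a => f (x⁻¹ * a * x) * (f a)⁻¹ with hδ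
  have hxinv : ∀ a ∈ A, x⁻¹ * a * x ∈ A := fun a ha =>
    (Subgroup.mem_normalizer_iff''.mp hxA a).mp ha
  have hδU : ∀ a ∈ A, δ a ∈ U₁ := fun a ha =>
    mul_mem (hfU _ (hxinv a ha)) (inv_mem (hfU a ha))
  have hkA : ∀ a ∈ A, k * a * k⁻¹ = a * δ a := by
    intro a ha
    have h1 : k * (a * f a) * k⁻¹ = a * f (x⁻¹ * a * x) := by
      have h2 : x * f (x⁻¹ * a * x) * x⁻¹ = f (x⁻¹ * a * x) := hxU _ (hU₁T (hfU _ (hxinv a ha)))
      calc k * (a * f a) * k⁻¹ = x * (g * (x⁻¹ * a * x) * g⁻¹) * x⁻¹ := by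
            rw [hk, show a * f a = g * a * g⁻¹ by simp only [hf]; group]; group
        _ = a * (x * f (x⁻¹ * a * x) * x⁻¹) := by simp only [hf]; group
        _ = _ := by rw [h2]
    calc k * a * k⁻¹ = k * (a * f a) * k⁻¹ * (k * f a * k⁻¹)⁻¹ := by group
      _ = a * δ a := by rw [h1, hkU _ (hfU a ha), hδ]; group
  have hiter : ∀ (n : ℕ), ∀ a ∈ A, k ^ n * a * (k ^ n)⁻¹ = a * δ a ^ n := by
    intro n a ha
    induction n with
    | zero => simp
    | succ n ih =>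
      calc k ^ (n + 1) * a * (k ^ (n + 1))⁻¹ = k * (k ^ n * a * (k ^ n)⁻¹) * k⁻¹ := by
            rw [pow_succ']; group
        _ = k * a * k⁻¹ * (k * δ a ^ n * k⁻¹) := by rw [ih]; group
        _ = a * δ a ^ (n + 1) := by
            rw [hkA a ha, hkU _ (pow_mem (hδU a ha) n), pow_succ', mul_assoc]
  have hδpow : ∀ a ∈ A, ∃ N : ℕ, δ a ^ 2 ^ N = 1 := fun a ha => by
    obtain ⟨N, hN⟩ := h.isTwoT ⟨_, hU₁T (hδU a ha)⟩
    exact ⟨N, congrArg Subtype.val hN⟩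
  have hkW : Subgroup.zpowers k ≤ Subgroup.normalizer (W : Set Γ) := by
    rw [Subgroup.zpowers_le]
    refine Subgroup.mem_normalizer_fintype fun w hw => ?_
    obtain ⟨t, ht, htC, a, ha, rfl⟩ := hWform w hw
    show k * (t * a) * k⁻¹ ∈ W
    rw [show k * (t * a) * k⁻¹ = k * t * k⁻¹ * (k * a * k⁻¹) by group, hkU t ht, hkA a ha]
    refine mul_mem (Subgroup.mem_inf.mpr ⟨Subgroup.mem_sup_left (hU₁T ht), htC⟩)
      (mul_mem (hAW ha) (Subgroup.mem_inf.mpr ⟨Subgroup.mem_sup_left (hU₁T (hδU a ha)), ?_⟩))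
    rw [show δ a = a⁻¹ * (k * a * k⁻¹) by rw [hkA a ha, inv_mul_cancel_left]]
    exact mul_mem (inv_mem (hAU ha)) (mul_mem (mul_mem hkC (hAU ha)) (inv_mem hkC))
  obtain ⟨s, o, ho, hso⟩ := Nat.exists_eq_pow_mul_and_not_dvd (orderOf_pos k).ne' 2 (by norm_num)
  have hq : k ^ o ∈ W := by
    have hqp : IsPGroup 2 (Subgroup.zpowers (k ^ o)) := by
      rintro ⟨z, i, rfl⟩
      refine ⟨s, Subtype.ext ?_⟩
      show ((k ^ o) ^ i) ^ 2 ^ s = 1
      rw [← zpow_natCast, ← zpow_mul, mul_comm i, zpow_mul, zpow_natCast, ← pow_mul, mul_comm o,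
        ← hso, pow_orderOf_eq_one, one_zpow]
    have hqW : Subgroup.zpowers (k ^ o) ≤ Subgroup.normalizer (W : Set Γ) :=
      (Subgroup.zpowers_le.mpr (pow_mem (Subgroup.mem_zpowers k) o)).trans hkW
    have h2 : IsPGroup 2 ↥(W ⊔ Subgroup.zpowers (k ^ o)) :=
      IsPGroup.to_sup_of_normal_left' (h.isPGroup_sup.to_le inf_le_left) hqp hqW
    have hle : W ⊔ Subgroup.zpowers (k ^ o) ≤ (G ⊔ A) ⊓ Subgroup.centralizer (U₁ : Set Γ) :=
      sup_le (inf_le_inf_right _ (sup_le_sup_right h.le A)) (Subgroup.zpowers_le.mpr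
        (Subgroup.mem_inf.mpr ⟨Subgroup.mem_sup_left (pow_mem hkG o), pow_mem hkC o⟩))
    obtain ⟨i, hi⟩ := IsPGroup.iff_card.mp h2
    have hdvd : W.relIndex (W ⊔ Subgroup.zpowers (k ^ o)) ∣ 2 ^ i :=
      hi ▸ Subgroup.relIndex_dvd_card _ _
    obtain ⟨j, -, hj⟩ := (Nat.dvd_prime_pow Nat.prime_two).mp hdvd
    have hj0 : j = 0 := by
      by_contra hj0
      refine hfull (dvd_trans ?_ (Dvd.intro _ (Subgroup.relIndex_mul_relIndex W _ _ le_sup_left hle)))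
      rw [hj]
      exact dvd_pow_self 2 hj0
    rw [hj0, pow_zero, Subgroup.relIndex_eq_one] at hj
    exact hj (Subgroup.mem_sup_right (Subgroup.mem_zpowers _))
  have hfix : ∀ a ∈ A, δ a = 1 := by
    intro a ha
    obtain ⟨N, hN⟩ := hδpow a ha
    have hc1 : δ a ^ o = 1 := by
      have h1 := hiter o a ha
      rw [hWcomm _ hq a ha, mul_inv_cancel_right] at h1
      exact (mul_eq_left.mp h1.symm)
    have hord : orderOf (δ a) ∣ 1 := by
      have := Nat.dvd_gcd (orderOf_dvd_of_pow_eq_one hN) (orderOf_dvd_of_pow_eq_one hc1)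
      rwa [((Nat.Prime.coprime_iff_not_dvd Nat.prime_two).mpr ho).pow_left N] at this
    exact orderOf_eq_one_iff.mp (Nat.dvd_one.mp hord)
  have hinv : ∀ a ∈ A, f (x * a * x⁻¹) = f a := by
    intro a ha
    have hb : x * a * x⁻¹ ∈ A := (Subgroup.mem_normalizer_iff.mp hxA a).mp ha
    have h1 := hfix _ hb
    simp only [hδ] at h1
    rw [show x⁻¹ * (x * a * x⁻¹) * x = a by group, mul_inv_eq_one] at h1
    exact h1.symm
  have hall : ∀ a ∈ A, ∀ z ∈ Subgroup.zpowers x, f (z * a * z⁻¹) = f a := by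
    intro a ha z hz
    rw [← SetLike.mem_coe, ← (isOfFinOrder_of_finite x).powers_eq_zpowers] at hz
    obtain ⟨i, rfl⟩ := hz
    induction i with
    | zero => simp
    | succ i ih =>
      show f (x ^ (i + 1) * a * (x ^ (i + 1))⁻¹) = f a
      rw [show x ^ (i + 1) * a * (x ^ (i + 1))⁻¹ = x * (x ^ i * a * (x ^ i)⁻¹) * x⁻¹ by
        rw [pow_succ']; group,
        hinv _ ((Subgroup.mem_normalizer_iff.mp (pow_mem hxA i) a).mp ha)]
      exact ih
  let φ : ↥A →* Γ := MonoidHom.mk' (fun a => f a) fun a b => h.phi_mul hg a.2 b.2 hgA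
  have hker : ⁅A, Subgroup.zpowers x⁆ ≤ φ.ker.map A.subtype := by
    refine Subgroup.commutator_le.mpr fun a ha z hz => ?_
    have hzA : z ∈ Subgroup.normalizer (A : Set Γ) := Subgroup.zpowers_le.mpr hxA hz
    refine ⟨(⟨a, ha⟩ : A) * ⟨z * a⁻¹ * z⁻¹, (Subgroup.mem_normalizer_iff.mp hzA _).mp (inv_mem ha)⟩,
      ?_, ?_⟩
    · rw [SetLike.mem_coe, MonoidHom.mem_ker, map_mul]
      show f a * f (z * a⁻¹ * z⁻¹) = 1
      rw [hall _ (inv_mem ha) z hz]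
      have h1 := h.phi_mul hg ha (inv_mem ha) hgA
      simp only [mul_inv_cancel, inv_one, mul_one, one_mul] at h1
      exact h1.symm
    · show a * (z * a⁻¹ * z⁻¹) = ⁅a, z⁆
      rw [commutatorElement_def]; group
  rw [hAx] at hker
  obtain ⟨d, hd1, hd2⟩ := hker ha₀
  have : f (d : Γ) = 1 := hd1
  rw [show (d : Γ) = a₀ from hd2] at this
  exact hne this

/-- When `A` is abelian and `A = [A, x]` there is no fusion pair. -/
theorem not_pair (h : Setup G T A) (hAc : ∀ a ∈ A, ∀ b ∈ A, a * b = b * a) {x : Γ}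
    (hxT : x ∈ Subgroup.centralizer (T : Set Γ)) (hxA : x ∈ Subgroup.normalizer (A : Set Γ))
    (hAx : ⁅A, Subgroup.zpowers x⁆ = A) (a : Γ) (ha : a ∈ A) (t : Γ) : ¬ Pair G T a t := by
  intro hp
  haveI : Fact (Nat.Prime 2) := ⟨Nat.prime_two⟩
  haveI := h.normal
  haveI : Nonempty {q : Γ × Γ // q.1 ∈ A ∧ Pair G T q.1 q.2} := ⟨⟨(a, t), ha, hp⟩⟩
  obtain ⟨⟨⟨a₀, t₀⟩, ha₀, hp₀⟩, hmax⟩ := Finite.exists_max
    (α := {q : Γ × Γ // q.1 ∈ A ∧ Pair G T q.1 q.2}) (fun q => Nat.card (cT T q.1.2))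
  set n₀ := Nat.card (cT T t₀) with hn₀
  have hn₀' : ∀ a ∈ A, ∀ t, Pair G T a t → Nat.card (cT T t) ≤ n₀ := fun a ha t hat =>
    hmax ⟨(a, t), ha, hat⟩
  obtain ⟨g, hg, hgU, hgA, hgc⟩ := exists_map h ha₀ (fun b hb => hAc b hb a₀ ha₀) hp₀
  set U' := (cT T t₀).map (MulAut.conj g).toMonoidHom with hU'
  have hU'T : U' ≤ T := by
    rintro _ ⟨u, hu, rfl⟩
    exact hgU u hu
  have hU'n : Nat.card U' = n₀ := by
    rw [hU', Subgroup.card_map_of_injective (MulEquiv.injective _)]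
  have hfU : ∀ b ∈ A, b⁻¹ * (g * b * g⁻¹) ∈ U' := by
    intro b hb
    by_cases h1 : b⁻¹ * (g * b * g⁻¹) = 1
    · rw [h1]; exact one_mem _
    · have : U' = cT T (b⁻¹ * (g * b * g⁻¹)) := by
        refine Subgroup.eq_of_le_of_card_ge (image_le_cT h hg hb (hgA b hb) inf_le_left hgU) ?_
        rw [hU'n]
        exact hn₀' b hb _ (phi_pair h hg hb (hgA b hb) h1)
      rw [this]
      exact Subgroup.mem_inf.mpr ⟨h.phi_mem hg hb (hgA b hb),
        Subgroup.mem_centralizer_singleton_iff.mpr rfl⟩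
  -- a fully centralised conjugate
  set K := (G ⊔ A) ⊓ Subgroup.centralizer (U' : Set Γ) with hK
  have hAK : A ≤ K := le_inf le_sup_right (h.cent.trans (Subgroup.centralizer_le hU'T))
  obtain ⟨S, hS⟩ := IsPGroup.exists_le_sylow (h.isTwoA.comap_of_injective _ K.subtype_injective :
    IsPGroup 2 (A.subgroupOf K))
  set S' := (S : Subgroup K).map K.subtype with hS'
  have hS'K : S' ≤ K := Subgroup.map_subtype_le _
  have hAS : A ≤ S' := by
    rw [← Subgroup.map_subgroupOf_eq_of_le hAK, hS']; exact Subgroup.map_mono hS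
  have hS'idx : ¬ 2 ∣ S'.relIndex K := by
    rw [Subgroup.relIndex, Subgroup.subgroupOf, hS',
      Subgroup.comap_map_eq_self_of_injective K.subtype_injective]
    exact S.not_dvd_index
  have hsupK : S' ⊔ U' ≤ G ⊔ A :=
    sup_le (hS'K.trans inf_le_left) ((hU'T.trans h.le).trans le_sup_left)
  have h2 : IsPGroup 2 ↥(S' ⊔ U') :=
    IsPGroup.to_sup_of_normal_left' (S.2.map _) (h.isTwoT.to_le hU'T)
      ((Subgroup.le_centralizer_iff.mp (hS'K.trans inf_le_right)).trans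
        (Subgroup.centralizer_le_normalizer _))
  obtain ⟨m, hm, -, hmS⟩ := h.exists_conj (sup_le_sup_right h.le A) le_rfl hsupK h2
  have hmU : ∀ u ∈ U', m * u * m⁻¹ ∈ T := fun u hu =>
    h.mem_T (hmS u (Subgroup.mem_sup_right hu)) (h.normal.conj_mem u (h.le (hU'T hu)) m)
  have hmA : ∀ b ∈ A, m * b * m⁻¹ ∈ T ⊔ A := fun b hb => hmS b (Subgroup.mem_sup_left (hAS hb))
  set U'' := U'.map (MulAut.conj m).toMonoidHom with hU''
  have hfull : ¬ 2 ∣ ((T ⊔ A) ⊓ Subgroup.centralizer (U'' : Set Γ)).relIndex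
      ((G ⊔ A) ⊓ Subgroup.centralizer (U'' : Set Γ)) := by
    have hKm : K.map (MulAut.conj m).toMonoidHom = (G ⊔ A) ⊓ Subgroup.centralizer (U'' : Set Γ) := by
      rw [hK, Subgroup.map_inf _ _ _ (MulEquiv.injective _)]
      congr 1
      · refine Transfer.map_conj_eq_self_iff.mpr (Subgroup.le_normalizer ?_)
        exact Subgroup.mem_sup_left hm
      · ext z
        rw [Transfer.mem_conj_map_iff, Subgroup.mem_centralizer_iff, Subgroup.mem_centralizer_iff]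
        constructor
        · rintro hz _ ⟨u, hu, rfl⟩
          show m * u * m⁻¹ * z = z * (m * u * m⁻¹)
          calc m * u * m⁻¹ * z = m * (u * (m⁻¹ * z * m)) * m⁻¹ := by group
            _ = m * (m⁻¹ * z * m * u) * m⁻¹ := by rw [hz u hu]
            _ = z * (m * u * m⁻¹) := by group
        · intro hz u hu
          have h3 : m * u * m⁻¹ * z = z * (m * u * m⁻¹) := hz _ ⟨u, hu, rfl⟩
          calc u * (m⁻¹ * z * m) = m⁻¹ * (m * u * m⁻¹ * z) * m := by group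
            _ = m⁻¹ * (z * (m * u * m⁻¹)) * m := by rw [h3]
            _ = m⁻¹ * z * m * u := by group
    rw [← hKm]
    intro hd
    apply hS'idx
    rw [← Subgroup.relIndex_map_map_of_injective (f := (MulAut.conj m).toMonoidHom) S' K
      (MulEquiv.injective (MulAut.conj m))]
    refine hd.trans (Subgroup.relIndex_dvd_of_le_left _ ?_)
    refine le_inf (fun z hz => ?_) ?_
    · obtain ⟨w, hw, rfl⟩ := hz
      exact hmS w (Subgroup.mem_sup_left hw)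
    · exact (Subgroup.map_mono hS'K).trans (hKm.le.trans inf_le_right)
  have e1 := phi_eq_one h hAc hxT hxA hAx hn₀' hm hU'T hU'n hmU hmA hfull
  have hmgA : ∀ b ∈ A, m * g * b * (m * g)⁻¹ ∈ T ⊔ A := by
    intro b hb
    rw [show m * g * b * (m * g)⁻¹ = m * b * m⁻¹ * (m * (b⁻¹ * (g * b * g⁻¹)) * m⁻¹) by group]
    exact mul_mem (hmA b hb) (Subgroup.mem_sup_left (hmU _ (hfU b hb)))
  have hmgU : ∀ u ∈ cT T t₀, m * g * u * (m * g)⁻¹ ∈ T := by
    intro u hu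
    rw [show m * g * u * (m * g)⁻¹ = m * (g * u * g⁻¹) * m⁻¹ by group]
    exact hmU _ ⟨u, hu, rfl⟩
  have hmap : (cT T t₀).map (MulAut.conj (m * g)).toMonoidHom = U'' := by
    rw [hU'', hU', Transfer.map_conj_mul]
  have e2 := phi_eq_one h hAc hxT hxA hAx hn₀' (mul_mem hm hg) inf_le_left rfl hmgU hmgA
    (hmap.symm ▸ hfull) a₀ ha₀
  have e3 := e1 a₀ ha₀
  refine hgc ?_
  have h4 : m * a₀ * m⁻¹ = a₀ := (inv_mul_eq_one.mp e3).symm
  have h5 : m * g * a₀ * (m * g)⁻¹ = a₀ := (inv_mul_eq_one.mp e2).symm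
  have h6 : m * (g * a₀ * g⁻¹) * m⁻¹ = m * a₀ * m⁻¹ := by
    rw [h4]
    refine Eq.trans ?_ h5
    group
  rw [mul_left_cancel (mul_right_cancel h6), inv_mul_cancel]

/-- Absence of fusion pairs gives isolation in `G A`. -/
theorem conj_eq_of_not_pair (h : Setup G T A) {c : Γ} (hc : c ∈ A)
    (hcA : ∀ a ∈ A, a * c = c * a) (hno : ∀ t, ¬ Pair G T c t) {z : Γ} (hz : z ∈ G ⊔ A)
    (hzc : z * c * z⁻¹ ∈ T ⊔ A) : z * c * z⁻¹ = c := by
  haveI := h.normal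
  obtain ⟨g, hg, a, ha, rfl⟩ := Subgroup.mem_sup_of_normal_left.mp hz
  have he : g * a * c * (g * a)⁻¹ = g * c * g⁻¹ := by
    calc g * a * c * (g * a)⁻¹ = g * (a * c) * a⁻¹ * g⁻¹ := by group
      _ = g * (c * a) * a⁻¹ * g⁻¹ := by rw [hcA a ha]
      _ = g * c * g⁻¹ := by group
  rw [he] at hzc ⊢
  by_contra hne
  exact hno _ (phi_pair h hg hc hzc fun h1 => hne (inv_mul_eq_one.mp h1).symm)

end CfsgLib.ZStar.SylowFusion
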