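import Mathlib
import Cfsg.Agent.Lib.ZStar.Main
import Cfsg.Agent.Lib.ZStar.SylowFusion
import Cfsg.Agent.Lib.Transfer.Frobenius
import Cfsg.Agent.Lib.PSolvable.Core
import Cfsg.Agent.Lib.Critical.Basic

/-!
# Automorphisms centralising a Sylow 2-subgroup (Glauberman)

If `O(G) = 1` and `T` is a Sylow 2-subgroup of `G`, the group of automorphisms of `G` centralising
`T` has abelian 2-subgroups and a normal 2-complement. In particular a perfect group of such
automorphisms that is generated by elements of 2-power order is trivial.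
-/

set_option autoImplicit false
set_option linter.style.haveILetI false
set_option linter.unusedSectionVars false

open scoped commutatorElement

namespace CfsgLib.ZStar

open CfsgLib.Coprime SylowFusion

section Abstract

variable {Γ : Type*} [Group Γ] [Finite Γ] {G T A : Subgroup Γ}

theorem false_of_no_pair (h : Setup G T A) (hO : Cfsg.pPrimeCore 2 ↥G = ⊥)
    (hfaith : A ⊓ Subgroup.centralizer (G : Set Γ) = ⊥) {c : Γ} (hc : c ∈ A)
    (hcA : ∀ a ∈ A, a * c = c * a) (hc2 : orderOf c = 2) (hno : ∀ t, ¬ Pair G T c t) : False := by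
  haveI : Fact (Nat.Prime 2) := ⟨Nat.prime_two⟩
  haveI := h.normal
  set M := G ⊔ A with hM
  have hPM : T ⊔ A ≤ M := sup_le_sup_right h.le A
  have hPp : IsPGroup 2 ↥((T ⊔ A).subgroupOf M) :=
    h.isPGroup_sup.comap_of_injective M.subtype M.subtype_injective
  let P : Sylow 2 ↥M := hPp.toSylow h.not_dvd_relIndex
  have hcM : c ∈ M := Subgroup.mem_sup_right hc
  have hcP : (⟨c, hcM⟩ : M) ∈ P := Subgroup.mem_subgroupOf.mpr (Subgroup.mem_sup_right hc)
  have h2 : orderOf (⟨c, hcM⟩ : M) = 2 := by rw [← Subgroup.orderOf_coe]; exact hc2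
  have hcore := commutatorsInCore_of_isolated (Invol.isolated_of_sylow P h2 hcP
    fun z hz => Subtype.ext (conj_eq_of_not_pair h hc hcA hno z.2 (Subgroup.mem_subgroupOf.mp hz)))
  have hcen : c ∈ Subgroup.centralizer (G : Set Γ) := by
    refine Subgroup.mem_centralizer_iff.mpr fun g hg => ?_
    have h3 := hcore ⟨g, Subgroup.mem_sup_left hg⟩
    haveI := Transfer.pPrimeCore_normal 2 ↥M
    have hgG : c * g * c⁻¹ * g⁻¹ ∈ G := mul_mem (h.normal.conj_mem g hg c) (inv_mem hg)
    set N := ((Cfsg.pPrimeCore 2 ↥M).map M.subtype).subgroupOf G with hN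
    have hNn : N.Normal := by
      refine Subgroup.normal_subgroupOf_of_le_normalizer ?_
      exact (le_sup_left : G ≤ M).trans
        (PSolvable.le_normalizer_map_of_characteristic Subgroup.le_normalizer _)
    have hNc : (Nat.card N).Coprime 2 := by
      refine Nat.Coprime.coprime_dvd_left ?_ (Transfer.pPrimeCore_coprime (G := ↥M) 2)
      rw [hN, ← Subgroup.card_map_of_injective (f := G.subtype) G.subtype_injective,
        Subgroup.subgroupOf_map_subtype]
      exact (Subgroup.card_dvd_of_le inf_le_left).trans (Subgroup.card_map_dvd _ M.subtype)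
    have hmem : (⟨c * g * c⁻¹ * g⁻¹, hgG⟩ : G) ∈ N :=
      Subgroup.mem_subgroupOf.mpr ⟨_, h3, rfl⟩
    have h4 := Transfer.le_pPrimeCore hNn hNc hmem
    rw [hO, Subgroup.mem_bot, Subtype.ext_iff] at h4
    calc g * c = (c * g * c⁻¹ * g⁻¹) * (g * c) := by
          have h4' : c * g * c⁻¹ * g⁻¹ = 1 := h4
          rw [h4', one_mul]
      _ = c * g := by group
  have h5 : c ∈ A ⊓ Subgroup.centralizer (G : Set Γ) := ⟨hc, hcen⟩
  rw [hfaith, Subgroup.mem_bot] at h5
  rw [h5, orderOf_one] at hc2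
  exact absurd hc2 (by norm_num)

/-- An involution in a nontrivial 2-subgroup. -/
theorem exists_involution {H : Subgroup Γ} (hH : IsPGroup 2 H) {x : Γ} (hx : x ∈ H) (hx1 : x ≠ 1) :
    ∃ c ∈ Subgroup.zpowers x, orderOf c = 2 := by
  haveI : Fact (Nat.Prime 2) := ⟨Nat.prime_two⟩
  obtain ⟨k, hk⟩ := IsPGroup.iff_orderOf.mp hH ⟨x, hx⟩
  rw [← Subgroup.orderOf_coe] at hk
  rcases k with _ | k
  · exact absurd (orderOf_eq_one_iff.mp (by simpa using hk)) hx1
  · refine ⟨x ^ 2 ^ k, pow_mem (Subgroup.mem_zpowers x) _, ?_⟩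
    rw [orderOf_pow' x (pow_ne_zero k two_ne_zero)]
    show orderOf x / Nat.gcd (orderOf x) (2 ^ k) = 2
    have hk' : orderOf x = 2 ^ (k + 1) := hk
    rw [hk', Nat.gcd_eq_right (pow_dvd_pow 2 (Nat.le_succ k)), pow_succ,
      Nat.mul_div_cancel_left _ (pow_pos two_pos k)]

theorem commute_of_setup (h : Setup G T A) (hO : Cfsg.pPrimeCore 2 ↥G = ⊥)
    (hfaith : A ⊓ Subgroup.centralizer (G : Set Γ) = ⊥) : ∀ a ∈ A, ∀ b ∈ A, a * b = b * a := by
  haveI : Fact (Nat.Prime 2) := ⟨Nat.prime_two⟩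
  intro a ha b hb
  by_contra hab
  haveI : Group.IsNilpotent ↥A := h.isTwoA.isNilpotent
  set D : Subgroup ↥A := commutator ↥A with hD
  have hD1 : D ≠ ⊥ := by
    intro h0
    refine hab (commutatorElement_eq_one_iff_mul_comm.mp ?_)
    have h1 : ⁅(⟨a, ha⟩ : A), ⟨b, hb⟩⁆ ∈ D :=
      Subgroup.commutator_mem_commutator (Subgroup.mem_top _) (Subgroup.mem_top _)
    rw [h0, Subgroup.mem_bot] at h1
    have h2 := congrArg Subtype.val h1
    simpa [commutatorElement_def] using h2
  have hDZ : D ⊓ Subgroup.center ↥A ≠ ⊥ := Critical.inf_center_ne_bot D hD1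
  obtain ⟨⟨d, hdA⟩, hd, hd1⟩ : ∃ d ∈ D ⊓ Subgroup.center ↥A, d ≠ 1 := by
    by_contra hc
    push Not at hc
    exact hDZ (eq_bot_iff.mpr fun z hz => Subgroup.mem_bot.mpr (hc z hz))
  obtain ⟨c, hcd, hc2⟩ := exists_involution h.isTwoA hdA fun h1 => hd1 (Subtype.ext h1)
  obtain ⟨i, rfl⟩ := Subgroup.mem_zpowers_iff.mp hcd
  have hdi : (⟨d, hdA⟩ : A) ^ i ∈ D ⊓ Subgroup.center ↥A := zpow_mem hd i
  have hcA : ∀ u ∈ A, u * d ^ i = d ^ i * u := fun u hu => by
    have := Subgroup.mem_center_iff.mp (Subgroup.mem_inf.mp hdi).2 ⟨u, hu⟩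
    simpa using congrArg Subtype.val this
  have hder : d ^ i ∈ ⁅A, A⁆ := by
    rw [← Subgroup.map_subtype_commutator]
    exact ⟨_, (Subgroup.mem_inf.mp hdi).1, by simp⟩
  exact false_of_no_pair h hO hfaith (zpow_mem hdA i) hcA hc2
    (not_pair_derived h (zpow_mem hdA i) hcA hder)

theorem commutator_eq_bot_of_setup (h : Setup G T A) (hO : Cfsg.pPrimeCore 2 ↥G = ⊥)
    (hfaith : A ⊓ Subgroup.centralizer (G : Set Γ) = ⊥) {x : Γ}
    (hxT : x ∈ Subgroup.centralizer (T : Set Γ)) (hxA : x ∈ Subgroup.normalizer (A : Set Γ))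
    (hx : (orderOf x).Coprime 2) : ⁅A, Subgroup.zpowers x⁆ = ⊥ := by
  haveI : Fact (Nat.Prime 2) := ⟨Nat.prime_two⟩
  have hxA' : Subgroup.zpowers x ≤ Subgroup.normalizer (A : Set Γ) := Subgroup.zpowers_le.mpr hxA
  set V := ⁅A, Subgroup.zpowers x⁆ with hV
  have hVA : V ≤ A := commutator_le_left_of_le_normalizer hxA'
  have hcop : (Nat.card (Subgroup.zpowers x)).Coprime (Nat.card A) := by
    obtain ⟨n, hn⟩ := IsPGroup.iff_card.mp h.isTwoA
    rw [hn, Nat.card_zpowers]
    exact hx.pow_right n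
  haveI : Group.IsNilpotent ↥A := h.isTwoA.isNilpotent
  have hV2 : ⁅V, Subgroup.zpowers x⁆ = V :=
    commutator_commutator_eq hxA' hcop (Or.inr inferInstance)
  have hVs : Setup G T V :=
    ⟨h.normal, h.le, h.isTwoT, h.sylow, h.isTwoA.to_le hVA, hVA.trans h.cent,
      eq_bot_iff.mpr ((inf_le_inf_right G hVA).trans h.disjoint.le)⟩
  have hfV : V ⊓ Subgroup.centralizer (G : Set Γ) = ⊥ :=
    eq_bot_iff.mpr ((inf_le_inf_right _ hVA).trans hfaith.le)
  have hxV : x ∈ Subgroup.normalizer (V : Set Γ) := le_normalizer_commutator hxA'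
    Subgroup.le_normalizer (Subgroup.mem_zpowers x)
  have hAc := commute_of_setup h hO hfaith
  by_contra hne
  obtain ⟨d, hd, hd1⟩ : ∃ d ∈ V, d ≠ 1 := by
    by_contra hc
    push Not at hc
    exact hne (eq_bot_iff.mpr fun z hz => Subgroup.mem_bot.mpr (hc z hz))
  obtain ⟨c, hcd, hc2⟩ := exists_involution (h.isTwoA.to_le hVA) hd hd1
  have hcV : c ∈ V := Subgroup.zpowers_le.mpr hd hcd
  exact false_of_no_pair hVs hO hfV hcV (fun a ha => hAc a (hVA ha) c (hVA hcV)) hc2
    (not_pair hVs (fun a ha b hb => hAc a (hVA ha) b (hVA hb)) hxT hxV hV2 c hcV)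

end Abstract

/-- The automorphisms fixing a subgroup pointwise. -/
def fixingAut {G : Type*} [Group G] (T : Subgroup G) : Subgroup (MulAut G) where
  carrier := {α | ∀ t ∈ T, α t = t}
  one_mem' := fun _ _ => rfl
  mul_mem' := fun {α β} ha hb t ht => by rw [MulAut.mul_apply, hb t ht, ha t ht]
  inv_mem' := fun {α} ha t ht => by
    conv_lhs => rw [← ha t ht]
    exact α.symm_apply_apply t

theorem pAutomizers_fixingAut {G : Type*} [Group G] [Finite G]
    (hO : Cfsg.pPrimeCore 2 G = ⊥) (T : Sylow 2 G) :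
    Transfer.PAutomizers 2 ↥(fixingAut (T : Subgroup G)) := by
  haveI : Fact (Nat.Prime 2) := ⟨Nat.prime_two⟩
  intro Q hQ x hx hxc
  let Γ := G ⋊[MonoidHom.id (MulAut G)] MulAut G
  haveI : Finite (MulAut G) := Finite.of_injective (fun e => (e : G → G)) DFunLike.coe_injective
  haveI : Finite Γ := Finite.of_equiv _ SemidirectProduct.equivProd.symm
  let Gi : Subgroup Γ := (SemidirectProduct.inl : G →* Γ).range
  let Ti : Subgroup Γ := (T : Subgroup G).map (SemidirectProduct.inl : G →* Γ)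
  let j : ↥(fixingAut (T : Subgroup G)) →* Γ :=
    (SemidirectProduct.inr : MulAut G →* Γ).comp (fixingAut (T : Subgroup G)).subtype
  let Ai : Subgroup Γ := Q.map j
  have hconj : ∀ (α : ↥(fixingAut (T : Subgroup G))) (g : G),
      j α * SemidirectProduct.inl g * (j α)⁻¹ = SemidirectProduct.inl ((α : MulAut G) g) := by
    intro α g
    have h1 := SemidirectProduct.inl_aut (φ := MonoidHom.id (MulAut G)) (α : MulAut G) g
    simp only [MonoidHom.id_apply, map_inv] at h1
    exact h1.symm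
  have hjT : ∀ α, j α ∈ Subgroup.centralizer (Ti : Set Γ) := by
    intro α
    refine Subgroup.mem_centralizer_iff.mpr ?_
    rintro _ ⟨t, ht, rfl⟩
    have h1 := hconj α t
    rw [α.2 t ht] at h1
    exact (mul_inv_eq_iff_eq_mul.mp h1).symm
  have hdis : ∀ α, j α ∈ Gi → α = 1 := by
    rintro α ⟨g, hg⟩
    have h1 := congrArg SemidirectProduct.right hg
    simp only [SemidirectProduct.right_inl, j, MonoidHom.comp_apply, SemidirectProduct.right_inr]
      at h1
    exact Subtype.ext h1.symm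
  have hs : Setup Gi Ti Ai := by
    refine ⟨?_, Subgroup.map_le_range _ _, T.2.map _, ?_, hQ.map _, ?_, ?_⟩
    · show ((SemidirectProduct.inl : G →* Γ).range).Normal
      rw [SemidirectProduct.range_inl_eq_ker_rightHom]
      infer_instance
    · show ¬ 2 ∣ ((T : Subgroup G).map _).relIndex (MonoidHom.range _)
      rw [MonoidHom.range_eq_map, Subgroup.relIndex_map_map_of_injective _ _
        SemidirectProduct.inl_injective, Subgroup.relIndex_top_right]
      exact T.not_dvd_index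
    · rintro _ ⟨α, -, rfl⟩
      exact hjT α
    · refine eq_bot_iff.mpr ?_
      rintro _ ⟨⟨α, -, rfl⟩, h2⟩
      rw [Subgroup.mem_bot, hdis α h2, map_one]
  have hOi : Cfsg.pPrimeCore 2 ↥Gi = ⊥ := by
    let e : G ≃* ↥Gi := MonoidHom.ofInjective SemidirectProduct.inl_injective
    refine PSolvable.pPrimeCore_eq_bot_of_ker (f := e.toMonoidHom) e.surjective ?_
    rw [hO]
    exact (MonoidHom.ker_eq_bot_iff _).mpr e.injective
  have hfaith : Ai ⊓ Subgroup.centralizer (Gi : Set Γ) = ⊥ := by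
    refine eq_bot_iff.mpr ?_
    rintro _ ⟨⟨α, -, rfl⟩, h2⟩
    rw [Subgroup.mem_bot, show α = 1 from Subtype.ext (MulEquiv.ext fun g => ?_), map_one]
    have h3 := hconj α g
    rw [mul_inv_eq_iff_eq_mul.mpr (Subgroup.mem_centralizer_iff.mp h2 _ ⟨g, rfl⟩).symm] at h3
    exact (SemidirectProduct.inl_injective h3).symm
  have hxA : j x ∈ Subgroup.normalizer (Ai : Set Γ) :=
    Subgroup.le_normalizer_map j ⟨x, hx, rfl⟩
  have hxo : (orderOf (j x)).Coprime 2 := hxc.coprime_dvd_left (orderOf_map_dvd j x)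
  have hbot := commutator_eq_bot_of_setup hs hOi hfaith (hjT x) hxA hxo
  rw [Subgroup.commutator_eq_bot_iff_le_centralizer] at hbot
  refine Subgroup.mem_centralizer_iff.mpr fun q hq => ?_
  have h1 : j x * j q = j q * j x :=
    Subgroup.mem_centralizer_iff.mp (hbot ⟨q, hq, rfl⟩) _ (Subgroup.mem_zpowers _)
  rw [← map_mul, ← map_mul] at h1
  have hinj : Function.Injective j :=
    SemidirectProduct.inr_injective.comp (Subgroup.subtype_injective _)
  exact (hinj h1).symm

/-- A perfect group generated by 2-elements acting on `G` so as to fix a Sylow 2-subgroup acts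
trivially. -/
theorem eq_one_of_perfect_fixing {G K : Type*} [Group G] [Finite G] [Group K] [Finite K]
    (hO : Cfsg.pPrimeCore 2 G = ⊥) (T : Sylow 2 G) (ρ : K →* MulAut G)
    (hfix : ∀ k, ∀ t ∈ (T : Subgroup G), ρ k t = t) (hperf : commutator K = ⊤)
    (hgen : Subgroup.closure {k : K | ∃ i, orderOf k ∣ 2 ^ i} = ⊤) : ρ = 1 := by
  haveI : Fact (Nat.Prime 2) := ⟨Nat.prime_two⟩
  haveI : Finite (MulAut G) := Finite.of_injective (fun e => (e : G → G)) DFunLike.coe_injective
  obtain ⟨P, M, hM, hc⟩ := Transfer.hasNormalPComplement_of_pAutomizers (pAutomizers_fixingAut hO T)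
  haveI := hM
  let ρ' : K →* ↥(fixingAut (T : Subgroup G)) := ρ.codRestrict _ hfix
  have hq : IsPGroup 2 (↥(fixingAut (T : Subgroup G)) ⧸ M) :=
    Transfer.isPGroup_quotient_of_isComplement' hc
  have htriv : ∀ k, ρ' k ∈ M := by
    intro k
    set f := (QuotientGroup.mk' M).comp ρ'
    have hp : Group.IsPerfect K := Group.isPerfect_def.mpr hperf
    haveI : Group.IsNilpotent ↥f.range := (hq.to_subgroup f.range).isNilpotent
    by_contra hk
    haveI : Nontrivial ↥f.range := ⟨⟨⟨f k, k, rfl⟩, 1, fun h => hk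
      ((QuotientGroup.eq_one_iff _).mp (congrArg Subtype.val h))⟩⟩
    haveI : Group.IsPerfect ↥f.range := Group.IsPerfect.ofSurjective f.rangeRestrict_surjective
    exact Group.IsPerfect.not_isNilpotent ↥f.range inferInstance
  have h2 : ∀ k : K, (∃ i, orderOf k ∣ 2 ^ i) → ρ k = 1 := by
    rintro k ⟨i, hi⟩
    have : ρ' k = 1 := by
      refine PSolvable.eq_one_of_mem_of_mem (P := Subgroup.zpowers (ρ' k)) ?_
        (Transfer.coprime_card_of_isComplement' hc) (Subgroup.mem_zpowers _) (htriv k)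
      rintro ⟨z, n, rfl⟩
      refine ⟨i, Subtype.ext ?_⟩
      show (ρ' k ^ n) ^ 2 ^ i = 1
      rw [← zpow_natCast, ← zpow_mul, mul_comm n, zpow_mul, zpow_natCast,
        orderOf_dvd_iff_pow_eq_one.mp ((orderOf_map_dvd ρ' k).trans hi), one_zpow]
    exact congrArg Subtype.val this
  have hker : (⊤ : Subgroup K) ≤ ρ.ker := hgen ▸ (Subgroup.closure_le _).mpr h2
  exact MonoidHom.ext fun k => hker (Subgroup.mem_top k)

end CfsgLib.ZStar
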