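import Cfsg.Agent.Lib.ZStar.Main

/-!
# Abelian Sylow 2-subgroups and the Z*-theorem

`central_of_unique_conj`: a 2-element with only one conjugate in an abelian Sylow 2-subgroup is
central when `O(X) = 1`.  `exists_central_mul`: modulo the derived part every element of an
abelian Sylow 2-subgroup can be corrected to a central one.
-/

set_option autoImplicit false

namespace CfsgLib.ZStar

open Cfsg

universe u

section

variable {X : Type u} [Group X] [Finite X]

/-- Burnside: conjugacy inside an abelian Sylow subgroup is controlled by its normalizer. -/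
theorem exists_normalizer_conj {S : Sylow 2 X} (hS : ∀ a ∈ (S : Subgroup X), ∀ b ∈ (S : Subgroup X),
    Commute a b) {x g : X} (hx : x ∈ (S : Subgroup X)) (hy : g * x * g⁻¹ ∈ (S : Subgroup X)) :
    ∃ n ∈ Subgroup.normalizer ((S : Subgroup X) : Set X), g * x * g⁻¹ = n * x * n⁻¹ := by
  have hle : ∀ a ∈ (S : Subgroup X), a ∈ Subgroup.centralizer ((S : Subgroup X) : Set X) :=
    fun a ha b hb => hS b hb a ha
  obtain ⟨n, hn, he⟩ := S.conj_eq_normalizer_conj_of_mem_centralizer x g⁻¹ (hle x hx)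
    (by simpa using hle _ hy)
  exact ⟨n⁻¹, inv_mem hn, by simpa using he⟩

/-- Having a single conjugate in an abelian Sylow 2-subgroup passes to powers. -/
theorem unique_conj_pow {S : Sylow 2 X} (hS : ∀ a ∈ (S : Subgroup X), ∀ b ∈ (S : Subgroup X),
    Commute a b) {c : X} (hc : c ∈ (S : Subgroup X))
    (hu : ∀ g : X, g * c * g⁻¹ ∈ (S : Subgroup X) → g * c * g⁻¹ = c) (k : ℕ) (g : X)
    (hg : g * c ^ k * g⁻¹ ∈ (S : Subgroup X)) : g * c ^ k * g⁻¹ = c ^ k := by
  obtain ⟨n, hn, he⟩ := exists_normalizer_conj hS (pow_mem hc k) hg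
  have h1 := hu n ((Subgroup.mem_normalizer_iff.mp hn c).mp hc)
  rw [he, ← conj_pow, h1]

end

/-- A 2-element with a single conjugate in an abelian Sylow 2-subgroup is central if the odd core
is trivial. -/
theorem central_of_unique_conj : ∀ (X : Type u) [Group X] [Finite X] (S : Sylow 2 X)
    (_ : ∀ a ∈ (S : Subgroup X), ∀ b ∈ (S : Subgroup X), Commute a b)
    (_ : pPrimeCore 2 X = ⊥) (c : X) (_ : c ∈ (S : Subgroup X))
    (_ : ∀ g : X, g * c * g⁻¹ ∈ (S : Subgroup X) → g * c * g⁻¹ = c), ∀ g : X, Commute c g := by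
  suffices H : ∀ (N : ℕ) (X : Type u) [Group X] [Finite X] (_ : Nat.card X = N) (S : Sylow 2 X)
      (_ : ∀ a ∈ (S : Subgroup X), ∀ b ∈ (S : Subgroup X), Commute a b)
      (_ : pPrimeCore 2 X = ⊥) (c : X) (_ : c ∈ (S : Subgroup X))
      (_ : ∀ g : X, g * c * g⁻¹ ∈ (S : Subgroup X) → g * c * g⁻¹ = c), ∀ g : X, Commute c g from
    fun X _ _ S h1 h2 c h3 h4 => H _ X rfl S h1 h2 c h3 h4
  intro N
  induction N using Nat.strong_induction_on with
  | _ N ih =>
  intro X _ _ hN S hS hO c hc hu g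
  obtain ⟨j, hj⟩ := IsPGroup.iff_orderOf.mp S.2 ⟨c, hc⟩
  rw [← Subgroup.orderOf_coe] at hj
  simp only at hj
  rcases j with _ | j
  · rw [show c = 1 from orderOf_eq_one_iff.mp (by simpa using hj)]
    exact Commute.one_left g
  set z := c ^ 2 ^ j with hzdef
  have hz : orderOf z = 2 := by
    rw [hzdef, orderOf_pow' c (by positivity), hj, pow_succ,
      Nat.gcd_eq_right (dvd_mul_right _ _), Nat.mul_div_cancel_left _ (Nat.two_pow_pos j)]
  have hzS : z ∈ (S : Subgroup X) := pow_mem hc _
  have hiso := Invol.isolated_of_sylow S hz hzS (unique_conj_pow hS hc hu _)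
  have hzc : ∀ x : X, Commute z x :=
    commute_of_commutatorsInCore hO (commutatorsInCore_of_isolated hiso)
  have : (Subgroup.zpowers z).Normal := ⟨fun a ha x => by
    obtain ⟨k, rfl⟩ := Subgroup.mem_zpowers_iff.mp ha
    rw [← ((hzc x).zpow_left k).eq, mul_inv_cancel_right]
    exact Subgroup.zpow_mem_zpowers z k⟩
  set f := QuotientGroup.mk' (Subgroup.zpowers z)
  have hf : Function.Surjective f := QuotientGroup.mk'_surjective _
  have hker : f.ker = Subgroup.zpowers z := QuotientGroup.ker_mk' _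
  have hlt : Nat.card (X ⧸ Subgroup.zpowers z) < N := by
    have h1 := Subgroup.card_eq_card_quotient_mul_card_subgroup (Subgroup.zpowers z)
    rw [Nat.card_zpowers, hz, hN] at h1
    have : 0 < Nat.card (X ⧸ Subgroup.zpowers z) := Nat.card_pos
    omega
  have hO' : pPrimeCore 2 (X ⧸ Subgroup.zpowers z) = ⊥ := by
    have hodd : Odd (Nat.card (pPrimeCore 2 (X ⧸ Subgroup.zpowers z))) := odd_card_core
    set L := (pPrimeCore 2 (X ⧸ Subgroup.zpowers z)).comap f
    have : L.Normal := (Transfer.pPrimeCore_normal 2 _).comap f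
    have hcard : Nat.card L = 2 * Nat.card (pPrimeCore 2 (X ⧸ Subgroup.zpowers z)) := by
      rw [PSolvable.card_comap_of_surjective hf, hker, Nat.card_zpowers, hz]
    have hzL : z ∈ L := by
      rw [Subgroup.mem_comap, show f z = 1 from
        MonoidHom.mem_ker.mp (by rw [hker]; exact Subgroup.mem_zpowers z)]
      exact one_mem _
    rw [Subgroup.eq_bot_iff_forall]
    intro q hq
    obtain ⟨x, rfl⟩ := hf q
    have hoq : Odd (orderOf (f x)) := by
      exact hodd.of_dvd_nat (Subgroup.orderOf_dvd_natCard _ hq)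
    set m := orderOf (f x) with hm
    have hx2 : orderOf (x ^ (2 : ℕ)) ∣ m := by
      have h1 : f (x ^ m) = 1 := by rw [map_pow, hm, pow_orderOf_eq_one]
      have h2 : x ^ m ∈ Subgroup.zpowers z := hker ▸ h1
      obtain ⟨k, hk⟩ := Subgroup.mem_zpowers_iff.mp h2
      refine orderOf_dvd_of_pow_eq_one ?_
      rw [← pow_mul, mul_comm, pow_mul, ← hk, ← zpow_natCast, ← zpow_mul, mul_comm, zpow_mul,
        show z ^ ((2 : ℕ) : ℤ) = 1 by rw [zpow_natCast, ← hz, pow_orderOf_eq_one], one_zpow]
    have h3 := mem_core_of_odd_orderOf (z := (⟨z, hzL⟩ : L))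
      (by rw [← Subgroup.orderOf_coe]; exact hz) (fun a => Subtype.ext (hzc a).eq)
      (by rw [hcard, Nat.mul_div_cancel_left _ two_pos]; exact hodd)
      (x := ⟨x ^ 2, pow_mem (show x ∈ L from hq) 2⟩)
      (by rw [← Subgroup.orderOf_coe]; exact hoq.of_dvd_nat hx2)
    have h4 := PSolvable.map_pPrimeCore_le L (Subgroup.mem_map_of_mem _ h3)
    rw [hO, Subgroup.mem_bot] at h4
    simp only [Subgroup.coe_subtype] at h4
    exact Invol.eq_one_of_odd_of_sq hoq (by rw [← map_mul, ← sq, h4, map_one])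
  have hmem : ∀ y : X, f y ∈ ((S.mapSurjective hf : Sylow 2 _) : Subgroup _) →
      y ∈ (S : Subgroup X) := by
    intro y hy
    rw [Sylow.coe_mapSurjective] at hy
    obtain ⟨s, hs, hsy⟩ := Subgroup.mem_map.mp hy
    have h1 : s⁻¹ * y ∈ Subgroup.zpowers z := hker ▸ (by
      rw [MonoidHom.mem_ker, map_mul, map_inv, hsy, inv_mul_cancel])
    simpa using mul_mem hs (Subgroup.zpowers_le.mpr hzS h1)
  have hc' : ∀ q, Commute (f c) q := by
    refine ih _ hlt (X ⧸ Subgroup.zpowers z) rfl (S.mapSurjective hf) ?_ hO' (f c) ?_ ?_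
    · intro a ha b hb
      obtain ⟨a, rfl⟩ := hf a
      obtain ⟨b, rfl⟩ := hf b
      exact (hS a (hmem a ha) b (hmem b hb)).map f
    · rw [Sylow.coe_mapSurjective]
      exact Subgroup.mem_map_of_mem _ hc
    · intro q hq
      obtain ⟨x, rfl⟩ := hf q
      rw [← map_inv, ← map_mul, ← map_mul] at hq ⊢
      rw [hu x (hmem _ hq)]
  have h5 : g * c * g⁻¹ ∈ (S : Subgroup X) := hmem _ (by
    rw [map_mul, map_mul, map_inv, ← (hc' (f g)).eq, mul_inv_cancel_right, Sylow.coe_mapSurjective]
    exact Subgroup.mem_map_of_mem _ hc)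
  have h6 := hu g h5
  exact (mul_inv_eq_iff_eq_mul.mp h6).symm

/-- For a map to a commutative group, an element of an abelian Sylow 2-subgroup has the image of a
central element of that subgroup. -/
theorem exists_central_mul {X : Type u} [Group X] [Finite X] (S : Sylow 2 X)
    (hS : ∀ a ∈ (S : Subgroup X), ∀ b ∈ (S : Subgroup X), Commute a b)
    (hO : pPrimeCore 2 X = ⊥) {A : Type*} [Group A] (π : X →* A)
    (hA : ∀ a b : A, Commute a b) {t : X} (ht : t ∈ (S : Subgroup X)) :
    ∃ c : X, c ∈ (S : Subgroup X) ∧ (∀ g : X, Commute c g) ∧ π c = π t := by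
  classical
  letI : CommGroup (S : Subgroup X) :=
    { (inferInstance : Group (S : Subgroup X)) with
      mul_comm := fun a b => Subtype.ext (hS a a.2 b b.2).eq }
  set N := Subgroup.normalizer ((S : Subgroup X) : Set X)
  set S₀ : Subgroup N := (S : Subgroup X).subgroupOf N
  have := Fintype.ofFinite (N ⧸ S₀)
  have hnorm : ∀ (n : N) (s : (S : Subgroup X)), (n : X) * s * (n : X)⁻¹ ∈ (S : Subgroup X) :=
    fun n s => (Subgroup.mem_normalizer_iff.mp n.2 s).mp s.2
  let F : N ⧸ S₀ → (S : Subgroup X) := Quotient.lift (fun n : N => ⟨_, hnorm n ⟨t, ht⟩⟩)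
    (fun n n' h => by
      have h' : n⁻¹ * n' ∈ S₀ := QuotientGroup.leftRel_apply.mp h
      rw [Subgroup.mem_subgroupOf, Subgroup.coe_mul, Subgroup.coe_inv] at h'
      have hc := (hS _ h' t ht).eq
      apply Subtype.ext
      show (n : X) * t * (n : X)⁻¹ = (n' : X) * t * (n' : X)⁻¹
      calc (n : X) * t * (n : X)⁻¹ = (n : X) * (t * ((n : X)⁻¹ * n')) * (n' : X)⁻¹ := by group
        _ = (n : X) * ((n : X)⁻¹ * n' * t) * (n' : X)⁻¹ := by rw [hc]
        _ = (n' : X) * t * (n' : X)⁻¹ := by group)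
  set c₀ : (S : Subgroup X) := ∏ q, F q with hc₀
  have hfix : ∀ n : N, (n : X) * c₀ * (n : X)⁻¹ = c₀ := by
    intro n
    let ψ : (S : Subgroup X) →* (S : Subgroup X) :=
      { toFun := fun s => ⟨_, hnorm n s⟩
        map_one' := Subtype.ext (by simp)
        map_mul' := fun a b => Subtype.ext (by simp [conj_mul]) }
    suffices ψ c₀ = c₀ from congrArg Subtype.val this
    rw [hc₀, map_prod]
    refine Fintype.prod_equiv (MulAction.toPerm n) _ _ fun q => ?_
    induction q using Quotient.inductionOn with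
    | _ m =>
      apply Subtype.ext
      show (n : X) * ((m : X) * t * (m : X)⁻¹) * (n : X)⁻¹ =
        ((n * m : N) : X) * t * ((n * m : N) : X)⁻¹
      rw [Subgroup.coe_mul]
      group
  set m := Fintype.card (N ⧸ S₀)
  have hπ : π c₀ = π t ^ m := by
    have h1 : ∀ (s : Finset (N ⧸ S₀)), π (∏ q ∈ s, F q : (S : Subgroup X)) = π t ^ s.card := by
      intro s
      induction s using Finset.induction_on with
      | empty => simp
      | insert a s ha ihs =>
        rw [Finset.prod_insert ha, Finset.card_insert_of_notMem ha, Subgroup.coe_mul, map_mul,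
          ihs, pow_succ']
        congr 1
        induction a using Quotient.inductionOn with
        | _ r =>
          show π ((r : X) * t * (r : X)⁻¹) = π t
          rw [map_mul, map_mul, (hA (π r) (π t)).eq, mul_assoc, ← map_mul, mul_inv_cancel,
            map_one, mul_one]
    exact h1 Finset.univ
  have hm : ¬ 2 ∣ m := by
    rw [show m = S₀.index from (Nat.card_eq_fintype_card).symm]
    intro h
    exact S.not_dvd_index (h.trans (Subgroup.relIndex_dvd_index_of_le Subgroup.le_normalizer))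
  obtain ⟨j, hj⟩ := IsPGroup.iff_orderOf.mp S.2 ⟨t, ht⟩
  rw [← Subgroup.orderOf_coe] at hj
  simp only at hj
  obtain ⟨e, he⟩ : ∃ e : ℕ, t ^ (m * e) = t := by
    obtain ⟨e, he⟩ := exists_pow_eq_self_of_coprime (x := t) (n := m) (by
      rw [hj]
      exact Nat.Coprime.pow_right _ (Nat.coprime_two_right.mpr (Nat.not_even_iff_odd.mp
        fun h => hm h.two_dvd)))
    exact ⟨e, by rw [pow_mul, he]⟩
  refine ⟨((c₀ : X)) ^ e, pow_mem c₀.2 e, ?_, ?_⟩
  · refine central_of_unique_conj X S hS hO _ (pow_mem c₀.2 e) fun g hg => ?_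
    obtain ⟨n, hn, hne⟩ := exists_normalizer_conj hS (pow_mem c₀.2 e) hg
    rw [hne, ← conj_pow, hfix ⟨n, hn⟩]
  · rw [map_pow, hπ, ← pow_mul, ← map_pow, he]

end CfsgLib.ZStar
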