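import Cfsg.Agent.Lib.ZStar.Basic
import Cfsg.Agent.Lib.Blocks.SectionOrth
import Cfsg.Agent.Lib.Blocks.BrauerFeit

/-!
# An isolated involution commuting with a second involution
-/

set_option autoImplicit false

namespace CfsgLib.ZStar

open Cfsg
open scoped ComplexConjugate CfsgLib.Char

variable {G : Type*} [Group G] [Fintype G]

/-- Members of the principal block agree on `v y` and `u y` for all conjugates `v` of `u`. -/
theorem value_conj_mul {M : Ideal AlgInt} (hM : IsPModular 2 M) {u y : G}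
    (hu : IsIsolatedInvolution u) (hy : orderOf y = 2) (hcy : Commute u y) (hyu : y ≠ u)
    (hZ : ∀ z : G, orderOf z = 2 → (∀ g, Commute z g) → z = u)
    (ih : ∀ z : G, orderOf z = 2 → ¬ (∀ g, Commute z g) →
      ∀ v : Subgroup.centralizer ({z} : Set G), IsIsolatedInvolution v → CommutatorsInCore v)
    {χ : IrrCharacter G} (hχ : χ ∈ principalBlock M G) (g : G) :
    (χ : G → ℂ) (g * u * g⁻¹ * y) = (χ : G → ℂ) (u * y) := by
  classical
  have := Blocks.isPrime_of_isPModular hM
  set v := g * u * g⁻¹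
  have hv : IsConj u v := isConj_iff.mpr ⟨g, rfl⟩
  have hv2 : orderOf v = 2 := Invol.conj_orderOf_two hu.1 g
  have hnc : ¬ IsConj u y := fun h =>
    hyu (eq_of_isConj_of_commute hu (IsConj.refl u) h hcy).symm
  have he : Even (orderOf (v * y)) :=
    Invol.even_of_not_isConj hv2 hy fun h => hnc (hv.trans h)
  set z := Invol.centralInvol v y with hzdef
  have hz2 : orderOf z = 2 := Invol.orderOf_centralInvol v y he
  have hzv : Commute z v := Invol.centralInvol_comm_left hv2 hy he
  have hzy : Commute z y := Invol.centralInvol_comm_right hv2 hy he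
  have hzz : z * z = 1 := Invol.mul_self_of_orderOf_two hz2
  obtain ⟨d, hd⟩ : IsConj y (v * z) := by
    rcases Invol.left_mul_centralInvol_isConj hv2 hy he with h | h
    · exfalso
      exact Invol.centralInvol_ne_one v y he (left_eq_mul.mp
        (eq_of_isConj_of_commute hu hv (hv.trans h) ((Commute.refl v).mul_right hzv.symm)))
    · exact h
  replace hd : (d : G) * y * (d : G)⁻¹ = v * z := mul_inv_eq_iff_eq_mul.mpr hd
  obtain ⟨c, hcy', hc⟩ := exists_conj_commute hu
    (hv.trans (isConj_iff.mpr ⟨(d : G)⁻¹, rfl⟩)) hcy.symm (show Commute y _ by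
    have h := (((Commute.refl v).mul_right hzv.symm).map (MulAut.conj (d : G)⁻¹).toMonoidHom).symm
    rw [← hd] at h
    simpa [MulAut.conj_apply, mul_assoc] using h)
  have hzconj : IsConj (u * y) z := isConj_iff.mpr ⟨(d : G) * c, by
    have hcyc : c * y * c⁻¹ = y := mul_inv_eq_iff_eq_mul.mpr hcy'.eq.symm
    calc (d : G) * c * (u * y) * ((d : G) * c)⁻¹
        = (d : G) * (c * u * c⁻¹) * (d : G)⁻¹ * ((d : G) * (c * y * c⁻¹) * (d : G)⁻¹) := by group
      _ = v * (v * z) := by rw [hc, hcyc, hd]; group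
      _ = z := by rw [← mul_assoc, Invol.mul_self_of_orderOf_two hv2, one_mul]⟩
  have hzn : ¬ ∀ a : G, Commute z a := fun h => by
    have hzu : z = u := hZ z hz2 h
    obtain ⟨a, ha⟩ := isConj_iff.mp hzconj
    rw [hzu] at ha
    have hau : a⁻¹ * u * a = u := by
      rw [← hzu, mul_assoc, (h a).eq, ← mul_assoc, inv_mul_cancel, one_mul]
    have : u * y = u := by
      calc u * y = a⁻¹ * (a * (u * y) * a⁻¹) * a := by group
        _ = u := by rw [ha, hau]
    exact Invol.ne_one_of_orderOf_two hy (mul_eq_left.mp this)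
  set C := Subgroup.centralizer ({z} : Set G)
  have hvC : v ∈ C := Subgroup.mem_centralizer_singleton_iff.mpr hzv.eq.symm
  have hyC : y ∈ C := Subgroup.mem_centralizer_singleton_iff.mpr hzy.eq.symm
  set W : C := ⟨v, hvC⟩ * ⟨y, hyC⟩ with hW
  have hW2 : W ^ 2 ∈ pPrimeCore 2 C := by
    have h := ih z hz2 hzn ⟨v, hvC⟩ (isolated_subtype (Invol.isolated_conj hu g) hvC) ⟨y, hyC⟩
    rwa [Invol.inv_of_orderOf_two (by rw [← Subgroup.orderOf_coe]; exact hv2),
      Invol.inv_of_orderOf_two (x := (⟨y, hyC⟩ : C)) (by rw [← Subgroup.orderOf_coe]; exact hy),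
      mul_assoc, ← hW, ← pow_two] at h
  have hoW : orderOf W = orderOf (v * y) := (Subgroup.orderOf_coe W).symm
  obtain ⟨m, hm⟩ := he
  have hmo : Odd m := by
    have h := (odd_card_core (G := C)).of_dvd_nat (Subgroup.orderOf_dvd_natCard _ hW2)
    rw [orderOf_pow, hoW, hm] at h
    rwa [show Nat.gcd (m + m) 2 = 2 from Nat.gcd_eq_right ⟨m, by ring⟩,
      show (m + m) / 2 = m by omega] at h
  obtain ⟨j, hj⟩ := hmo
  have hT : (W : G) ^ m * W ∈ (pPrimeCore 2 C).map C.subtype := ⟨(W ^ 2) ^ (j + 1),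
    pow_mem hW2 _, by
      rw [← pow_mul, ← pow_succ, hj, map_pow, show 2 * (j + 1) = 2 * j + 1 + 1 by ring]
      rfl⟩
  obtain ⟨t, ht, htv⟩ := hT
  have hzW : (W : G) ^ m = z := by
    rw [hzdef, Invol.centralInvol, show orderOf (v * y) / 2 = m by omega]
    rfl
  rw [hzW] at htv
  have hx : ∃ k : ℕ, orderOf z = 2 ^ k := ⟨1, by rw [hz2, pow_one]⟩
  have h1 : ¬ 2 ∣ orderOf (1 : C) := by simp
  have key := Blocks.value_mul_pPrimeCore (x := z) hM hx hχ (y := 1) (v := t) h1 (by
    rw [one_mul]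
    have := (odd_card_core (G := C)).of_dvd_nat (Subgroup.orderOf_dvd_natCard _ ht)
    exact fun h => Nat.not_even_iff_odd.mpr this (even_iff_two_dvd.mpr h)) ht
  rw [one_mul, Subgroup.coe_one, mul_one, show (t : G) = z * (v * y) from htv, ← mul_assoc, hzz,
    one_mul] at key
  rw [key]
  exact Blocks.IsClassFunction.eq_of_isConj (Blocks.irr_classFunction χ) hzconj.symm

/-- A second involution in the centralizer gives a proper normal subgroup containing `u`. -/
theorem exists_normal_of_commuting {u y : G}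
    (hu : IsIsolatedInvolution u) (hy : orderOf y = 2) (hcy : Commute u y) (hyu : y ≠ u)
    (hZ : ∀ z : G, orderOf z = 2 → (∀ g, Commute z g) → z = u)
    (ih : ∀ z : G, orderOf z = 2 → ¬ (∀ g, Commute z g) →
      ∀ v : Subgroup.centralizer ({z} : Set G), IsIsolatedInvolution v → CommutatorsInCore v) :
    ∃ K : Subgroup G, K.Normal ∧ K ≠ ⊤ ∧ u ∈ K := by
  classical
  obtain ⟨M, hM⟩ := Blocks.exists_isPModular (p := 2) Nat.prime_two
  have := Blocks.isPrime_of_isPModular hM
  have hn : (Nat.card G : ℂ) ≠ 0 := Nat.cast_ne_zero.mpr Nat.card_pos.ne'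
  have huu : u * u = 1 := Invol.mul_self_of_orderOf_two hu.1
  have hprod : ∀ y' : G, orderOf y' = 2 → Commute u y' → y' ≠ u →
      ∀ χ : IrrCharacter G, χ ∈ principalBlock M G →
      (χ : G → ℂ) u * (χ : G → ℂ) y' = (χ : G → ℂ) 1 * (χ : G → ℂ) (u * y') := by
    intro y' h2 hc hne χ hχ
    have h := Blocks.sum_conj_mul_irr χ u y'
    rw [Finset.sum_congr rfl fun g _ => value_conj_mul hM hu h2 hc hne hZ ih hχ g, Finset.sum_const,
      Finset.card_univ, ← Nat.card_eq_fintype_card, nsmul_eq_mul, mul_assoc, mul_div_assoc,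
      mul_right_inj' hn, eq_div_iff (Char.irr_degree_ne_zero χ.2)] at h
    rw [← h, mul_comm]
  have hy1 := Invol.ne_one_of_orderOf_two hy
  have huy2 : orderOf (u * y) = 2 := Invol.orderOf_two_of_mul_self
    (by rw [hcy.symm.mul_mul_mul_comm, huu, Invol.mul_self_of_orderOf_two hy, one_mul])
    (fun h => hyu (by rw [← one_mul y, ← huu, mul_assoc, h, mul_one]))
  have hsq : ∀ χ : IrrCharacter G, χ ∈ principalBlock M G →
      (χ : G → ℂ) y ≠ 0 → (χ : G → ℂ) u = (χ : G → ℂ) 1 ∨ (χ : G → ℂ) u = -(χ : G → ℂ) 1 := by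
    intro χ hχ hne
    have h1 := hprod y hy hcy hyu χ hχ
    have h2 := hprod (u * y) huy2 ((Commute.refl u).mul_right hcy)
      (fun h => hy1 (mul_eq_left.mp h)) χ hχ
    rw [← mul_assoc, huu, one_mul] at h2
    have h3 : ((χ : G → ℂ) u ^ 2 - (χ : G → ℂ) 1 ^ 2) * (χ : G → ℂ) y = 0 := by
      linear_combination (χ : G → ℂ) u * h1 + (χ : G → ℂ) 1 * h2
    exact sq_eq_sq_iff_eq_or_eq_neg.mp (sub_eq_zero.mp ((mul_eq_zero.mp h3).resolve_right hne))
  have horth : ∀ g : G, (g = 1 ∨ g = u) →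
      ∑ χ : IrrCharacter G with χ ∈ principalBlock M G, (χ : G → ℂ) y * conj ((χ : G → ℂ) g) = 0 := by
    intro g hg
    refine Blocks.sum_block_conj_eq_zero_of_section hM Blocks.isPBlock_principalBlock
      ⟨1, by rw [hy, pow_one]⟩ fun k hk hreg h => ?_
    rcases hg with rfl | rfl
    · exact hy1 (isConj_one_left.mp
        (Blocks.conj_eq_of_isConj_mul Nat.prime_two ⟨1, by rw [hy, pow_one]⟩ ⟨0, by simp⟩ hk hreg h))
    · have h' := Blocks.conj_eq_of_isConj_mul Nat.prime_two ⟨1, by rw [hy, pow_one]⟩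
        ⟨1, by rw [hu.1, pow_one]⟩ hk hreg h
      exact hyu (eq_of_isConj_of_commute hu (IsConj.refl _) h'.symm hcy).symm
  have hT : Blocks.trivIrr G ∈ principalBlock M G := by
    rw [Blocks.principalBlock_eq]
    exact Blocks.mem_blockOf_self (Blocks.trivIrr G)
  by_contra hcon
  have hzero : ∀ χ : IrrCharacter G, χ ∈ principalBlock M G → χ ≠ Blocks.trivIrr G →
      (χ : G → ℂ) y * ((χ : G → ℂ) 1 + (χ : G → ℂ) u) = 0 := by
    intro χ hχ hne
    by_cases hy0 : (χ : G → ℂ) y = 0
    · rw [hy0, zero_mul]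
    · rcases hsq χ hχ hy0 with h | h
      · exact absurd (exists_normal_of_value_eq hne h) hcon
      · rw [h, add_neg_cancel, mul_zero]
  have hsum : ∑ χ : IrrCharacter G with χ ∈ principalBlock M G,
      (χ : G → ℂ) y * ((χ : G → ℂ) 1 + (χ : G → ℂ) u) = 0 := by
    simp only [mul_add, Finset.sum_add_distrib]
    rw [← add_zero (0 : ℂ)]
    congr 1
    · rw [← horth 1 (Or.inl rfl)]
      exact Finset.sum_congr rfl fun χ _ => by
        rw [(Blocks.irr_degree_eq χ).1, Complex.conj_natCast]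
    · rw [← horth u (Or.inr rfl)]
      exact Finset.sum_congr rfl fun χ _ => by
        rw [← Blocks.irr_value_inv χ.2, Invol.inv_of_orderOf_two hu.1]
  rw [Finset.sum_eq_single_of_mem (Blocks.trivIrr G) (Finset.mem_filter.mpr ⟨Finset.mem_univ _, hT⟩)
    fun χ hχ hne => hzero χ (Finset.mem_filter.mp hχ).2 hne] at hsum
  simp [Blocks.trivIrr] at hsum

end CfsgLib.ZStar
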