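import Cfsg.Agent.Lib.ZStar.Large
import Cfsg.Agent.Lib.Char.MeanValue
import Cfsg.Agent.Lib.Char.BrauerInd
import Cfsg.Agent.Lib.Char.Section
import Cfsg.Agent.Lib.Blocks.Inflate

/-!
# The centralizer of the involution of a quaternion Sylow subgroup of order 8
-/

set_option autoImplicit false
set_option linter.unusedSectionVars false

namespace CfsgLib.ZStar

open Cfsg
open scoped ComplexConjugate CfsgLib.Char

/-- The hypotheses on the centralizer of the involution. -/
structure EightData (C : Type*) [Group C] [Fintype C] (t : C) : Prop where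
  order_two : orderOf t = 2
  central : ∀ c : C, Commute t c
  unique : ∀ y : C, orderOf y = 2 → y = t
  not_eight : ∀ x : C, ¬ 8 ∣ orderOf x
  exists_four : ∃ y : C, orderOf y = 4
  conj_four : ∀ x y : C, orderOf x = 4 → orderOf y = 4 → IsConj x y
  cyclic_four : ∀ y : C, orderOf y = 4 →
    ∀ S : Sylow 2 (Subgroup.centralizer ({y} : Set C)),
      IsCyclic (S : Subgroup (Subgroup.centralizer ({y} : Set C))) ∧ Nat.card S = 4
  sylow_card : ∀ P : Sylow 2 C, Nat.card P = 8

variable {C : Type*} [Group C] [Fintype C] {t : C}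

namespace EightData

variable (h : EightData C t)
include h

theorem mul_self : t * t = 1 := Invol.mul_self_of_orderOf_two h.order_two

theorem four_sq {y : C} (hy : orderOf y = 4) : y * y = t := by
  apply h.unique
  rw [← pow_two, orderOf_pow_of_dvd two_ne_zero (by rw [hy]; norm_num), hy]

theorem four_mul {y : C} (hy : orderOf y = 4) : t * y = y⁻¹ := by
  refine eq_inv_of_mul_eq_one_right ?_
  rw [(h.central y).eq, ← mul_assoc, h.four_sq hy, h.mul_self]

theorem pow_half {c : C} (h2 : 2 ∣ orderOf c) : c ^ (orderOf c / 2) = t := by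
  apply h.unique
  have hpos := orderOf_pos c
  obtain ⟨k, hk⟩ := h2
  rw [orderOf_pow_of_dvd (by omega) ⟨2, by omega⟩, hk]
  rw [Nat.mul_div_cancel_left k two_pos, Nat.mul_div_cancel _ (by omega)]

/-- Away from order four, an element of even order is `t` times a regular element. -/
theorem regular_mul {c : C} (h2 : 2 ∣ orderOf c) (h4 : ¬ 4 ∣ orderOf c) :
    IsPRegular 2 (t * c) := by
  set m := orderOf c / 2
  have hm : Odd m := by
    rcases Nat.even_or_odd m with ⟨j, hj⟩ | hm
    · exact absurd ⟨j, by omega⟩ h4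
    · exact hm
  have h1 : (t * c) ^ m = 1 := by
    rw [(h.central c).mul_pow, h.pow_half h2]
    obtain ⟨j, hj⟩ := hm
    rw [hj, pow_add, pow_mul, pow_two, h.mul_self, one_pow, one_mul, pow_one, h.mul_self]
  intro hd
  exact Nat.not_even_iff_odd.mpr (hm.of_dvd_nat (orderOf_dvd_of_pow_eq_one h1))
    (even_iff_two_dvd.mpr hd)

theorem four_dvd_mul {c : C} (h4 : 4 ∣ orderOf c) : 4 ∣ orderOf (t * c) := by
  set j := orderOf (t * c)
  have h1 : t ^ j * c ^ j = 1 := by rw [← (h.central c).mul_pow, pow_orderOf_eq_one]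
  rcases Nat.even_or_odd j with ⟨i, hi⟩ | ⟨i, hi⟩
  · rw [hi, ← two_mul, pow_mul, pow_two, h.mul_self, one_pow, one_mul, pow_mul] at h1
    have h2 : orderOf c ∣ 2 * i := orderOf_dvd_of_pow_eq_one (by rw [pow_mul]; exact h1)
    exact hi ▸ two_mul i ▸ h4.trans h2
  · exfalso
    rw [hi, pow_add t, pow_mul t, pow_two, h.mul_self, one_pow, one_mul, pow_one] at h1
    have h2 : (c ^ (2 * i + 1)) ^ 2 = 1 := by
      rw [← inv_eq_of_mul_eq_one_right h1, inv_pow, pow_two, h.mul_self, inv_one]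
    rw [← pow_mul] at h2
    have := h4.trans (orderOf_dvd_of_pow_eq_one h2)
    omega

theorem four_dvd_mul_iff {c : C} : 4 ∣ orderOf (t * c) ↔ 4 ∣ orderOf c :=
  ⟨fun h4 => by simpa [← mul_assoc, h.mul_self] using h.four_dvd_mul h4, h.four_dvd_mul⟩

theorem regular_mul_not {r : C} (hr : IsPRegular 2 r) :
    2 ∣ orderOf (t * r) ∧ ¬ 4 ∣ orderOf (t * r) := by
  have hc : Nat.Coprime (orderOf t) (orderOf r) := by
    rw [h.order_two]; exact Nat.prime_two.coprime_iff_not_dvd.mpr hr
  rw [(h.central r).orderOf_mul_eq_mul_orderOf_of_coprime hc, h.order_two]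
  refine ⟨dvd_mul_right 2 _, fun h4 => hr ?_⟩
  omega

/-- The splitting of an element with order divisible by four. -/
theorem four_split {c : C} (h4 : 4 ∣ orderOf c) :
    ∃ x r : C, orderOf x = 4 ∧ Commute x r ∧ IsPRegular 2 r ∧ x * r = c := by
  obtain ⟨x, ⟨r, h1, h2, ⟨k, hk⟩, h3⟩, -⟩ := Blocks.exists_isPPart Nat.prime_two c
  refine ⟨x, r, ?_, h2, h3, h1⟩
  have hc : Nat.Coprime (orderOf x) (orderOf r) := by
    rw [hk]; exact (Nat.prime_two.coprime_iff_not_dvd.mpr h3).pow_left k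
  have he := h2.orderOf_mul_eq_mul_orderOf_of_coprime hc
  rw [h1] at he
  have h4' : 4 ∣ orderOf x := by
    have h4r : Nat.Coprime 4 (orderOf r) := by
      rw [show (4 : ℕ) = 2 ^ 2 by norm_num]
      exact (Nat.prime_two.coprime_iff_not_dvd.mpr h3).pow_left 2
    exact h4r.dvd_of_dvd_mul_right (he ▸ h4)
  have h8 := h.not_eight x
  rw [hk] at h4' h8 ⊢
  rcases Nat.lt_or_ge k 3 with hk3 | hk3
  · interval_cases k <;> simp_all
  · exact absurd (show (8 : ℕ) ∣ 2 ^ k from (show (8 : ℕ) = 2 ^ 3 by norm_num) ▸ pow_dvd_pow 2 hk3) h8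

theorem four_dvd_split {x r : C} (hx : orderOf x = 4) (hxr : Commute x r) (hr : IsPRegular 2 r) :
    4 ∣ orderOf (x * r) := by
  have hc : Nat.Coprime (orderOf x) (orderOf r) := by
    rw [hx, show (4 : ℕ) = 2 ^ 2 by norm_num]
    exact (Nat.prime_two.coprime_iff_not_dvd.mpr hr).pow_left 2
  rw [hxr.orderOf_mul_eq_mul_orderOf_of_coprime hc, hx]
  exact dvd_mul_right 4 _

/-- A regular element centralizing an element of order four lies in the odd core of the
centralizer. -/
theorem mem_core {y : C} (hy : orderOf y = 4) {r : Subgroup.centralizer ({y} : Set C)}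
    (hr : IsPRegular 2 r) : r ∈ pPrimeCore 2 (Subgroup.centralizer ({y} : Set C)) := by
  obtain ⟨S⟩ := (inferInstance : Nonempty (Sylow 2 (Subgroup.centralizer ({y} : Set C))))
  rw [Transfer.pPrimeCore_eq_pResidual (hasNormalPComplement_of_cyclic S (h.cyclic_four y hy S).1)]
  exact Transfer.mem_pResidual_of_coprime
    ((Nat.prime_two.coprime_iff_not_dvd).mpr hr).symm

/-- The four characters not vanishing at an element of order four. -/
theorem eight_characters {M : Ideal AlgInt} (hM : IsPModular 2 M) :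
    ∃ (ψ : Fin 3 → IrrCharacter C) (ε : Fin 3 → ℤ), Function.Injective ψ ∧
      (∀ a, ε a = 1 ∨ ε a = -1) ∧ (∀ a, ψ a ≠ Blocks.trivIrr C) ∧
      (∀ a, ψ a ∈ principalBlock M C) ∧
      (∀ a c, (ψ a : C → ℂ) (t * c) = (ψ a : C → ℂ) c) ∧
      (∀ a c, 4 ∣ orderOf c → (ψ a : C → ℂ) c = ε a) ∧
      (∀ c, 1 + ∑ a, (ε a : ℂ) * (ψ a : C → ℂ) c = if 4 ∣ orderOf c then 4 else 0) ∧
      (∀ χ ∈ principalBlock M C, ∀ y : C, orderOf y = 4 → (χ : C → ℂ) y ≠ 0 →
        χ = Blocks.trivIrr C ∨ ∃ a, χ = ψ a) := by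
  classical
  have := Blocks.isPrime_of_isPModular hM
  obtain ⟨y, hy⟩ := h.exists_four
  have hyinv : ∀ χ : IrrCharacter C, (χ : C → ℂ) y⁻¹ = (χ : C → ℂ) y := fun χ =>
    Blocks.IsClassFunction.eq_of_isConj (Blocks.irr_classFunction χ)
      (h.conj_four _ _ (by rw [orderOf_inv]; exact hy) hy)
  have hreal : ∀ χ : IrrCharacter C, conj ((χ : C → ℂ) y) = (χ : C → ℂ) y := fun χ => by
    rw [← Blocks.irr_value_inv χ.2, hyinv]
  have htc : t ∈ Subgroup.center C := Subgroup.mem_center_iff.mpr fun g => (h.central g).eq.symm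
  -- members not vanishing at `y` are trivial on `t`
  have hker : ∀ χ : IrrCharacter C, (χ : C → ℂ) y ≠ 0 → ∀ c, (χ : C → ℂ) (t * c) = (χ : C → ℂ) c := by
    intro χ hne
    have hd := Char.irr_degree_ne_zero χ.2
    have h1 := Char.central_mul χ.2 htc y
    rw [show y * t = y⁻¹ by rw [← (h.central y).eq, h.four_mul hy], hyinv] at h1
    have ht : (χ : C → ℂ) t = (χ : C → ℂ) 1 := (mul_left_cancel₀ hne h1).symm
    intro c
    have h2 := Char.central_mul χ.2 htc c
    rw [ht, ← (h.central c).eq] at h2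
    exact mul_right_cancel₀ hd h2
  have hint : ∀ χ : IrrCharacter C, ∃ m : ℤ, (χ : C → ℂ) y = m := by
    intro χ
    by_cases hne : (χ : C → ℂ) y = 0
    · exact ⟨0, by simp [hne]⟩
    obtain ⟨n, ρ, hρ, hχ⟩ := χ.2
    have h1 := hker χ hne 1
    rw [mul_one, ← hχ, Representation.char_one] at h1
    have ht : ρ t = 1 := (Char.character_eq_finrank_iff ρ t).mp h1
    obtain ⟨b, μ, hμ, hb⟩ := Char.exists_eigenBasis_of_pow_eq_one (ρ y) two_ne_zero
      (by rw [pow_two, ← map_mul, h.four_sq hy, ht])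
    have hμ1 : ∀ i, ∃ e : ℤ, μ i = e := fun i => by
      rcases sq_eq_one_iff.mp (hμ i) with e | e
      · exact ⟨1, by simp [e]⟩
      · exact ⟨-1, by simp [e]⟩
    choose e he using hμ1
    refine ⟨∑ i, e i, ?_⟩
    rw [← hχ]
    show LinearMap.trace ℂ _ (ρ y) = _
    rw [Char.trace_eq_sum_of_diag b _ _ hb, Int.cast_sum]
    exact Finset.sum_congr rfl fun i _ => he i
  choose m hm using hint
  -- the squares add up to four
  set B := principalBlock M C
  have hx : ∃ k : ℕ, orderOf y = 2 ^ k := ⟨2, by rw [hy]; norm_num⟩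
  obtain ⟨S⟩ := (inferInstance : Nonempty (Sylow 2 (Subgroup.centralizer ({y} : Set C))))
  have hsq : ∑ χ : IrrCharacter C with χ ∈ B, m χ * m χ = 4 := by
    have h4 := Blocks.sum_principal_norm_sq hM hx
    rw [Blocks.sum_sq_degree_principal_of_npc hM
      (hasNormalPComplement_of_cyclic S (h.cyclic_four y hy S).1) S, (h.cyclic_four y hy S).2] at h4
    simp only [hreal] at h4
    simp only [hm] at h4
    exact_mod_cast h4
  have hT : Blocks.trivIrr C ∈ B := by
    show _ ∈ principalBlock M C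
    rw [Blocks.principalBlock_eq]
    exact Blocks.mem_blockOf_self (Blocks.trivIrr C)
  have hT1 : m (Blocks.trivIrr C) = 1 := by
    have := hm (Blocks.trivIrr C)
    simp [Blocks.trivIrr] at this
    exact_mod_cast this.symm
  set S' := ((Finset.univ : Finset (IrrCharacter C)).filter fun χ =>
    χ ∈ B ∧ χ ≠ Blocks.trivIrr C ∧ m χ ≠ 0)
  have hS3 : ∑ χ ∈ S', m χ * m χ = 3 := by
    have e := Finset.add_sum_erase ((Finset.univ : Finset (IrrCharacter C)).filter (· ∈ B))
      (fun χ => m χ * m χ) (Finset.mem_filter.mpr ⟨Finset.mem_univ _, hT⟩)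
    rw [hsq, hT1] at e
    rw [← show ∑ χ ∈ ((Finset.univ : Finset (IrrCharacter C)).filter (· ∈ B)).erase
      (Blocks.trivIrr C), m χ * m χ = 3 by linarith]
    refine Finset.sum_subset (fun χ hχ => ?_) (fun χ hχ hn => ?_)
    · simp only [S', Finset.mem_filter, Finset.mem_univ, true_and] at hχ
      exact Finset.mem_erase.mpr ⟨hχ.2.1, Finset.mem_filter.mpr ⟨Finset.mem_univ _, hχ.1⟩⟩
    · simp only [Finset.mem_erase, Finset.mem_filter, Finset.mem_univ, true_and] at hχ
      have : m χ = 0 := by_contra fun h0 => hn (by simp [S', hχ.1, hχ.2, h0])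
      rw [this, mul_zero]
  have hpm : ∀ χ ∈ S', m χ = 1 ∨ m χ = -1 := by
    intro χ hχ
    have h1 : m χ * m χ ≤ 3 := hS3 ▸
      Finset.single_le_sum (f := fun χ => m χ * m χ) (fun i _ => mul_self_nonneg _) hχ
    have h0 : m χ ≠ 0 := (Finset.mem_filter.mp hχ).2.2.2
    have h2 : -2 < m χ := by nlinarith
    have h3 : m χ < 2 := by nlinarith
    omega
  have hcard : S'.card = 3 := by
    rw [Finset.sum_congr rfl (g := fun _ => (1 : ℤ)) fun χ hχ => by
      rcases hpm χ hχ with e | e <;> simp [e]] at hS3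
    simp only [Finset.sum_const, nsmul_eq_mul, mul_one] at hS3
    exact_mod_cast hS3
  set ψ : Fin 3 → IrrCharacter C := fun a => ((S'.equivFinOfCardEq hcard).symm a).1
  have hψinj : Function.Injective ψ := fun a b e =>
    (S'.equivFinOfCardEq hcard).symm.injective (Subtype.ext e)
  have hψS : ∀ a, ψ a ∈ S' := fun a => ((S'.equivFinOfCardEq hcard).symm a).2
  have hψsurj : ∀ χ ∈ S', ∃ a, χ = ψ a := fun χ hχ =>
    ⟨S'.equivFinOfCardEq hcard ⟨χ, hχ⟩, by simp [ψ]⟩
  have hψmem : ∀ a, ψ a ∈ B ∧ ψ a ≠ Blocks.trivIrr C ∧ m (ψ a) ≠ 0 := fun a =>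
    (Finset.mem_filter.mp (hψS a)).2
  have hψt : ∀ a c, (ψ a : C → ℂ) (t * c) = (ψ a : C → ℂ) c := fun a =>
    hker _ (by rw [hm]; exact Int.cast_ne_zero.mpr (hψmem a).2.2)
  have hψD : ∀ a c, 4 ∣ orderOf c → (ψ a : C → ℂ) c = (m (ψ a) : ℂ) := by
    intro a c hc
    obtain ⟨x, r, hx4, hxr, hr, rfl⟩ := h.four_split hc
    have hr' : r ∈ Subgroup.centralizer ({x} : Set C) :=
      Subgroup.mem_centralizer_singleton_iff.mpr hxr.eq.symm
    have hreg : IsPRegular 2 (⟨r, hr'⟩ : Subgroup.centralizer ({x} : Set C)) := by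
      rw [IsPRegular, ← Subgroup.orderOf_coe]; exact hr
    have hv := Blocks.value_mul_pPrimeCore hM (x := x) ⟨2, by rw [hx4]; norm_num⟩
      (hψmem a).1 (y := 1) (v := ⟨r, hr'⟩) (by simp) (by rw [one_mul]; exact hreg)
      (h.mem_core hx4 hreg)
    rw [one_mul, Subgroup.coe_one, mul_one] at hv
    rw [hv, ← hm]
    exact Blocks.IsClassFunction.eq_of_isConj (Blocks.irr_classFunction _) (h.conj_four _ _ hx4 hy)
  have hsum : ∀ F : IrrCharacter C → ℂ,
      ∑ χ : IrrCharacter C with χ ∈ B, (m χ : ℂ) * F χ =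
        F (Blocks.trivIrr C) + ∑ a, (m (ψ a) : ℂ) * F (ψ a) := by
    intro F
    rw [← Finset.add_sum_erase _ _ (Finset.mem_filter.mpr ⟨Finset.mem_univ _, hT⟩), hT1,
      Int.cast_one, one_mul]
    congr 1
    rw [← Finset.sum_subset (s₁ := S') (fun χ hχ => ?_) (fun χ hχ hn => ?_)]
    · refine (Finset.sum_bij (fun a _ => ψ a) (fun a _ => hψS a) (fun a _ b _ e => hψinj e)
        (fun χ hχ => ?_) fun a _ => rfl).symm
      obtain ⟨a, rfl⟩ := hψsurj χ hχ
      exact ⟨a, Finset.mem_univ _, rfl⟩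
    · simp only [S', Finset.mem_filter, Finset.mem_univ, true_and] at hχ
      exact Finset.mem_erase.mpr ⟨hχ.2.1, Finset.mem_filter.mpr ⟨Finset.mem_univ _, hχ.1⟩⟩
    · simp only [Finset.mem_erase, Finset.mem_filter, Finset.mem_univ, true_and] at hχ
      have : m χ = 0 := by_contra fun h0 => hn (by simp [S', hχ.1, hχ.2, h0])
      rw [this, Int.cast_zero, zero_mul]
  have hPsi : ∀ r, IsPRegular 2 r → 1 + ∑ a, (m (ψ a) : ℂ) * (ψ a : C → ℂ) r = 0 := by
    intro r hr
    have h0 := Blocks.sum_block_conj_eq_zero_of_section hM (B := B) Blocks.isPBlock_principalBlock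
      (g := r) hx fun k hk hreg hc => by
        obtain ⟨c, hc'⟩ := isConj_iff.mp hc
        apply hr
        rw [← hc', Transfer.orderOf_conj]
        exact (show (2 : ℕ) ∣ 4 by norm_num).trans (h.four_dvd_split hy hk hreg)
    have h1 := congrArg conj h0
    rw [map_zero, map_sum] at h1
    simp only [map_mul, Complex.conj_conj, hreal] at h1
    simp only [hm] at h1
    rw [hsum (fun χ => (χ : C → ℂ) r)] at h1
    simpa [Blocks.trivIrr] using h1
  refine ⟨ψ, fun a => m (ψ a), hψinj, fun a => hpm _ (hψS a), fun a => (hψmem a).2.1,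
    fun a => (hψmem a).1, hψt, hψD, fun c => ?_, fun χ hχ y' hy' hne => ?_⟩
  · by_cases h4 : 4 ∣ orderOf c
    · rw [if_pos h4, Finset.sum_congr rfl (g := fun _ => (1 : ℂ)) fun a _ => ?_]
      · norm_num
      · rw [hψD a c h4]
        rcases hpm _ (hψS a) with e | e <;> simp [e]
    · rw [if_neg h4]
      by_cases h2 : 2 ∣ orderOf c
      · have := hPsi _ (h.regular_mul h2 h4)
        simp only [hψt] at this
        exact this
      · exact hPsi c h2
  · by_cases hT' : χ = Blocks.trivIrr C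
    · exact Or.inl hT'
    · refine Or.inr (hψsurj χ (Finset.mem_filter.mpr ⟨Finset.mem_univ _, hχ, hT', fun h0 => hne ?_⟩))
      rw [Blocks.IsClassFunction.eq_of_isConj (Blocks.irr_classFunction χ) (h.conj_four _ _ hy' hy),
        hm, h0, Int.cast_zero]

end EightData

/-- The four characters of the centralizer not vanishing at elements of order four. -/
structure EightFamily (M : Ideal AlgInt) (t : C) (ψ : Fin 3 → IrrCharacter C) (ε : Fin 3 → ℤ) :
    Prop where
  inj : Function.Injective ψ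
  sign : ∀ a, ε a = 1 ∨ ε a = -1
  ne_triv : ∀ a, ψ a ≠ Blocks.trivIrr C
  mem : ∀ a, ψ a ∈ principalBlock M C
  invariant : ∀ a c, (ψ a : C → ℂ) (t * c) = (ψ a : C → ℂ) c
  value : ∀ a c, 4 ∣ orderOf c → (ψ a : C → ℂ) c = ε a
  psi : ∀ c, 1 + ∑ a, (ε a : ℂ) * (ψ a : C → ℂ) c = if 4 ∣ orderOf c then 4 else 0
  complete : ∀ χ ∈ principalBlock M C, ∀ y : C, orderOf y = 4 → (χ : C → ℂ) y ≠ 0 →
    χ = Blocks.trivIrr C ∨ ∃ a, χ = ψ a

theorem exists_eightFamily (h : EightData C t) {M : Ideal AlgInt} (hM : IsPModular 2 M) :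
    ∃ (ψ : Fin 3 → IrrCharacter C) (ε : Fin 3 → ℤ), EightFamily M t ψ ε := by
  obtain ⟨ψ, ε, h1, h2, h3, h4, h5, h6, h7, h8⟩ := h.eight_characters hM
  exact ⟨ψ, ε, ⟨h1, h2, h3, h4, h5, h6, h7, h8⟩⟩

/-- `1 + εψ`. -/
noncomputable def eightG (ψ : C → ℂ) (ε : ℤ) : C → ℂ := fun c => 1 + (ε : ℂ) * ψ c

/-- `2` at elements of order divisible by four, `2 (1 + εψ)` at the other singular elements. -/
noncomputable def eightTheta (ψ : C → ℂ) (ε : ℤ) : C → ℂ := fun c =>
  if 4 ∣ orderOf c then 2 else if 2 ∣ orderOf c then 2 * eightG ψ ε c else 0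

/-- The difference `(1 + εψ) - θ`. -/
noncomputable def eightH (ψ : C → ℂ) (ε : ℤ) : C → ℂ := fun c =>
  if 4 ∣ orderOf c then 0 else if 2 ∣ orderOf c then -eightG ψ ε c else eightG ψ ε c

/-- `1 + Σ εψ`. -/
noncomputable def eightPsi (ψ : Fin 3 → IrrCharacter C) (ε : Fin 3 → ℤ) : C → ℂ := fun c =>
  1 + ∑ a, (ε a : ℂ) * (ψ a : C → ℂ) c

theorem isClassFunction_eightTheta {ψ : C → ℂ} (hψ : IsClassFunction C ψ) (ε : ℤ) :
    IsClassFunction C (eightTheta ψ ε) := fun c b => by
  simp only [eightTheta, eightG, Transfer.orderOf_conj, hψ c b]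

/-- The characteristic function of a central subgroup, times its index, is generalized. -/
theorem isGeneralized_index_indicator {S : Type*} [Group S] [Fintype S] (T : Subgroup S)
    [DecidablePred (· ∈ T)] (hT : T ≤ Subgroup.center S) :
    IsGeneralizedCharacter S (fun s => if s ∈ T then (T.index : ℂ) else 0) := by
  have : T.Normal :=
    ⟨fun x hx g => by rw [Subgroup.mem_center_iff.mp (hT hx) g, mul_inv_cancel_right]; exact hx⟩
  have e : (fun s => if s ∈ T then (T.index : ℂ) else 0) = indFun T (fun _ => (1 : ℂ)) := by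
    funext s
    split_ifs with hs
    · rw [show indFun T (fun _ => (1 : ℂ)) s = _ from
        Char.indFun_apply_of_normal T (fun _ => (1 : ℂ)) ⟨s, hs⟩]
      simp only [Finset.sum_const, Finset.card_univ, nsmul_eq_mul, mul_one]
      rw [← Nat.card_eq_fintype_card, ← T.card_mul_index, Nat.cast_mul,
        inv_mul_cancel_left₀ (Nat.cast_ne_zero.mpr Nat.card_pos.ne')]
    · rw [Char.indFun_notMem_of_normal T _ hs]
  rw [e]
  exact Char.isGeneralized_indFun T Char.isGeneralized_one

/-- Averaging a generalized character of `S × A` over `S`. -/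
theorem isGeneralized_average {S A : Type*} [Group S] [Fintype S] [Group A] [Fintype A]
    {f : S × A → ℂ} (hf : IsGeneralizedCharacter (S × A) f) :
    IsGeneralizedCharacter A (fun r => (Nat.card S : ℂ)⁻¹ * ∑ s : S, f (s, r)) := by
  have hc := Char.isClassFunction_of_isGeneralized hf
  refine (Char.isGeneralized_iff_classInner fun r b => ?_).mpr fun μ => ?_
  · congr 1
    refine Finset.sum_congr rfl fun s _ => ?_
    have := hc (s, r) (1, b)
    simpa using this
  · obtain ⟨n, hn⟩ := Char.exists_int_classInner hf (ψ := (μ : A → ℂ) ∘ MonoidHom.snd S A)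
      (Char.isGeneralized_comp (MonoidHom.snd S A) (Char.isGeneralized_of_isIrr μ.2))
    refine ⟨n, ?_⟩
    rw [← hn]
    simp only [classInner, Function.comp_apply, MonoidHom.coe_snd, Nat.card_prod, Nat.cast_mul,
      mul_inv, Fintype.sum_prod_type, Finset.mul_sum, Finset.sum_mul]
    rw [Finset.sum_comm]
    exact Finset.sum_congr rfl fun s _ => Finset.sum_congr rfl fun r _ => by ring

/-- The two-dimensional character of a quaternion group of order 8. -/
theorem isGeneralized_pi {S : Type*} [Group S] [Fintype S] (a : S) (ha : orderOf a = 4)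
    (hidx : (Subgroup.zpowers a).index = 2)
    (hout : ∀ x ∉ Subgroup.zpowers a, x * a * x⁻¹ = a⁻¹) :
    ∃ π : S → ℂ, IsGeneralizedCharacter S π ∧ π 1 = 2 ∧ π (a * a) = -2 ∧
      ∀ s, s * s = a * a → π s = 0 := by
  classical
  set X := Subgroup.zpowers a
  have hXn : X.Normal := Subgroup.normal_of_index_eq_two hidx
  set i : ℂˣ := Units.mk0 Complex.I Complex.I_ne_zero
  set a' : X := ⟨a, Subgroup.mem_zpowers a⟩
  have hgen : ∀ x : X, x ∈ Subgroup.zpowers a' := fun x => by
    obtain ⟨k, hk⟩ := Subgroup.mem_zpowers_iff.mp x.2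
    exact ⟨k, Subtype.ext (by simpa using hk)⟩
  have hdvd : orderOf i ∣ orderOf a' := by
    rw [← Subgroup.orderOf_coe, ha]
    refine orderOf_dvd_of_pow_eq_one (Units.ext ?_)
    simp [i]
  set lam : X →* ℂˣ := monoidHomOfForallMemZpowers hgen hdvd
  have hla : (lam (a' * a') : ℂ) = -1 := by
    rw [map_mul, monoidHomOfForallMemZpowers_apply_gen hgen hdvd]
    simp [i]
  set φ : X → ℂ := fun x => (lam x : ℂ)
  refine ⟨indFun X φ, Char.isGeneralized_indFun X
    (Char.isGeneralized_of_isCharacter (Char.isCharacter_monoidHom lam)), ?_, ?_, fun s hs => ?_⟩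
  · rw [Char.indFun_one, hidx]
    simp [φ]
  · have hn : (Nat.card X : ℂ) ≠ 0 := Nat.cast_ne_zero.mpr Nat.card_pos.ne'
    rw [show indFun X φ (a * a) = _ from Char.indFun_apply_of_normal X φ (a' * a'),
      Finset.sum_congr rfl (g := fun _ => (-1 : ℂ)) fun x _ => ?_, Finset.sum_const,
      Finset.card_univ, nsmul_eq_mul, ← Nat.card_eq_fintype_card, ← X.card_mul_index, hidx,
      Nat.cast_mul]
    · rw [inv_mul_eq_iff_eq_mul₀ hn]
      push_cast
      ring
    · rw [← hla]
      show ((lam _ : ℂˣ) : ℂ) = _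
      congr 2
      refine Subtype.ext ?_
      show x * (a * a) * x⁻¹ = a * a
      by_cases hx : x ∈ X
      · obtain ⟨j, rfl⟩ := Subgroup.mem_zpowers_iff.mp hx
        rw [((Commute.refl a).mul_right (Commute.refl a)).zpow_left j |>.eq, mul_inv_cancel_right]
      · rw [show x * (a * a) * x⁻¹ = x * a * x⁻¹ * (x * a * x⁻¹) by group, hout x hx,
          ← mul_inv_rev]
        refine inv_eq_of_mul_eq_one_left ?_
        rw [← pow_two, ← pow_two, ← pow_mul]
        rw [show 2 * 2 = orderOf a by rw [ha], pow_orderOf_eq_one]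
  · by_cases hsX : s ∈ X
    swap
    · exact Char.indFun_notMem_of_normal X _ hsX
    obtain ⟨w, hw⟩ : ∃ w : S, w ∉ X := by
      by_contra hc
      push Not at hc
      rw [show X = ⊤ from eq_top_iff.mpr fun x _ => hc x, Subgroup.index_top] at hidx
      omega
    rw [show indFun X φ s = _ from Char.indFun_apply_of_normal X φ ⟨s, hsX⟩, mul_eq_zero]
    right
    set f : S → X := fun g => ⟨g * s * g⁻¹, hXn.conj_mem s hsX g⟩
    show ∑ g : S, φ (f g) = 0
    have hf : ∀ g, (f g * f g : X) = a' * a' := fun g => by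
      refine Subtype.ext ?_
      show g * s * g⁻¹ * (g * s * g⁻¹) = a * a
      rw [show g * s * g⁻¹ * (g * s * g⁻¹) = g * (s * s) * g⁻¹ by group, hs]
      by_cases hg : g ∈ X
      · obtain ⟨j, rfl⟩ := Subgroup.mem_zpowers_iff.mp hg
        rw [((Commute.refl a).mul_right (Commute.refl a)).zpow_left j |>.eq, mul_inv_cancel_right]
      · rw [show g * (a * a) * g⁻¹ = g * a * g⁻¹ * (g * a * g⁻¹) by group, hout g hg,
          ← mul_inv_rev]
        refine inv_eq_of_mul_eq_one_left ?_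
        rw [← pow_two, ← pow_two, ← pow_mul]
        rw [show 2 * 2 = orderOf a by rw [ha], pow_orderOf_eq_one]
    have hflip : ∀ g, f (w * g) = (f g)⁻¹ := fun g => by
      refine Subtype.ext ?_
      show w * g * s * (w * g)⁻¹ = (g * s * g⁻¹)⁻¹
      obtain ⟨j, hj⟩ := Subgroup.mem_zpowers_iff.mp (hXn.conj_mem s hsX g)
      rw [show w * g * s * (w * g)⁻¹ = w * (g * s * g⁻¹) * w⁻¹ by group, ← hj, ← conj_zpow,
        hout w hw, inv_zpow]
    have h2 : ∑ g : S, φ (f g) + ∑ g : S, φ (f g) = 0 := by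
      refine (congrArg₂ (· + ·) rfl (Equiv.sum_comp (Equiv.mulLeft w) _).symm).trans ?_
      refine Finset.sum_add_distrib.symm.trans (Finset.sum_eq_zero fun g _ => ?_)
      simp only [Equiv.coe_mulLeft, hflip, φ, map_inv, Units.val_inv_eq_inv_val]
      have hsq : (lam (f g) : ℂ) * lam (f g) = -1 := by
        rw [← Units.val_mul, ← map_mul, hf, hla]
      field_simp
      linear_combination hsq
    linear_combination h2 / 2

end CfsgLib.ZStar
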