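import Cfsg.Agent.Lib.ZStar.EightTheta

/-!
# Inner products and the principal column in the centralizer
-/

set_option autoImplicit false
set_option linter.unusedSectionVars false

namespace CfsgLib.ZStar

open Cfsg
open scoped ComplexConjugate CfsgLib.Char

variable {C : Type*} [Group C] [Fintype C] {t : C} {M : Ideal AlgInt}
  {ψ : Fin 3 → IrrCharacter C} {ε : Fin 3 → ℤ}

theorem eightG_eq (χ : C → ℂ) (e : ℤ) :
    eightG χ e = ((Blocks.trivIrr C : C → ℂ) + (e : ℂ) • χ) := by
  funext c
  simp [eightG, Blocks.trivIrr]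

theorem eightPsi_eq :
    eightPsi ψ ε = (Blocks.trivIrr C : C → ℂ) + ∑ a, (ε a : ℂ) • (ψ a : C → ℂ) := by
  funext c
  simp [eightPsi, Blocks.trivIrr, Finset.sum_apply]

theorem classInner_eightPsi_one (F : EightFamily M t ψ ε) :
    classInner (eightPsi ψ ε) (fun _ => (1 : ℂ)) = 1 := by
  classical
  rw [eightPsi_eq, show (fun _ : C => (1 : ℂ)) = (Blocks.trivIrr C : C → ℂ) from rfl,
    Char.classInner_add_left, Char.classInner_sum_left, Char.classInner_coe, if_pos rfl,
    Finset.sum_eq_zero fun a _ => ?_, add_zero]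
  rw [Char.classInner_smul_left, Char.classInner_coe, if_neg (F.ne_triv a), mul_zero]

theorem eightG_of_four (F : EightFamily M t ψ ε) (a : Fin 3) {c : C} (hc : 4 ∣ orderOf c) :
    eightG (ψ a : C → ℂ) (ε a) c = 2 := by
  rw [eightG, F.value a c hc]
  rcases F.sign a with e | e <;> simp [e] <;> norm_num

theorem eightTheta_eq (F : EightFamily M t ψ ε) (a : Fin 3) :
    eightTheta (ψ a : C → ℂ) (ε a) =
      eightG (ψ a : C → ℂ) (ε a) - eightH (ψ a : C → ℂ) (ε a) := by
  funext c
  simp only [eightTheta, eightH, Pi.sub_apply]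
  split_ifs with h4 h2
  · rw [eightG_of_four F a h4, sub_zero]
  · ring
  · ring

theorem eightH_mul (h : EightData C t) (F : EightFamily M t ψ ε) (a : Fin 3) (c : C) :
    eightH (ψ a : C → ℂ) (ε a) (t * c) = -eightH (ψ a : C → ℂ) (ε a) c := by
  have hG : eightG (ψ a : C → ℂ) (ε a) (t * c) = eightG (ψ a : C → ℂ) (ε a) c := by
    simp only [eightG, F.invariant a c]
  by_cases h4 : 4 ∣ orderOf c
  · simp [eightH, h4, h.four_dvd_mul h4]
  by_cases h2 : 2 ∣ orderOf c
  · have h' : ¬ 2 ∣ orderOf (t * c) := h.regular_mul h2 h4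
    have h4' : ¬ 4 ∣ orderOf (t * c) := fun hd => h4 (h.four_dvd_mul_iff.mp hd)
    simp [eightH, h4, h2, h', h4', hG]
  · obtain ⟨h', h4'⟩ := h.regular_mul_not (r := c) h2
    simp [eightH, h4, h2, h', h4', hG]

theorem classInner_eq_zero_of_antisymm {f g : C → ℂ} (z : C) (hf : ∀ c, f (z * c) = f c)
    (hg : ∀ c, g (z * c) = -g c) : classInner f g = 0 ∧ classInner g f = 0 := by
  have key : ∑ c, f c * conj (g c) = 0 := by
    have e := Equiv.sum_comp (Equiv.mulLeft z) (fun c => f c * conj (g c))
    simp only [Equiv.coe_mulLeft, hf, hg, map_neg, mul_neg, Finset.sum_neg_distrib] at e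
    linear_combination -e / 2
  have h1 : classInner f g = 0 := by simp [classInner, key]
  exact ⟨h1, by rw [← Char.classInner_conj_symm, h1, map_zero]⟩

theorem classInner_eightG (F : EightFamily M t ψ ε) (a b : Fin 3) :
    classInner (eightG (ψ a : C → ℂ) (ε a)) (eightG (ψ b : C → ℂ) (ε b)) =
      1 + if a = b then 1 else 0 := by
  classical
  rw [eightG_eq, eightG_eq]
  simp only [Char.classInner_add_left, Char.classInner_add_right, Char.classInner_smul_left,
    Char.classInner_smul_right, Char.classInner_coe, F.ne_triv, (fun c => (F.ne_triv c).symm),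
    F.inj.eq_iff, if_false, if_true, mul_zero, add_zero, zero_add, map_intCast]
  by_cases hab : a = b
  · subst hab
    rcases F.sign a with e | e <;> simp [e]
  · simp [hab]

theorem classInner_eightH (h : EightData C t) (F : EightFamily M t ψ ε) (a b : Fin 3) :
    classInner (eightH (ψ a : C → ℂ) (ε a)) (eightH (ψ b : C → ℂ) (ε b)) =
      if a = b then 1 else 0 := by
  have e : ∀ c, eightH (ψ a : C → ℂ) (ε a) c * conj (eightH (ψ b : C → ℂ) (ε b) c) =
      eightG (ψ a : C → ℂ) (ε a) c * conj (eightG (ψ b : C → ℂ) (ε b) c) -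
        eightPsi ψ ε c * conj (1 : ℂ) := by
    intro c
    rw [show eightPsi ψ ε c = _ from F.psi c]
    simp only [eightH]
    split_ifs with h4 h2
    · rw [eightG_of_four F a h4, eightG_of_four F b h4]
      simp [map_ofNat]; norm_num
    · simp
    · simp
  have h1 := classInner_eightG F a b
  have h2 := classInner_eightPsi_one F
  simp only [classInner] at h1 h2 ⊢
  rw [Finset.sum_congr rfl fun c _ => e c, Finset.sum_sub_distrib, mul_sub, h1, h2]
  ring

theorem classInner_eightH_one (h : EightData C t) (F : EightFamily M t ψ ε) (a : Fin 3) :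
    classInner (eightH (ψ a : C → ℂ) (ε a)) (fun _ => (1 : ℂ)) = 0 :=
  (classInner_eq_zero_of_antisymm t (f := fun _ => (1 : ℂ)) (fun _ => rfl) (eightH_mul h F a)).2

theorem classInner_eightTheta_one (h : EightData C t) (F : EightFamily M t ψ ε) (a : Fin 3) :
    classInner (eightTheta (ψ a : C → ℂ) (ε a)) (fun _ => (1 : ℂ)) = 1 := by
  classical
  rw [eightTheta_eq F, Char.classInner_sub_left, classInner_eightH_one h F, sub_zero, eightG_eq,
    show (fun _ : C => (1 : ℂ)) = (Blocks.trivIrr C : C → ℂ) from rfl,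
    Char.classInner_add_left, Char.classInner_smul_left, Char.classInner_coe, Char.classInner_coe,
    if_pos rfl, if_neg (F.ne_triv a), mul_zero, add_zero]

theorem classInner_eightTheta (h : EightData C t) (F : EightFamily M t ψ ε) (a b : Fin 3) :
    classInner (eightTheta (ψ a : C → ℂ) (ε a)) (eightTheta (ψ b : C → ℂ) (ε b)) =
      1 + 2 * if a = b then 1 else 0 := by
  have hG : ∀ a c, eightG (ψ a : C → ℂ) (ε a) (t * c) = eightG (ψ a : C → ℂ) (ε a) c :=
    fun a c => by simp only [eightG, F.invariant a c]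
  rw [eightTheta_eq F, eightTheta_eq F, Char.classInner_sub_left, Char.classInner_sub_right,
    Char.classInner_sub_right, classInner_eightG F, classInner_eightH h F,
    (classInner_eq_zero_of_antisymm t (hG a) (eightH_mul h F b)).1,
    (classInner_eq_zero_of_antisymm t (hG b) (eightH_mul h F a)).2]
  ring

theorem classInner_eightPsi_self (F : EightFamily M t ψ ε) :
    classInner (eightPsi ψ ε) (eightPsi ψ ε) = 4 := by
  have h2 := classInner_eightPsi_one F
  simp only [classInner] at h2 ⊢
  rw [Finset.sum_congr rfl (g := fun c => 4 * (eightPsi ψ ε c * conj (1 : ℂ))) fun c _ => ?_,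
    ← Finset.mul_sum, mul_left_comm, h2, mul_one]
  rw [show eightPsi ψ ε c = _ from F.psi c]
  split_ifs <;> simp [map_ofNat]

theorem classInner_eightPsi_theta (F : EightFamily M t ψ ε) (a : Fin 3) :
    classInner (eightPsi ψ ε) (eightTheta (ψ a : C → ℂ) (ε a)) = 2 := by
  have h2 := classInner_eightPsi_one F
  simp only [classInner] at h2 ⊢
  rw [Finset.sum_congr rfl (g := fun c => 2 * (eightPsi ψ ε c * conj (1 : ℂ))) fun c _ => ?_,
    ← Finset.mul_sum, mul_left_comm, h2, mul_one]
  rw [show eightPsi ψ ε c = _ from F.psi c]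
  simp only [eightTheta]
  split_ifs <;> simp [map_ofNat]; norm_num

/-- Members of the principal block trivial on `t` do not vanish at elements of order four. -/
theorem value_ne_zero_of_trivial (h : EightData C t) (hM : IsPModular 2 M) {χ : IrrCharacter C}
    (hχ : χ ∈ principalBlock M C) (hχt : (χ : C → ℂ) t = (χ : C → ℂ) 1) {y : C}
    (hy : orderOf y = 4) : (χ : C → ℂ) y ≠ 0 := by
  classical
  have := Blocks.isPrime_of_isPModular hM
  intro h0
  set N := Subgroup.zpowers t
  have : N.Normal := ⟨fun x hx g => by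
    obtain ⟨k, rfl⟩ := hx
    show g * t ^ k * g⁻¹ ∈ N
    rw [← ((h.central g).zpow_left k).eq, mul_inv_cancel_right]
    exact ⟨k, rfl⟩⟩
  have : Fintype (C ⧸ N) := Fintype.ofFinite _
  set f := QuotientGroup.mk' N
  have hf : Function.Surjective f := QuotientGroup.mk'_surjective _
  have hker : f.ker = N := QuotientGroup.ker_mk' _
  obtain ⟨η, rfl⟩ := Blocks.exists_inflate_eq_of_ker N χ fun u hu => by
    obtain ⟨k, rfl⟩ := hu
    rcases Int.even_or_odd' k with ⟨i, rfl | rfl⟩ <;> simp only
    · rw [zpow_mul, zpow_two, h.mul_self, one_zpow]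
    · rw [zpow_add_one, zpow_mul, zpow_two, h.mul_self, one_zpow, one_mul, hχt]
  have hη := Blocks.mem_principalBlock_of_inflate_central hM f hf
    (by rw [hker]; exact IsPGroup.of_card (n := 1) (by rw [Nat.card_zpowers, h.order_two, pow_one]))
    (fun k hk g => by
      rw [hker] at hk
      obtain ⟨i, rfl⟩ := hk
      exact (h.central g).zpow_left i) hχ
  obtain ⟨P, hP⟩ := (Transfer.isPGroup_zpowers (p := 2) (x := y) ⟨2, by rw [hy]; norm_num⟩).exists_le_sylow
  have hyP : y ∈ (P : Subgroup C) := hP (Subgroup.mem_zpowers y)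
  have hidx : (Subgroup.zpowers (⟨y, hyP⟩ : P)).index = 2 := by
    have e := (Subgroup.zpowers (⟨y, hyP⟩ : P)).card_mul_index
    rw [Nat.card_zpowers, ← Subgroup.orderOf_coe, hy] at e
    have h8 := e.trans (h.sylow_card P)
    omega
  have hle : (P : Subgroup C).map f ≤ Subgroup.centralizer ({f y} : Set (C ⧸ N)) := by
    rintro _ ⟨x, hx, rfl⟩
    rw [Subgroup.mem_centralizer_singleton_iff]
    have hn := (Subgroup.normal_of_index_eq_two hidx).conj_mem _ (Subgroup.mem_zpowers _) ⟨x, hx⟩
    obtain ⟨k, hk⟩ := Subgroup.mem_zpowers_iff.mp hn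
    have hk' : y ^ k = x * y * x⁻¹ := by simpa using congrArg Subtype.val hk
    have ht : f t = 1 := MonoidHom.mem_ker.mp (by rw [hker]; exact Subgroup.mem_zpowers t)
    have hy2 : f y * f y = 1 := by rw [← map_mul, h.four_sq hy, ht]
    have hy2' : (f y) ^ (2 : ℤ) = 1 := by rw [zpow_two, hy2]
    rcases Int.even_or_odd' k with ⟨i, rfl | rfl⟩
    · exfalso
      have h2 : (x * y * x⁻¹) * (x * y * x⁻¹) = 1 := by
        rw [← hk', ← zpow_add, show 2 * i + 2 * i = (4 : ℕ) * i by push_cast; ring, zpow_mul,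
          zpow_natCast, ← hy, pow_orderOf_eq_one, one_zpow]
      have := orderOf_dvd_of_pow_eq_one ((pow_two _).trans h2)
      rw [Transfer.orderOf_conj, hy] at this
      omega
    · have e : f (x * y * x⁻¹) = f y := by
        rw [← hk', map_zpow, zpow_add_one, zpow_mul, hy2', one_zpow, one_mul]
      rw [map_mul, map_mul, map_inv] at e
      exact mul_inv_eq_iff_eq_mul.mp e
  have hodd : ¬ 2 ∣ (Subgroup.centralizer ({f y} : Set (C ⧸ N))).index := fun hd =>
    P.not_dvd_index (hd.trans ((Subgroup.index_dvd_of_le hle).trans (Subgroup.index_map_dvd _ hf)))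
  apply hodd
  have hd := Blocks.sub_mem_localIdeal_of_sameBlock (χ := Blocks.trivIrr (C ⧸ N)) (ψ := η) hη
    (Blocks.isClassFunction_classInd (f y)) (fun g => Blocks.memLocalRing_classInd (f y) g)
  rw [Blocks.omega_classInd, Blocks.omega_classInd,
    show centralChar (Blocks.trivIrr (C ⧸ N) : C ⧸ N → ℂ) (f y) = _ from
      Blocks.centralChar_one_fun (f y),
    show centralChar (η : C ⧸ N → ℂ) (f y) = 0 by
      simp [centralChar, show (η : C ⧸ N → ℂ) (f y) = 0 from h0], sub_zero,
    Blocks.memLocalIdeal_natCast_iff hM] at hd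
  exact hd

/-- The sum of the squared degrees in the principal block of the centralizer. -/
theorem sum_sq_degree_principal (h : EightData C t) (hM : IsPModular 2 M)
    (F : EightFamily M t ψ ε) [DecidablePred (· ∈ principalBlock M C)] :
    ∑ χ : IrrCharacter C with χ ∈ principalBlock M C, (χ : C → ℂ) 1 * (χ : C → ℂ) 1 =
      2 * (1 + ∑ a, (ψ a : C → ℂ) 1 * (ψ a : C → ℂ) 1) := by
  classical
  have := Blocks.isPrime_of_isPModular hM
  obtain ⟨y, hy⟩ := h.exists_four
  have ht2 : t⁻¹ = t := Invol.inv_of_orderOf_two h.order_two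
  have horth := Blocks.sum_block_conj_eq_zero_of_section hM
    (B := principalBlock M C) Blocks.isPBlock_principalBlock (x := t) (g := 1)
    ⟨1, by rw [h.order_two, pow_one]⟩ fun k hk hreg hc =>
      Invol.ne_one_of_orderOf_two h.order_two (isConj_one_left.mp
        (Blocks.conj_eq_of_isConj_mul Nat.prime_two ⟨1, by rw [h.order_two, pow_one]⟩
          ⟨0, by simp⟩ hk hreg hc))
  have hd : ∀ χ : IrrCharacter C, conj ((χ : C → ℂ) 1) = (χ : C → ℂ) 1 := fun χ => by
    rw [(Blocks.irr_degree_eq χ).1, Complex.conj_natCast]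
  simp only [hd] at horth
  have hpm : ∀ χ : IrrCharacter C, (χ : C → ℂ) t = (χ : C → ℂ) 1 ∨
      (χ : C → ℂ) t = -(χ : C → ℂ) 1 := fun χ => by
    have h1 := Char.central_mul χ.2 (Subgroup.mem_center_iff.mpr fun g => (h.central g).eq.symm) t
    rw [h.mul_self] at h1
    exact sq_eq_sq_iff_eq_or_eq_neg.mp (by rw [sq, sq, h1])
  have key : ∑ χ : IrrCharacter C with χ ∈ principalBlock M C, (χ : C → ℂ) 1 * (χ : C → ℂ) 1 =
      2 * ∑ χ ∈ ((Finset.univ : Finset (IrrCharacter C)).filter (· ∈ principalBlock M C)).filter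
        (fun χ : IrrCharacter C => (χ : C → ℂ) t = (χ : C → ℂ) 1), (χ : C → ℂ) 1 * (χ : C → ℂ) 1 := by
    rw [Finset.sum_filter (s := (Finset.univ : Finset (IrrCharacter C)).filter _), Finset.mul_sum,
      ← sub_eq_zero, ← Finset.sum_sub_distrib, ← neg_eq_zero, ← Finset.sum_neg_distrib]
    refine Eq.trans (Finset.sum_congr rfl fun χ _ => ?_) horth
    split_ifs with hc
    · rw [hc]; ring
    · rw [(hpm χ).resolve_left hc]; ring
  rw [key]
  congr 1
  have hT : Blocks.trivIrr C ∈ principalBlock M C := by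
    rw [Blocks.principalBlock_eq]
    exact Blocks.mem_blockOf_self (Blocks.trivIrr C)
  have hset : ((Finset.univ : Finset (IrrCharacter C)).filter (· ∈ principalBlock M C)).filter
      (fun χ : IrrCharacter C => (χ : C → ℂ) t = (χ : C → ℂ) 1) =
      insert (Blocks.trivIrr C) (Finset.univ.image ψ) := by
    ext χ
    simp only [Finset.mem_filter, Finset.mem_univ, true_and, Finset.mem_insert, Finset.mem_image]
    constructor
    · rintro ⟨hχ, hχt⟩
      rcases F.complete χ hχ y hy (value_ne_zero_of_trivial h hM hχ hχt hy) with e | ⟨a, e⟩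
      · exact Or.inl e
      · exact Or.inr ⟨a, e.symm⟩
    · rintro (rfl | ⟨a, rfl⟩)
      · exact ⟨hT, rfl⟩
      · refine ⟨F.mem a, ?_⟩
        have := F.invariant a 1
        rwa [mul_one] at this
  rw [hset, Finset.sum_insert (by simpa using fun a => F.ne_triv a),
    Finset.sum_image fun a _ b _ e => F.inj e]
  simp [Blocks.trivIrr]

end CfsgLib.ZStar
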