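import Cfsg.Agent.Lib.ZStar.EightInner
import Cfsg.Agent.Lib.Transfer.Frobenius

/-!
# The centralizer data of a quaternion Sylow 2-subgroup of order 8
-/

set_option autoImplicit false
set_option linter.unusedSectionVars false

namespace CfsgLib.ZStar

open Cfsg

variable {G : Type*} [Group G] [Fintype G]

theorem exists_normalizer_conj_four (P : Sylow 2 G) {t : G} (ht : orderOf t = 2) (htP : t ∈ P)
    (huniqP : ∀ x : P, orderOf x = 2 → (x : G) = t) {a : P} (hidx : (Subgroup.zpowers a).index = 2)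
    (ha : orderOf a = 4) (hmax : ∀ x : P, x ^ 2 ^ 2 = 1)
    (hNPC : ¬ HasNormalPComplement 2 G) (x y : P) (hx : orderOf x = 4) (hy : orderOf y = 4) :
    ∃ c ∈ Subgroup.normalizer ((P : Subgroup G) : Set G), Commute t c ∧ c * x * c⁻¹ = y := by
  classical
  have huniq : ∀ x y : P, orderOf x = 2 → orderOf y = 2 → x = y := fun x y hx hy =>
    Subtype.ext ((huniqP x hx).trans (huniqP y hy).symm)
  have hP8 : Nat.card (P : Subgroup G) = 8 := by
    have h := (Subgroup.zpowers a).card_mul_index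
    rw [Nat.card_zpowers, ha, hidx] at h
    exact h.symm
  -- some element of odd order normalizes `P` without centralizing it
  obtain ⟨g, hgN, hgodd, q, hgq⟩ : ∃ g ∈ Subgroup.normalizer ((P : Subgroup G) : Set G),
      Odd (orderOf g) ∧ ∃ q : P, g * (q : G) * g⁻¹ ≠ q := by
    by_contra hc
    push Not at hc
    refine hNPC (Transfer.hasNormalPComplement_of_pAutomizers
      (Transfer.pAutomizers_of_sylow P fun Q hQP g hg hgc => ?_))
    have hgodd : Odd (orderOf g) := Nat.coprime_two_right.mp hgc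
    rw [Subgroup.mem_centralizer_iff]
    intro q hq
    by_cases hQ : Nat.card Q = 8
    · have hQe : Q = (P : Subgroup G) :=
        Subgroup.eq_of_le_of_card_ge hQP (le_of_eq (hP8.trans hQ.symm))
      subst hQe
      exact (mul_inv_eq_iff_eq_mul.mp (hc g hg hgodd ⟨q, hq⟩)).symm
    have hgq : g * q * g⁻¹ ∈ Q := (Subgroup.mem_normalizer_iff.mp hg q).mp hq
    obtain ⟨k, hk⟩ := IsPGroup.iff_orderOf.mp P.2 ⟨q, hQP hq⟩
    have hk' : orderOf q = 2 ^ k := (Subgroup.orderOf_coe _).trans hk
    have hkle : k ≤ 2 := by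
      have := orderOf_dvd_of_pow_eq_one (hmax ⟨q, hQP hq⟩)
      rw [hk] at this
      exact (Nat.pow_dvd_pow_iff_le_right (by norm_num)).mp this
    rcases k with _ | _ | _ | k
    · rw [orderOf_eq_one_iff.mp (by simpa using hk' : orderOf q = 1), one_mul, mul_one]
    · have h1 := huniqP ⟨q, hQP hq⟩ (by rw [hk]; norm_num)
      have h2 := huniqP ⟨g * q * g⁻¹, hQP hgq⟩
        (by rw [← Subgroup.orderOf_coe]; exact (Transfer.orderOf_conj g q).trans (by simpa using hk'))
      exact (mul_inv_eq_iff_eq_mul.mp (h2.trans h1.symm : g * q * g⁻¹ = q)).symm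
    · have hq4 : orderOf q = 4 := by simpa using hk'
      -- `Q` is cyclic of order four
      have hQz : Subgroup.zpowers q = Q := by
        refine Subgroup.eq_of_le_of_card_ge (Subgroup.zpowers_le.mpr hq) ?_
        rw [Nat.card_zpowers, hq4]
        have hd : Nat.card Q ∣ 2 ^ 3 :=
          (Subgroup.card_dvd_of_le hQP).trans (hP8.trans (by norm_num)).dvd
        obtain ⟨j, hj, hjc⟩ := (Nat.dvd_prime_pow Nat.prime_two).mp hd
        rw [hjc] at hQ ⊢
        have : j ≠ 3 := fun h => hQ (by rw [h]; norm_num)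
        exact (Nat.pow_le_pow_right two_pos (show j ≤ 2 by omega)).trans_eq (by norm_num)
      have hz := mem_zpowers_of_orderOf_eq (Subgroup.mem_zpowers q) (hQz.symm ▸ hgq)
        (Transfer.orderOf_conj g q)
      obtain ⟨i, hi⟩ := Subgroup.mem_zpowers_iff.mp hz
      have h4 : q ^ (4 : ℤ) = 1 := by
        rw [show (4 : ℤ) = ((4 : ℕ) : ℤ) by norm_num, zpow_natCast, ← hq4, pow_orderOf_eq_one]
      rcases Int.even_or_odd' i with ⟨j, rfl | rfl⟩
      · exfalso
        have h2 : (g * q * g⁻¹) * (g * q * g⁻¹) = 1 := by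
          rw [← hi, ← zpow_add, show 2 * j + 2 * j = 4 * j by ring, zpow_mul, h4, one_zpow]
        have := orderOf_dvd_of_pow_eq_one ((pow_two _).trans h2)
        rw [Transfer.orderOf_conj, hq4] at this
        omega
      rcases Int.even_or_odd' j with ⟨l, rfl | rfl⟩
      · rw [zpow_add_one, show 2 * (2 * l) = 4 * l by ring, zpow_mul, h4, one_zpow, one_mul] at hi
        exact (mul_inv_eq_iff_eq_mul.mp hi.symm).symm
      · exfalso
        rw [show 2 * (2 * l + 1) + 1 = 4 * (l + 1) + (-1) by ring, zpow_add, zpow_mul, h4, one_zpow,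
          one_mul, zpow_neg_one] at hi
        have := orderOf_dvd_of_pow_eq_one
          ((pow_two q).trans (Invol.sq_eq_one_of_odd_inverts hgodd hi.symm))
        rw [hq4] at this
        omega
    · omega
  have hgt : Commute t g := by
    have h1 : g * t * g⁻¹ ∈ P := (Subgroup.mem_normalizer_iff.mp hgN t).mp htP
    have h2 := huniqP ⟨_, h1⟩ (by rw [← Subgroup.orderOf_coe]; exact (Transfer.orderOf_conj g t).trans ht)
    exact (mul_inv_eq_iff_eq_mul.mp h2).symm
  have hPt : ∀ p : P, Commute t (p : G) := fun p => by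
    have h1 : (p : G) * t * (p : G)⁻¹ ∈ P := mul_mem (mul_mem p.2 htP) (inv_mem p.2)
    have h2 := huniqP ⟨_, h1⟩
      (by rw [← Subgroup.orderOf_coe]; exact (Transfer.orderOf_conj _ t).trans ht)
    exact (mul_inv_eq_iff_eq_mul.mp h2).symm
  -- `q` has order four
  have hq4 : orderOf q = 4 := by
    obtain ⟨k, hk⟩ := IsPGroup.iff_orderOf.mp P.2 q
    have hkle : k ≤ 2 := by
      have := orderOf_dvd_of_pow_eq_one (hmax q)
      rw [hk] at this
      exact (Nat.pow_dvd_pow_iff_le_right (by norm_num)).mp this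
    rcases k with _ | _ | _ | k
    · exact absurd (by simp [orderOf_eq_one_iff.mp (by simpa using hk : orderOf q = 1)]) hgq
    · exact absurd (by rw [huniqP q (by simpa using hk), hgt.eq.symm, mul_inv_cancel_right]) hgq
    · simpa using hk
    · omega
  have hz4 : ∀ z : P, orderOf z = 4 → (Subgroup.zpowers z).index = 2 := fun z hz => by
    have h8 := (Subgroup.zpowers z).card_mul_index
    rw [Nat.card_zpowers, hz] at h8
    have := h8.trans hP8
    omega
  have hflip : ∀ z : P, orderOf z = 4 → ∃ w : P, w * z * w⁻¹ = z⁻¹ := fun z hz => by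
    have hn := Subgroup.normal_of_index_eq_two (hz4 z hz)
    by_contra hc
    push Not at hc
    obtain ⟨w, hw⟩ : ∃ w : P, w ∉ Subgroup.zpowers z := by
      by_contra hc'
      push Not at hc'
      have := hz4 z hz
      rw [show Subgroup.zpowers z = ⊤ from eq_top_iff.mpr fun x _ => hc' x, Subgroup.index_top] at this
      omega
    refine hw (mem_zpowers_of_commute P.2 huniq (n := 2) (by norm_num) (by rw [hz]; norm_num) hmax
      (mul_inv_eq_iff_eq_mul.mp ?_))
    obtain ⟨i, hi⟩ := Subgroup.mem_zpowers_iff.mp (hn.conj_mem z (Subgroup.mem_zpowers z) w)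
    have h4 : z ^ (4 : ℤ) = 1 := by
      rw [show (4 : ℤ) = ((4 : ℕ) : ℤ) by norm_num, zpow_natCast, ← hz, pow_orderOf_eq_one]
    rcases Int.even_or_odd' i with ⟨j, rfl | rfl⟩
    · exfalso
      have h2 : (w * z * w⁻¹) * (w * z * w⁻¹) = 1 := by
        rw [← hi, ← zpow_add, show 2 * j + 2 * j = 4 * j by ring, zpow_mul, h4, one_zpow]
      have := orderOf_dvd_of_pow_eq_one ((pow_two _).trans h2)
      rw [Transfer.orderOf_conj, hz] at this
      omega
    rcases Int.even_or_odd' j with ⟨l, rfl | rfl⟩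
    · rw [zpow_add_one, show 2 * (2 * l) = 4 * l by ring, zpow_mul, h4, one_zpow, one_mul] at hi
      exact hi.symm
    · rw [show 2 * (2 * l + 1) + 1 = 4 * (l + 1) + (-1) by ring, zpow_add, zpow_mul, h4, one_zpow,
        one_mul, zpow_neg_one] at hi
      exact absurd hi.symm (hc w)
  -- elements related to `q`
  let R : P → Prop := fun z =>
    ∃ c ∈ Subgroup.normalizer ((P : Subgroup G) : Set G), Commute t c ∧ c * (q : G) * c⁻¹ = z
  have hRq : R q := ⟨1, one_mem _, Commute.one_right t, by simp⟩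
  have hRg : ∀ z, R z → R ⟨g * (z : G) * g⁻¹, (Subgroup.mem_normalizer_iff.mp hgN z).mp z.2⟩ := by
    rintro z ⟨c, hcN, hc, hcz⟩
    exact ⟨g * c, mul_mem hgN hcN, hgt.mul_right hc, by show _ = g * (z : G) * g⁻¹; rw [← hcz]; group⟩
  have hRinv : ∀ z, R z → R z⁻¹ := by
    rintro z ⟨c, hcN, hc, hcz⟩
    have hz : orderOf z = 4 := by
      rw [← Subgroup.orderOf_coe, ← hcz, Transfer.orderOf_conj, Subgroup.orderOf_coe, hq4]
    obtain ⟨w, hw⟩ := hflip z hz
    refine ⟨(w : G) * c, mul_mem (Subgroup.le_normalizer w.2) hcN, (hPt w).mul_right hc, ?_⟩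
    rw [← hw, Subgroup.coe_mul, Subgroup.coe_mul, Subgroup.coe_inv, ← hcz]
    group
  set q1 : P := ⟨g * (q : G) * g⁻¹, (Subgroup.mem_normalizer_iff.mp hgN q).mp q.2⟩ with hq1
  set q2 : P := ⟨g * (q1 : G) * g⁻¹, (Subgroup.mem_normalizer_iff.mp hgN q1).mp q1.2⟩ with hq2
  have ho1 : orderOf q1 = 4 := by
    rw [← Subgroup.orderOf_coe]
    exact (Transfer.orderOf_conj g _).trans ((Subgroup.orderOf_coe q).trans hq4)
  have ho2 : orderOf q2 = 4 := by
    rw [← Subgroup.orderOf_coe]
    exact (Transfer.orderOf_conj g _).trans ((Subgroup.orderOf_coe q1).trans ho1)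
  have hzcases : ∀ z v : P, orderOf z = 4 → orderOf v = 4 → v ∈ Subgroup.zpowers z →
      v = z ∨ v = z⁻¹ := fun z v hz hv hm => by
    obtain ⟨i, rfl⟩ := Subgroup.mem_zpowers_iff.mp hm
    have h4 : z ^ (4 : ℤ) = 1 := by
      rw [show (4 : ℤ) = ((4 : ℕ) : ℤ) by norm_num, zpow_natCast, ← hz, pow_orderOf_eq_one]
    rcases Int.even_or_odd' i with ⟨j, rfl | rfl⟩
    · exfalso
      have h2 : z ^ (2 * j) * z ^ (2 * j) = 1 := by
        rw [← zpow_add, show 2 * j + 2 * j = 4 * j by ring, zpow_mul, h4, one_zpow]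
      have := orderOf_dvd_of_pow_eq_one ((pow_two _).trans h2)
      rw [hv] at this
      omega
    rcases Int.even_or_odd' j with ⟨l, rfl | rfl⟩
    · left; rw [zpow_add_one, show 2 * (2 * l) = 4 * l by ring, zpow_mul, h4, one_zpow, one_mul]
    · right
      rw [show 2 * (2 * l + 1) + 1 = 4 * (l + 1) + (-1) by ring, zpow_add, zpow_mul, h4, one_zpow,
        one_mul, zpow_neg_one]
  have h2odd : Odd (orderOf (g * g)) := hgodd.of_dvd_nat (by rw [← pow_two]; exact orderOf_pow_dvd 2)
  have hq1n : q1 ∉ Subgroup.zpowers q := fun hm => by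
    rcases hzcases q q1 hq4 ho1 hm with e | e
    · exact hgq (congrArg Subtype.val e)
    · have := orderOf_dvd_of_pow_eq_one ((pow_two (q : G)).trans
        (Invol.sq_eq_one_of_odd_inverts hgodd (congrArg Subtype.val e)))
      rw [Subgroup.orderOf_coe, hq4] at this
      omega
  have hq2n : q2 ∉ Subgroup.zpowers q := fun hm => by
    have e2 : g * g * (q : G) * (g * g)⁻¹ = (q2 : G) := by
      show _ = g * (g * (q : G) * g⁻¹) * g⁻¹
      group
    rcases hzcases q q2 hq4 ho2 hm with e | e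
    · have hc : Commute (g * g) (q : G) := mul_inv_eq_iff_eq_mul.mp (e2.trans (congrArg Subtype.val e))
      have hcop : Nat.Coprime 2 (orderOf g) := Nat.coprime_two_left.mpr hgodd
      obtain ⟨m, hm'⟩ := exists_pow_eq_self_of_coprime (x := g) hcop
      have hcg : Commute g (q : G) := by
        rw [← hm', pow_two]
        exact hc.pow_left m
      exact hgq (by rw [hcg.eq, mul_inv_cancel_right])
    · have := orderOf_dvd_of_pow_eq_one ((pow_two (q : G)).trans
        (Invol.sq_eq_one_of_odd_inverts h2odd (e2.trans (congrArg Subtype.val e))))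
      rw [Subgroup.orderOf_coe, hq4] at this
      omega
  have hq21 : q2 ∉ Subgroup.zpowers q1 := fun hm => by
    rcases hzcases q1 q2 ho1 ho2 hm with e | e
    · exact hgq (mul_left_cancel (a := g) (mul_right_cancel (b := g⁻¹) (congrArg Subtype.val e)))
    · have := orderOf_dvd_of_pow_eq_one ((pow_two (q1 : G)).trans
        (Invol.sq_eq_one_of_odd_inverts hgodd (congrArg Subtype.val e)))
      rw [Subgroup.orderOf_coe, ho1] at this
      omega
  have hall : ∀ z : P, orderOf z = 4 → R z := by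
    intro z hz
    by_cases h1 : z ∈ Subgroup.zpowers q
    · rcases hzcases q z hq4 hz h1 with e | e
      · exact e ▸ hRq
      · exact e ▸ hRinv q hRq
    by_cases h2 : z ∈ Subgroup.zpowers q1
    · rcases hzcases q1 z ho1 hz h2 with e | e
      · exact e ▸ hRg q hRq
      · exact e ▸ hRinv q1 (hRg q hRq)
    by_cases h3 : z ∈ Subgroup.zpowers q2
    · rcases hzcases q2 z ho2 hz h3 with e | e
      · exact e ▸ hRg q1 (hRg q hRq)
      · exact e ▸ hRinv q2 (hRg q1 (hRg q hRq))
    exfalso
    -- `q1⁻¹ z` and `q1⁻¹ q2` lie in `⟨q⟩` but not in `⟨t⟩`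
    have hz' : q1⁻¹ * z ∈ Subgroup.zpowers q := by
      rw [Subgroup.mul_mem_iff_of_index_two (hz4 q hq4), Subgroup.inv_mem_iff]
      exact iff_of_false hq1n h1
    have hq2' : q1⁻¹ * q2 ∈ Subgroup.zpowers q := by
      rw [Subgroup.mul_mem_iff_of_index_two (hz4 q hq4), Subgroup.inv_mem_iff]
      exact iff_of_false hq1n hq2n
    have hord : ∀ v : P, orderOf v = 4 → v ∉ Subgroup.zpowers q1 → q1⁻¹ * v ∈ Subgroup.zpowers q →
        orderOf (q1⁻¹ * v) = 4 := by
      intro v _ hvn hv
      obtain ⟨k, hk⟩ := IsPGroup.iff_orderOf.mp P.2 (q1⁻¹ * v)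
      have hkle : k ≤ 2 := by
        have := orderOf_dvd_of_pow_eq_one (hmax (q1⁻¹ * v))
        rw [hk] at this
        exact (Nat.pow_dvd_pow_iff_le_right (by norm_num)).mp this
      rcases k with _ | _ | _ | k
      · exfalso
        rw [pow_zero, orderOf_eq_one_iff, inv_mul_eq_one] at hk
        exact hvn (hk ▸ Subgroup.mem_zpowers q1)
      · exfalso
        have he := huniq (q1⁻¹ * v) (q1 ^ 2) (by simpa using hk)
          (by rw [orderOf_pow_of_dvd two_ne_zero (by rw [ho1]; norm_num), ho1])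
        exact hvn (by
          rw [inv_mul_eq_iff_eq_mul.mp he]
          exact mul_mem (Subgroup.mem_zpowers q1) (pow_mem (Subgroup.mem_zpowers q1) 2))
      · simpa using hk
      · omega
    have hoz := hord z hz h2 hz'
    have ho' := hord q2 ho2 hq21 hq2'
    rcases hzcases (q1⁻¹ * q2) (q1⁻¹ * z) ho' hoz
      (mem_zpowers_of_orderOf_eq hq2' hz' (hoz.trans ho'.symm)) with e | e
    · exact h3 (mul_left_cancel e ▸ Subgroup.mem_zpowers q2)
    · apply h3
      have hsq : ∀ v : P, orderOf v = 4 → v * v = a * a := fun v hv => huniq _ _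
        (by rw [← pow_two, orderOf_pow_of_dvd two_ne_zero (by rw [hv]; norm_num), hv])
        (by rw [← pow_two, orderOf_pow_of_dvd two_ne_zero (by rw [ha]; norm_num), ha])
      have e1 : q1⁻¹ * z = (q1⁻¹ * q2) * ((q1⁻¹ * q2) * (q1⁻¹ * q2)) := by
        rw [e]
        refine inv_eq_of_mul_eq_one_left ?_
        rw [← pow_two, ← pow_succ', ← pow_succ]
        exact (show orderOf (q1⁻¹ * q2) = 2 + 1 + 1 by rw [ho']) ▸ pow_orderOf_eq_one _
      rw [hsq _ ho', ← hsq _ ho2, mul_assoc] at e1
      rw [mul_left_cancel e1]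
      exact mul_mem (Subgroup.mem_zpowers q2) (mul_mem (Subgroup.mem_zpowers q2) (Subgroup.mem_zpowers q2))
  obtain ⟨c, hcN, hc, hcx⟩ := hall x hx
  obtain ⟨d, hdN, hd, hdy⟩ := hall y hy
  refine ⟨d * c⁻¹, mul_mem hdN (inv_mem hcN), hd.mul_right hc.inv_right, ?_⟩
  rw [← hcx, ← hdy]
  group

/-- Fusion of the elements of order four in the centralizer of the involution. -/
theorem isConj_four_of_element (P : Sylow 2 G) {t : G} (ht : orderOf t = 2) (htP : t ∈ P)
    (huniqP : ∀ x : P, orderOf x = 2 → (x : G) = t) {a : P} (hidx : (Subgroup.zpowers a).index = 2)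
    (ha : orderOf a = 4) (hmax : ∀ x : P, x ^ 2 ^ 2 = 1)
    (hNPC : ¬ HasNormalPComplement 2 G) (x y : P) (hx : orderOf x = 4) (hy : orderOf y = 4) :
    ∃ c : G, Commute t c ∧ c * x * c⁻¹ = y :=
  let ⟨c, _, h⟩ := exists_normalizer_conj_four P ht htP huniqP hidx ha hmax hNPC x y hx hy
  ⟨c, h⟩

/-- The data of the centralizer of the involution. -/
theorem eightData_centralizer (P : Sylow 2 G) {t : G} (ht : orderOf t = 2) (htP : t ∈ P)
    (hone : ∀ y : G, orderOf y = 2 → Commute t y → y = t) {a : P} (ha : orderOf a = 4)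
    (hidx : (Subgroup.zpowers a).index = 2) (hmax : ∀ x : P, x ^ 2 ^ 2 = 1)
    (hPC : (P : Subgroup G) ≤ Subgroup.centralizer ({t} : Set G))
    (hNPC : ¬ HasNormalPComplement 2 G)
    [Fintype (Subgroup.centralizer ({t} : Set G))] :
    EightData (Subgroup.centralizer ({t} : Set G))
      ⟨t, Subgroup.mem_centralizer_singleton_iff.mpr rfl⟩ := by
  classical
  have hP8 : Nat.card (P : Subgroup G) = 8 := by
    have h := (Subgroup.zpowers a).card_mul_index
    rw [Nat.card_zpowers, ha, hidx] at h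
    exact h.symm
  have huniqP : ∀ x : P, orderOf x = 2 → (x : G) = t := fun x hx =>
    hone x ((Subgroup.orderOf_coe x).trans hx)
      (Subgroup.mem_centralizer_singleton_iff.mp (hPC x.2)).symm
  have huniq : ∀ x y : P, orderOf x = 2 → orderOf y = 2 → x = y := fun x y hx hy =>
    Subtype.ext ((huniqP x hx).trans (huniqP y hy).symm)
  have hcc : ∀ c : Subgroup.centralizer ({t} : Set G), Commute t (c : G) := fun c =>
    (Subgroup.mem_centralizer_singleton_iff.mp c.2).symm
  -- conjugation of a 2-element of the centralizer into `P`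
  have hinto : ∀ Q : Subgroup G, Q ≤ Subgroup.centralizer ({t} : Set G) → IsPGroup 2 Q →
      ∃ c, Commute t c ∧ ∀ x ∈ Q, c * x * c⁻¹ ∈ P := fun Q hQ hQ2 => by
    obtain ⟨c, hc, h⟩ := exists_conj_mem_sylow P hPC hQ hQ2
    exact ⟨c, (Subgroup.mem_centralizer_singleton_iff.mp hc).symm, h⟩
  have hintoEl : ∀ x : Subgroup.centralizer ({t} : Set G), (∃ k, orderOf x = 2 ^ k) →
      ∃ c, Commute t c ∧ ∃ p : P, (p : G) = c * (x : G) * c⁻¹ ∧ orderOf p = orderOf x := by
    rintro x ⟨k, hk⟩
    obtain ⟨c, hc, h⟩ := hinto (Subgroup.zpowers (x : G)) (Subgroup.zpowers_le.mpr x.2)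
      (Transfer.isPGroup_zpowers ⟨k, (Subgroup.orderOf_coe x).trans hk⟩)
    refine ⟨c, hc, ⟨_, h _ (Subgroup.mem_zpowers _)⟩, rfl, ?_⟩
    rw [← Subgroup.orderOf_coe]
    exact (Transfer.orderOf_conj c _).trans (Subgroup.orderOf_coe x)
  refine
    { order_two := by rw [← Subgroup.orderOf_coe]; exact ht
      central := fun c => Subtype.ext (hcc c).eq
      unique := fun y hy => Subtype.ext (hone _ ((Subgroup.orderOf_coe y).trans hy) (hcc y))
      not_eight := fun x h8 => ?_
      exists_four := ⟨⟨a, hPC a.2⟩, by rw [← Subgroup.orderOf_coe]; exact (Subgroup.orderOf_coe a).trans ha⟩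
      conj_four := fun x y hx hy => ?_
      cyclic_four := fun y hy S => ?_
      sylow_card := fun Q => ?_ }
  · obtain ⟨m, hm⟩ := h8
    have hpos := orderOf_pos x
    have h8' : orderOf (x ^ m) = 8 := by
      rw [orderOf_pow_of_dvd (by rintro rfl; omega) ⟨8, by omega⟩, hm,
        Nat.mul_div_cancel _ (by rcases Nat.eq_zero_or_pos m with rfl | h <;> omega)]
    obtain ⟨c, -, p, -, hp⟩ := hintoEl (x ^ m) ⟨3, by rw [h8']; norm_num⟩
    have := orderOf_dvd_of_pow_eq_one (hmax p)
    rw [hp, h8'] at this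
    norm_num at this
  · obtain ⟨c, hc, p, hp, hpo⟩ := hintoEl x ⟨2, by rw [hx]; norm_num⟩
    obtain ⟨d, hd, p', hp', hpo'⟩ := hintoEl y ⟨2, by rw [hy]; norm_num⟩
    obtain ⟨e, he, hpe⟩ := isConj_four_of_element P ht htP huniqP hidx ha hmax hNPC p p'
      (hpo.trans hx) (hpo'.trans hy)
    refine isConj_iff.mpr ⟨⟨d⁻¹ * e * c, Subgroup.mem_centralizer_singleton_iff.mpr
      ((hd.inv_right.mul_right he).mul_right hc).eq.symm⟩, Subtype.ext ?_⟩
    show d⁻¹ * e * c * (x : G) * (d⁻¹ * e * c)⁻¹ = y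
    rw [hp, hp'] at hpe
    calc d⁻¹ * e * c * (x : G) * (d⁻¹ * e * c)⁻¹ = d⁻¹ * (e * (c * x * c⁻¹) * e⁻¹) * d := by group
      _ = y := by rw [hpe]; group
  · set ι : (Subgroup.centralizer ({y} : Set (Subgroup.centralizer ({t} : Set G)))) →* G := (Subgroup.centralizer ({t} : Set G)).subtype.comp (Subgroup.centralizer ({y} : Set (Subgroup.centralizer ({t} : Set G)))).subtype
    have hι : Function.Injective ι := fun u v e => Subtype.ext (Subtype.ext e)
    set yH : (Subgroup.centralizer ({y} : Set (Subgroup.centralizer ({t} : Set G)))) := ⟨y, Subgroup.mem_centralizer_singleton_iff.mpr rfl⟩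
    have hyS : yH ∈ S := by
      have hn : (Subgroup.zpowers yH).Normal := ⟨fun z hz g => by
        obtain ⟨k, rfl⟩ := hz
        have hc : Commute yH g :=
          Subtype.ext (Subgroup.mem_centralizer_singleton_iff.mp g.2).symm
        show g * yH ^ k * g⁻¹ ∈ _
        rw [← (hc.zpow_left k).eq, mul_inv_cancel_right]
        exact ⟨k, rfl⟩⟩
      have h2 : IsPGroup 2 (Subgroup.zpowers yH) := Transfer.isPGroup_zpowers ⟨2, by
        rw [← Subgroup.orderOf_coe]; exact hy.trans (by norm_num)⟩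
      have := S.is_maximal' (h2.to_sup_of_normal_left S.2) le_sup_right
      exact (SetLike.ext_iff.mp this yH).mp (Subgroup.mem_sup_left (Subgroup.mem_zpowers _))
    obtain ⟨c, -, hc⟩ := hinto ((S : Subgroup (Subgroup.centralizer ({y} : Set (Subgroup.centralizer ({t} : Set G))))).map ι)
      (fun z hz => by obtain ⟨w, -, rfl⟩ := hz; exact (w : Subgroup.centralizer ({t} : Set G)).2)
      (S.2.map ι)
    set y' : P := ⟨c * (y : G) * c⁻¹, hc _ ⟨yH, hyS, rfl⟩⟩
    have hy' : orderOf y' = 4 := by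
      rw [← Subgroup.orderOf_coe]
      exact (Transfer.orderOf_conj c _).trans ((Subgroup.orderOf_coe y).trans hy)
    have hmem : ∀ w : S, (⟨c * ι w * c⁻¹, hc _ ⟨_, w.2, rfl⟩⟩ : P) ∈ Subgroup.zpowers y' := fun w => by
      refine mem_zpowers_of_commute P.2 huniq (n := 2) (by norm_num) (by rw [hy']; norm_num) hmax
        (Subtype.ext ?_)
      have h := congrArg Subtype.val (Subgroup.mem_centralizer_singleton_iff.mp (w : (Subgroup.centralizer ({y} : Set (Subgroup.centralizer ({t} : Set G))))).2)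
      show c * ι w * c⁻¹ * (c * (y : G) * c⁻¹) = c * (y : G) * c⁻¹ * (c * ι w * c⁻¹)
      simp only [Subgroup.coe_mul] at h
      calc c * ι w * c⁻¹ * (c * (y : G) * c⁻¹) = c * (ι w * y) * c⁻¹ := by group
        _ = c * ((y : G) * ι w) * c⁻¹ := by rw [show ι w * (y : G) = (y : G) * ι w from h]
        _ = _ := by group
    let φ : S →* Subgroup.zpowers y' :=
      { toFun := fun w => ⟨_, hmem w⟩
        map_one' := Subtype.ext (Subtype.ext (by simp))
        map_mul' := fun v w => Subtype.ext (Subtype.ext (by simp [map_mul, mul_assoc])) }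
    have hφ : Function.Injective φ := fun v w e => by
      have h := congrArg (fun z : Subgroup.zpowers y' => ((z : P) : G)) e
      simp only [φ, MonoidHom.coe_mk, OneHom.coe_mk] at h
      exact Subtype.ext (hι (mul_left_cancel (mul_right_cancel h)))
    refine ⟨isCyclic_of_injective φ hφ, le_antisymm ?_ ?_⟩
    · rw [← hy', ← Nat.card_zpowers]
      exact Nat.card_le_card_of_injective φ hφ
    · rw [show (4 : ℕ) = Nat.card (Subgroup.zpowers yH) by
        rw [Nat.card_zpowers, ← Subgroup.orderOf_coe]; exact hy.symm]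
      exact Subgroup.card_le_of_le (Subgroup.zpowers_le.mpr hyS)
  · rw [← hP8]
    have h1 := (Q.card_eq_multiplicity).trans (P.subtype hPC).card_eq_multiplicity.symm
    refine h1.trans ?_
    exact Nat.card_congr (Subgroup.subgroupOfEquivOfLe hPC).toEquiv

end CfsgLib.ZStar
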