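import Cfsg.Agent.Lib.ZStar.EightChar
import Cfsg.Agent.Lib.Transfer.Hall

/-!
# The generalized characters `θ` of the centralizer
-/

set_option autoImplicit false
set_option linter.unusedSectionVars false

namespace CfsgLib.ZStar

open Cfsg
open scoped ComplexConjugate CfsgLib.Char

/-- A nilpotent group is the product of its Sylow 2-subgroup and its elements of odd order. -/
theorem exists_mulEquiv_prod {E : Type*} [Group E] [Finite E] [Group.IsNilpotent E] :
    ∃ (S : Sylow 2 E) (A : Subgroup E) (e : (↥(S : Subgroup E) × ↥A) ≃* E),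
      (∀ x, e x = (x.1 : E) * (x.2 : E)) ∧ ∀ a ∈ A, IsPRegular 2 a := by
  obtain ⟨A, hAn, hA, hAc⟩ := Char.exists_coprime_subgroup (G := E) 2 two_ne_zero
  obtain ⟨S⟩ := (inferInstance : Nonempty (Sylow 2 E))
  have hSn : (S : Subgroup E).Normal := Transfer.sylow_normal_of_isNilpotent S
  have hQ : IsPGroup 2 (E ⧸ A) := fun q => by
    obtain ⟨x, rfl⟩ := QuotientGroup.mk_surjective q
    obtain ⟨e, m, -, -, hq, -⟩ := Transfer.exists_pow_coprime_part (p := 2) x
    exact ⟨e, by rw [← QuotientGroup.mk_pow, QuotientGroup.eq_one_iff, hA]; exact hq⟩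
  have hcompl := (Transfer.isComplement'_sylow hAc hQ S).symm
  have hcomm : ∀ (s : (S : Subgroup E)) (a : A), Commute (s : E) (a : E) := fun s a =>
    Subgroup.commute_of_normal_of_disjoint _ _ hSn hAn hcompl.disjoint _ _ s.2 a.2
  let f : (↥(S : Subgroup E) × ↥A) →* E :=
    MonoidHom.noncommCoprod (S : Subgroup E).subtype A.subtype hcomm
  refine ⟨S, A, MulEquiv.ofBijective f ?_, fun x => rfl, fun a ha h2 => ?_⟩
  · exact hcompl
  · exact (Nat.prime_two.coprime_iff_not_dvd).mp ((hA a).mp ha).symm h2

variable {C : Type*} [Group C] [Fintype C] {t : C}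

/-- The generalized character on a product `S × A` inside `C`. -/
theorem isGeneralized_eightTheta_prod (h : EightData C t) {ψ : IrrCharacter C} {ε : ℤ}
    (hinv : ∀ c, (ψ : C → ℂ) (t * c) = (ψ : C → ℂ) c) (hε : ε = 1 ∨ ε = -1)
    (hval : ∀ c, 4 ∣ orderOf c → (ψ : C → ℂ) c = ε)
    {S A : Type*} [Group S] [Fintype S] [Group A] [Fintype A] (hS : IsPGroup 2 S) (f : S × A →* C)
    (hf : Function.Injective f) (hA : ∀ a : A, IsPRegular 2 a) :
    IsGeneralizedCharacter (S × A) (fun x => eightTheta (ψ : C → ℂ) ε (f x)) := by
  classical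
  set i : S →* C := f.comp (MonoidHom.inl S A)
  set j : A →* C := f.comp (MonoidHom.inr S A)
  have hi : Function.Injective i := fun a b e => congrArg Prod.fst (hf e)
  have hj : ∀ r : A, IsPRegular 2 (j r) := fun r hd => hA r (hd.trans (orderOf_map_dvd j r))
  have hfx : ∀ s r, f (s, r) = i s * j r := fun s r => by simp [i, j, ← map_mul]
  have hcomm : ∀ s r, Commute (i s) (j r) := fun s r => by
    show i s * j r = j r * i s
    simp [i, j, ← map_mul]
  have huniq : ∀ x y : S, orderOf x = 2 → orderOf y = 2 → x = y := fun x y hx hy =>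
    hi ((h.unique _ (by rw [orderOf_injective i hi, hx])).trans
      (h.unique _ (by rw [orderOf_injective i hi, hy])).symm)
  -- the function on each part
  have hG4 : ∀ s r, orderOf (i s) = 4 → eightG (ψ : C → ℂ) ε (i s * j r) = 2 := fun s r hs => by
    rw [eightG, hval _ (h.four_dvd_split hs (hcomm s r) (hj r))]
    rcases hε with e | e <;> subst e <;> norm_num
  set G : A → ℂ := fun r => eightG (ψ : C → ℂ) ε (j r)
  have hG : IsGeneralizedCharacter A G := by
    have := Char.isGeneralized_comp j (Char.isGeneralized_add (Char.isGeneralized_one (G := C))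
      (Char.isGeneralized_intCast_smul (Char.isGeneralized_of_isIrr ψ.2) ε))
    simpa [G, eightG, Function.comp_def] using this
  have h1 : ∀ r, eightTheta (ψ : C → ℂ) ε (f (1, r)) = 0 := fun r => by
    rw [hfx, map_one, one_mul, eightTheta, if_neg fun hd => hj r ((by norm_num : 2 ∣ 4).trans hd),
      if_neg (hj r)]
  have ht : ∀ s r, i s = t → eightTheta (ψ : C → ℂ) ε (f (s, r)) = 2 * G r := fun s r hs => by
    rw [hfx, hs, eightTheta, if_neg (h.regular_mul_not (hj r)).2, if_pos (h.regular_mul_not (hj r)).1,
      eightG, hinv]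
    rfl
  have h4 : ∀ s r, orderOf (i s) = 4 → eightTheta (ψ : C → ℂ) ε (f (s, r)) = 2 := fun s r hs => by
    rw [hfx, eightTheta, if_pos (h.four_dvd_split hs (hcomm s r) (hj r))]
  have hcases : ∀ s : S, s = 1 ∨ i s = t ∨ orderOf (i s) = 4 := fun s => by
    obtain ⟨k, hk⟩ := IsPGroup.iff_orderOf.mp hS s
    have hi' : orderOf (i s) = 2 ^ k := (orderOf_injective i hi s).trans hk
    rcases k with _ | _ | _ | k
    · exact Or.inl (orderOf_eq_one_iff.mp (by simpa using hk))
    · exact Or.inr (Or.inl (h.unique _ (by simpa using hi')))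
    · exact Or.inr (Or.inr (by simpa using hi'))
    · exact absurd (hi' ▸ (show (8 : ℕ) = 2 ^ 3 by norm_num) ▸ pow_dvd_pow 2 (by omega))
        (h.not_eight (i s))
  -- the order of `S`
  rcases unique_involution_structure hS huniq with hcyc | ⟨a, n, hn, ha, -, hidx, hout⟩
  · obtain ⟨g, hg⟩ := hcyc.exists_generator
    have hgen : Subgroup.zpowers g = (⊤ : Subgroup S) := eq_top_iff.mpr fun x _ => hg x
    have hcard : Nat.card S = orderOf g := by rw [← Nat.card_zpowers, hgen, Subgroup.card_top]
    rcases hcases g with hg1 | hg2 | hg4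
    · have : Subsingleton S := ⟨fun x y => by
        obtain ⟨k, rfl⟩ := hg x
        obtain ⟨l, rfl⟩ := hg y
        simp [hg1]⟩
      have e : (fun x => eightTheta (ψ : C → ℂ) ε (f x)) = fun _ => 0 := funext fun ⟨s, r⟩ => by
        rw [Subsingleton.elim s 1, h1]
      rw [e]
      exact Char.isGeneralized_zero
    · have hg2' : orderOf g = 2 := by rw [← orderOf_injective i hi, hg2, h.order_two]
      have hR := isGeneralized_index_indicator (⊥ : Subgroup S) bot_le
      have e : (fun x => eightTheta (ψ : C → ℂ) ε (f x)) =
          (((2 : ℤ) : ℂ) • (fun _ : S × A => (1 : ℂ)) -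
            (fun s : S => if s ∈ (⊥ : Subgroup S) then ((⊥ : Subgroup S).index : ℂ) else 0) ∘
              MonoidHom.fst S A) * (G ∘ MonoidHom.snd S A) := by
        funext ⟨s, r⟩
        simp only [Pi.mul_apply, Pi.sub_apply, Pi.smul_apply, Function.comp_apply, MonoidHom.coe_fst,
          MonoidHom.coe_snd, Subgroup.mem_bot, Subgroup.index_bot, hcard, hg2', smul_eq_mul]
        rcases hcases s with hs | hs | hs
        · subst hs; rw [h1]; simp
        · have hs1 : s ≠ 1 := fun e => Invol.ne_one_of_orderOf_two h.order_two (by rw [← hs, e, map_one])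
          rw [ht s r hs, if_neg hs1]; simp
        · have := orderOf_dvd_natCard s
          rw [hcard, hg2', ← orderOf_injective i hi, hs] at this
          omega
      rw [e]
      exact Char.isGeneralized_mul (Char.isGeneralized_sub
        (Char.isGeneralized_intCast_smul Char.isGeneralized_one 2)
        (Char.isGeneralized_comp (MonoidHom.fst S A) hR))
        (Char.isGeneralized_comp (MonoidHom.snd S A) hG)
    · have hg4' : orderOf g = 4 := by rw [← orderOf_injective i hi, hg4]
      -- `S` cyclic of order four
      set z : S := g * g with hz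
      have hz2 : orderOf z = 2 := by
        rw [hz, ← pow_two, orderOf_pow_of_dvd two_ne_zero (by rw [hg4']; norm_num), hg4']
      have hzt : i z = t := h.unique _ (by rw [orderOf_injective i hi, hz2])
      have hzc : Subgroup.zpowers z ≤ Subgroup.center S := Subgroup.zpowers_le.mpr
        (Subgroup.mem_center_iff.mpr fun x => hi (by rw [map_mul i x z, map_mul i z x, hzt, (h.central _).eq]))
      have hTi : (Subgroup.zpowers z).index = 2 := by
        have h2 := (Subgroup.zpowers z).card_mul_index
        rw [Nat.card_zpowers, hz2, hcard, hg4'] at h2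
        omega
      have hN := isGeneralized_average (f := fun x => (ψ : C → ℂ) (f x))
        (Char.isGeneralized_comp f (Char.isGeneralized_of_isIrr ψ.2))
      set K : A → ℂ := ((ε : ℤ) : ℂ) • fun r => (Nat.card S : ℂ)⁻¹ * ∑ s : S, (ψ : C → ℂ) (f (s, r))
      have hK : IsGeneralizedCharacter A K := Char.isGeneralized_intCast_smul hN ε
      have hKG : ∀ r, 2 * K r = G r := by
        intro r
        have hsum : ∑ s : S, (ψ : C → ℂ) (f (s, r)) =
            2 * (ψ : C → ℂ) (j r) + 2 * (ε : ℂ) := by
          rw [← Finset.sum_filter_add_sum_filter_not Finset.univ (fun s : S => s ∈ Subgroup.zpowers z)]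
          have hT : ∀ s ∈ Finset.univ.filter (fun s : S => s ∈ Subgroup.zpowers z),
              (ψ : C → ℂ) (f (s, r)) = (ψ : C → ℂ) (j r) := by
            intro s hs
            rcases hcases s with e | e | e
            · rw [e, hfx, map_one, one_mul]
            · rw [hfx, e, hinv]
            · have := Subgroup.orderOf_dvd_natCard _ (Finset.mem_filter.mp hs).2
              rw [Nat.card_zpowers, hz2, ← orderOf_injective i hi, e] at this
              omega
          have hF : ∀ s ∈ Finset.univ.filter (fun s : S => ¬ s ∈ Subgroup.zpowers z),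
              (ψ : C → ℂ) (f (s, r)) = (ε : ℂ) := by
            intro s hs
            rcases hcases s with e | e | e
            · exact absurd (e ▸ one_mem _) (Finset.mem_filter.mp hs).2
            · exact absurd (hi (e.trans hzt.symm) ▸ Subgroup.mem_zpowers z) (Finset.mem_filter.mp hs).2
            · rw [hfx, hval _ (h.four_dvd_split e (hcomm s r) (hj r))]
          have hc1 : (Finset.univ.filter fun s : S => s ∈ Subgroup.zpowers z).card = 2 := by
            rw [← Fintype.card_subtype, ← Nat.card_eq_fintype_card]
            exact (Nat.card_zpowers z).trans hz2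
          have hc2 : (Finset.univ.filter fun s : S => ¬ s ∈ Subgroup.zpowers z).card = 2 := by
            have h2 := Finset.card_filter_add_card_filter_not (s := (Finset.univ : Finset S))
              (fun s => s ∈ Subgroup.zpowers z)
            rw [Finset.card_univ, ← Nat.card_eq_fintype_card, hcard, hg4', hc1] at h2
            omega
          rw [Finset.sum_congr rfl hT, Finset.sum_congr rfl hF, Finset.sum_const, Finset.sum_const,
            hc1, hc2]
          simp
        simp only [K, G, eightG, Pi.smul_apply, smul_eq_mul, hsum, hcard, hg4']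
        rcases hε with e | e <;> subst e <;> norm_num <;> ring
      have hR := isGeneralized_index_indicator (⊥ : Subgroup S) bot_le
      have hQ := isGeneralized_index_indicator (Subgroup.zpowers z) hzc
      have e : (fun x => eightTheta (ψ : C → ℂ) ε (f x)) =
          ((2 : ℤ) : ℂ) • (fun _ : S × A => (1 : ℂ)) +
            ((((2 : ℤ) : ℂ) • K - fun _ => 1) ∘ MonoidHom.snd S A) *
              ((fun s : S => if s ∈ Subgroup.zpowers z then ((Subgroup.zpowers z).index : ℂ) else 0) ∘
                MonoidHom.fst S A) -
            (K ∘ MonoidHom.snd S A) *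
              ((fun s : S => if s ∈ (⊥ : Subgroup S) then ((⊥ : Subgroup S).index : ℂ) else 0) ∘
                MonoidHom.fst S A) := by
        funext ⟨s, r⟩
        simp only [Pi.mul_apply, Pi.add_apply, Pi.sub_apply, Pi.smul_apply, Function.comp_apply,
          MonoidHom.coe_fst, MonoidHom.coe_snd, Subgroup.mem_bot, Subgroup.index_bot, hcard, hg4',
          hTi, smul_eq_mul]
        rcases hcases s with hs | hs | hs
        · subst hs; rw [h1, if_pos (one_mem _), if_pos rfl]; push_cast; ring
        · have hs1 : s ≠ 1 := fun e => Invol.ne_one_of_orderOf_two h.order_two (by rw [← hs, e, map_one])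
          rw [ht s r hs, if_pos (hi (hs.trans hzt.symm) ▸ Subgroup.mem_zpowers z), if_neg hs1,
            ← hKG r]
          push_cast; ring
        · rw [h4 s r hs, if_neg fun hm => by
            have := Subgroup.orderOf_dvd_natCard _ hm
            rw [Nat.card_zpowers, hz2, ← orderOf_injective i hi, hs] at this
            omega, if_neg fun e => by
            rw [e, map_one, orderOf_one] at hs; omega]
          push_cast; ring
      rw [e]
      exact Char.isGeneralized_sub (Char.isGeneralized_add
        (Char.isGeneralized_intCast_smul Char.isGeneralized_one 2)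
        (Char.isGeneralized_mul (Char.isGeneralized_comp (MonoidHom.snd S A)
          (Char.isGeneralized_sub (Char.isGeneralized_intCast_smul hK 2) Char.isGeneralized_one))
          (Char.isGeneralized_comp (MonoidHom.fst S A) hQ)))
        (Char.isGeneralized_mul (Char.isGeneralized_comp (MonoidHom.snd S A) hK)
          (Char.isGeneralized_comp (MonoidHom.fst S A) hR))
  · -- `S` quaternion of order eight
    have hn2 : n = 2 := by
      by_contra hne
      refine h.not_eight (i a) ?_
      rw [orderOf_injective i hi, ha]
      exact (show (8 : ℕ) = 2 ^ 3 by norm_num) ▸ pow_dvd_pow 2 (by omega)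
    subst hn2
    have ha4 : orderOf a = 4 := by rw [ha]; norm_num
    have hcard : Nat.card S = 8 := by
      rw [← (Subgroup.zpowers a).card_mul_index, Nat.card_zpowers, ha4, hidx]
    set z : S := a * a with hz
    have hz2 : orderOf z = 2 := by
      rw [hz, ← pow_two, orderOf_pow_of_dvd two_ne_zero (by rw [ha4]; norm_num), ha4]
    have hzt : i z = t := h.unique _ (by rw [orderOf_injective i hi, hz2])
    have hzc : Subgroup.zpowers z ≤ Subgroup.center S := Subgroup.zpowers_le.mpr
      (Subgroup.mem_center_iff.mpr fun x => hi (by rw [map_mul i x z, map_mul i z x, hzt, (h.central _).eq]))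
    have hTi : (Subgroup.zpowers z).index = 4 := by
      have h2 := (Subgroup.zpowers z).card_mul_index
      rw [Nat.card_zpowers, hz2, hcard] at h2
      omega
    have hN := isGeneralized_average (f := fun x => (ψ : C → ℂ) (f x))
      (Char.isGeneralized_comp f (Char.isGeneralized_of_isIrr ψ.2))
    set L : A → ℂ := (((ε : ℤ) : ℂ) • fun r =>
      (Nat.card S : ℂ)⁻¹ * ∑ s : S, (ψ : C → ℂ) (f (s, r))) - fun _ => 1
    have hL : IsGeneralizedCharacter A L :=
      Char.isGeneralized_sub (Char.isGeneralized_intCast_smul hN ε) Char.isGeneralized_one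
    have hLG : ∀ r, 4 * L r + 2 = G r := by
      intro r
      have hsum : ∑ s : S, (ψ : C → ℂ) (f (s, r)) =
          2 * (ψ : C → ℂ) (j r) + 6 * (ε : ℂ) := by
        rw [← Finset.sum_filter_add_sum_filter_not Finset.univ (fun s : S => s ∈ Subgroup.zpowers z)]
        have hT : ∀ s ∈ Finset.univ.filter (fun s : S => s ∈ Subgroup.zpowers z),
            (ψ : C → ℂ) (f (s, r)) = (ψ : C → ℂ) (j r) := by
          intro s hs
          rcases hcases s with e | e | e
          · rw [e, hfx, map_one, one_mul]
          · rw [hfx, e, hinv]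
          · have := Subgroup.orderOf_dvd_natCard _ (Finset.mem_filter.mp hs).2
            rw [Nat.card_zpowers, hz2, ← orderOf_injective i hi, e] at this
            omega
        have hF : ∀ s ∈ Finset.univ.filter (fun s : S => ¬ s ∈ Subgroup.zpowers z),
            (ψ : C → ℂ) (f (s, r)) = (ε : ℂ) := by
          intro s hs
          rcases hcases s with e | e | e
          · exact absurd (e ▸ one_mem _) (Finset.mem_filter.mp hs).2
          · exact absurd (hi (e.trans hzt.symm) ▸ Subgroup.mem_zpowers z) (Finset.mem_filter.mp hs).2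
          · rw [hfx, hval _ (h.four_dvd_split e (hcomm s r) (hj r))]
        have hc1 : (Finset.univ.filter fun s : S => s ∈ Subgroup.zpowers z).card = 2 := by
          rw [← Fintype.card_subtype, ← Nat.card_eq_fintype_card]
          exact (Nat.card_zpowers z).trans hz2
        have hc2 : (Finset.univ.filter fun s : S => ¬ s ∈ Subgroup.zpowers z).card = 6 := by
          have h2 := Finset.card_filter_add_card_filter_not (s := (Finset.univ : Finset S))
            (fun s => s ∈ Subgroup.zpowers z)
          rw [Finset.card_univ, ← Nat.card_eq_fintype_card, hcard, hc1] at h2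
          omega
        rw [Finset.sum_congr rfl hT, Finset.sum_congr rfl hF, Finset.sum_const, Finset.sum_const,
          hc1, hc2]
        simp
      simp only [L, G, eightG, Pi.sub_apply, Pi.smul_apply, smul_eq_mul, hsum, hcard]
      rcases hε with e | e <;> subst e <;> norm_num <;> ring
    obtain ⟨π, hπ, hπ1, hπz, hπ4⟩ := isGeneralized_pi a ha4 hidx hout
    have hQ := isGeneralized_index_indicator (Subgroup.zpowers z) hzc
    have e : (fun x => eightTheta (ψ : C → ℂ) ε (f x)) =
        ((2 : ℤ) : ℂ) • (fun _ : S × A => (1 : ℂ)) +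
          (L ∘ MonoidHom.snd S A) *
            ((fun s : S => if s ∈ Subgroup.zpowers z then ((Subgroup.zpowers z).index : ℂ) else 0) ∘
              MonoidHom.fst S A) -
          ((((2 : ℤ) : ℂ) • L + fun _ => 1) ∘ MonoidHom.snd S A) * (π ∘ MonoidHom.fst S A) := by
      funext ⟨s, r⟩
      simp only [Pi.mul_apply, Pi.add_apply, Pi.sub_apply, Pi.smul_apply, Function.comp_apply,
        MonoidHom.coe_fst, MonoidHom.coe_snd, hTi, smul_eq_mul]
      rcases hcases s with hs | hs | hs
      · subst hs; rw [h1, if_pos (one_mem _), hπ1]; push_cast; ring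
      · have hsz : s = z := hi (hs.trans hzt.symm)
        rw [ht s r hs, if_pos (hsz ▸ Subgroup.mem_zpowers z), hsz, hπz, ← hLG r]
        push_cast; ring
      · rw [h4 s r hs, if_neg fun hm => by
          have := Subgroup.orderOf_dvd_natCard _ hm
          rw [Nat.card_zpowers, hz2, ← orderOf_injective i hi, hs] at this
          omega, hπ4 s (hi (by rw [map_mul, h.four_sq hs, hzt]))]
        push_cast; ring
    rw [e]
    exact Char.isGeneralized_sub (Char.isGeneralized_add
      (Char.isGeneralized_intCast_smul Char.isGeneralized_one 2)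
      (Char.isGeneralized_mul (Char.isGeneralized_comp (MonoidHom.snd S A) hL)
        (Char.isGeneralized_comp (MonoidHom.fst S A) hQ)))
      (Char.isGeneralized_mul (Char.isGeneralized_comp (MonoidHom.snd S A)
        (Char.isGeneralized_add (Char.isGeneralized_intCast_smul hL 2) Char.isGeneralized_one))
        (Char.isGeneralized_comp (MonoidHom.fst S A) hπ))

/-- `θ` is a generalized character. -/
theorem isGeneralized_eightTheta (h : EightData C t) {ψ : IrrCharacter C} {ε : ℤ}
    (hinv : ∀ c, (ψ : C → ℂ) (t * c) = (ψ : C → ℂ) c) (hε : ε = 1 ∨ ε = -1)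
    (hval : ∀ c, 4 ∣ orderOf c → (ψ : C → ℂ) c = ε) :
    IsGeneralizedCharacter C (eightTheta (ψ : C → ℂ) ε) := by
  classical
  refine Char.brauer_characterisation
    (isClassFunction_eightTheta (Blocks.irr_classFunction ψ) ε) fun E p hp hE => ?_
  have := Char.isNilpotent_of_isElementary hp hE
  obtain ⟨S, A, e, he, hA⟩ := exists_mulEquiv_prod (E := E)
  have hprod := isGeneralized_eightTheta_prod h hinv hε hval (S := (S : Subgroup E)) (A := A) S.2
    (E.subtype.comp e.toMonoidHom) (E.subtype_injective.comp e.injective) fun a => by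
      rw [IsPRegular, ← Subgroup.orderOf_coe]
      exact hA a a.2
  have key := Char.isGeneralized_comp e.symm.toMonoidHom hprod
  convert key using 1
  funext x
  simp

end CfsgLib.ZStar
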