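import Cfsg.Agent.Lib.ZStar.Commuting
import Cfsg.Agent.Lib.ZStar.UniqueInvol
import Cfsg.Agent.Lib.Blocks.PrincipalQuot
import Cfsg.Agent.Lib.Char.Virtual
import Cfsg.Agent.S4722

/-!
# A quaternion Sylow 2-subgroup of order at least 16
-/

set_option autoImplicit false

namespace CfsgLib.ZStar

open Cfsg
open scoped ComplexConjugate CfsgLib.Char

variable {G : Type*} [Group G] [Fintype G]

/-- Powers of `u` of equal order in a cyclic subgroup. -/
theorem mem_zpowers_of_orderOf_eq {a u v : G} (hu : u ∈ Subgroup.zpowers a)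
    (hv : v ∈ Subgroup.zpowers a) (h : orderOf v = orderOf u) : v ∈ Subgroup.zpowers u := by
  classical
  set A := Subgroup.zpowers a
  set u' : A := ⟨u, hu⟩
  set v' : A := ⟨v, hv⟩
  have h' : orderOf v' = orderOf u' := by rw [← Subgroup.orderOf_coe, ← Subgroup.orderOf_coe]; exact h
  set S := (Finset.univ : Finset A).filter fun x => x ^ orderOf u' = 1
  set T := (Finset.univ : Finset A).filter fun x => x ∈ Subgroup.zpowers u'
  have hTS : T ⊆ S := fun x hx => by
    obtain ⟨k, rfl⟩ := (Finset.mem_filter.mp hx).2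
    refine Finset.mem_filter.mpr ⟨Finset.mem_univ _, ?_⟩
    rw [← zpow_natCast, ← zpow_mul, mul_comm, zpow_mul, zpow_natCast, pow_orderOf_eq_one, one_zpow]
  have hle : S.card ≤ T.card := by
    refine (IsCyclic.card_pow_eq_one_le (orderOf_pos u')).trans (le_of_eq ?_)
    rw [← Fintype.card_zpowers, Fintype.card_subtype]
  have hvS : v' ∈ S := Finset.mem_filter.mpr ⟨Finset.mem_univ _, by rw [← h', pow_orderOf_eq_one]⟩
  rw [← Finset.eq_of_subset_of_card_le hTS hle] at hvS
  obtain ⟨k, hk⟩ := (Finset.mem_filter.mp hvS).2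
  exact ⟨k, by simpa using congrArg Subtype.val hk⟩

/-- A 2-element of the normalizer of `⟨u⟩` is conjugate there into `P`. -/
theorem exists_conj_mem_sylow (P : Sylow 2 G) {N Q : Subgroup G} (hPN : (P : Subgroup G) ≤ N)
    (hQN : Q ≤ N) (hQ : IsPGroup 2 Q) : ∃ c ∈ N, ∀ x ∈ Q, c * x * c⁻¹ ∈ P := by
  obtain ⟨S, hS⟩ := (hQ.of_equiv (Subgroup.subgroupOfEquivOfLe hQN).symm).exists_le_sylow
  obtain ⟨c, hc⟩ := MulAction.exists_smul_eq N S (P.subtype hPN)
  refine ⟨c, c.2, fun x hx => ?_⟩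
  have h : c * ⟨x, hQN hx⟩ * c⁻¹ ∈ (P.subtype hPN : Subgroup N) := by
    rw [← hc]
    exact Subgroup.smul_mem_pointwise_smul _ (MulAut.conj c) _
      (hS (Subgroup.mem_subgroupOf.mpr hx))
  exact h

/-- Elements of the cyclic subgroup of index two of order at least four: fusion and centralizers. -/
theorem local_structure (P : Sylow 2 G) {a : P} {n : ℕ} (ha : orderOf a = 2 ^ n)
    (hout : ∀ x : P, x ∉ Subgroup.zpowers a → x * a * x⁻¹ = a⁻¹) {u : P}
    (hu : u ∈ Subgroup.zpowers a) (hu2 : u * u ≠ 1) :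
    (Subgroup.centralizer ({u} : Set P) = Subgroup.zpowers a) ∧
    (∀ g : G, g * u * g⁻¹ ∈ Subgroup.zpowers (a : G) →
      ∃ q : P, (q : G) * u * (q : G)⁻¹ = g * u * g⁻¹) ∧
    ∀ S : Sylow 2 (Subgroup.centralizer ({(u : G)} : Set G)),
      IsCyclic (S : Subgroup (Subgroup.centralizer ({(u : G)} : Set G))) ∧ Nat.card S = 2 ^ n := by
  obtain ⟨l, hl⟩ := Subgroup.mem_zpowers_iff.mp hu
  have huA : (u : G) ∈ Subgroup.zpowers (a : G) := ⟨l, by rw [← hl]; simp⟩
  have hcomm : ∀ x : P, x ∈ Subgroup.zpowers a → Commute x u := by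
    rintro x ⟨k, rfl⟩
    rw [← hl]
    exact Commute.zpow_zpow (Commute.refl a) _ _
  have hinv : ∀ x : P, x ∉ Subgroup.zpowers a → x * u * x⁻¹ = u⁻¹ := fun x hx => by
    rw [← hl, ← conj_zpow, hout x hx, inv_zpow]
  have hcent : Subgroup.centralizer ({u} : Set P) = Subgroup.zpowers a := by
    ext x
    rw [Subgroup.mem_centralizer_singleton_iff]
    refine ⟨fun h => ?_, fun h => (hcomm x h).eq⟩
    by_contra hx
    apply hu2
    have h1 := hinv x hx
    rw [h, mul_inv_cancel_right] at h1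
    exact mul_eq_one_iff_eq_inv.mpr h1
  set N := Subgroup.normalizer (Subgroup.zpowers (u : G) : Set G)
  have hconjN : ∀ g ∈ N, ∃ r : ℤ, g * u * g⁻¹ = (u : G) ^ r := fun g hg => by
    obtain ⟨r, hr⟩ := Subgroup.mem_zpowers_iff.mp
      ((Subgroup.mem_normalizer_iff.mp hg _).mp (Subgroup.mem_zpowers (u : G)))
    exact ⟨r, hr.symm⟩
  have hmemN : ∀ g : G, g * u * g⁻¹ ∈ Subgroup.zpowers (u : G) → g ∈ N := by
    intro g hg
    rw [Subgroup.mem_normalizer_iff]
    have hmap : (Subgroup.zpowers (u : G)).map (MulAut.conj g).toMonoidHom =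
        Subgroup.zpowers (u : G) := by
      refine Subgroup.eq_of_le_of_card_ge ?_
        (Subgroup.card_map_of_injective (MulAut.conj g).injective).ge
      rw [MonoidHom.map_zpowers, Subgroup.zpowers_le]
      exact hg
    intro y
    constructor
    · intro hy
      rw [← hmap]
      exact ⟨y, hy, rfl⟩
    · intro hy
      rw [← hmap] at hy
      obtain ⟨y', hy', e⟩ := hy
      simp only [MulEquiv.coe_toMonoidHom, MulAut.conj_apply, mul_left_inj, mul_right_inj] at e
      exact e ▸ hy'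
  have hPN : (P : Subgroup G) ≤ N := fun x hx => hmemN x (by
    by_cases hxA : (⟨x, hx⟩ : P) ∈ Subgroup.zpowers a
    · have h : x * (u : G) = u * x := congrArg Subtype.val (hcomm _ hxA).eq
      rw [h, mul_inv_cancel_right]
      exact Subgroup.mem_zpowers _
    · have h : x * (u : G) * x⁻¹ = (u : G)⁻¹ := congrArg Subtype.val (hinv _ hxA)
      rw [h]
      exact inv_mem (Subgroup.mem_zpowers _))
  have hcommN : ∀ c ∈ N, ∀ g ∈ N, c * g * c⁻¹ * u * (c * g * c⁻¹)⁻¹ = g * u * g⁻¹ := by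
    intro c hc g hg
    obtain ⟨s, hs⟩ := hconjN c⁻¹ (inv_mem hc)
    obtain ⟨r, hr⟩ := hconjN g hg
    calc c * g * c⁻¹ * u * (c * g * c⁻¹)⁻¹ = c * (g * (c⁻¹ * u * c⁻¹⁻¹) * g⁻¹) * c⁻¹ := by group
      _ = c * ((g * u * g⁻¹) ^ s) * c⁻¹ := by rw [hs, conj_zpow]
      _ = c * ((u : G) ^ s) ^ r * c⁻¹ := by rw [hr, ← zpow_mul, mul_comm, zpow_mul]
      _ = c * (c⁻¹ * u * c⁻¹⁻¹) ^ r * c⁻¹ := by rw [hs]
      _ = g * u * g⁻¹ := by rw [conj_zpow, hr]; group
  refine ⟨hcent, fun g hg => ?_, fun S => ?_⟩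
  · have hgN : g ∈ N := hmemN g (mem_zpowers_of_orderOf_eq huA hg (Transfer.orderOf_conj g _))
    obtain ⟨e, m, hm, hno, hq, hpart⟩ := Transfer.exists_pow_coprime_part (p := 2) g
    have hN2 : g ^ m ∈ N := pow_mem hgN m
    obtain ⟨c, hc, hcP⟩ := exists_conj_mem_sylow P hPN (Subgroup.zpowers_le.mpr hN2)
      (Transfer.isPGroup_zpowers ⟨e, hpart⟩)
    obtain ⟨r, hr⟩ := hconjN _ (pow_mem hgN (2 ^ e))
    have hodd : Commute (g ^ 2 ^ e) (u : G) := by
      refine Transfer.commute_of_conj_eq_zpow (p := 2) hr ?_ ?_ hq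
      · by_contra hev
        have hev' : (2 : ℤ) ∣ r := by omega
        obtain ⟨k, hk⟩ := IsPGroup.iff_orderOf.mp P.2 u
        rw [← Subgroup.orderOf_coe] at hk
        rcases Nat.eq_zero_or_pos k with rfl | hk0
        · rw [pow_zero, orderOf_eq_one_iff] at hk
          exact hu2 (Subtype.ext (by simp [hk]))
        obtain ⟨j, rfl⟩ : ∃ j, k = j + 1 := ⟨k - 1, by omega⟩
        obtain ⟨s, rfl⟩ := hev'
        have h1 : (g ^ 2 ^ e * u * (g ^ 2 ^ e)⁻¹) ^ (2 ^ j) = 1 := by
          rw [hr, ← zpow_natCast, ← zpow_mul,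
            show 2 * s * ((2 ^ j : ℕ) : ℤ) = ((2 ^ (j + 1) : ℕ) : ℤ) * s by push_cast; ring,
            zpow_mul, zpow_natCast, ← hk, pow_orderOf_eq_one, one_zpow]
        rw [conj_pow, mul_inv_eq_one, mul_eq_left] at h1
        have := Nat.le_of_dvd (by positivity) (orderOf_dvd_of_pow_eq_one h1)
        rw [hk, pow_succ] at this
        have := Nat.two_pow_pos j
        omega
      · obtain ⟨k, hk⟩ := P.2 u
        exact ⟨k, by simpa using congrArg Subtype.val hk⟩
    -- write `g` through its two parts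
    have hgcd : m.Coprime (2 ^ e) :=
      ((Nat.prime_two.coprime_iff_not_dvd).mpr hm).symm.pow_right e
    have hb := Nat.gcd_eq_gcd_ab m (2 ^ e)
    rw [Nat.Coprime.gcd_eq_one hgcd] at hb
    set α := m.gcdA (2 ^ e)
    set β := m.gcdB (2 ^ e)
    refine ⟨(⟨_, hcP _ (Subgroup.mem_zpowers (g ^ m))⟩ : P) ^ α, ?_⟩
    rw [Subgroup.coe_zpow, conj_zpow, hcommN c hc _ (zpow_mem hN2 _)]
    have hg' : g = (g ^ m) ^ α * (g ^ 2 ^ e) ^ β := by
      conv_lhs => rw [← zpow_one g, show (1 : ℤ) = ((1 : ℕ) : ℤ) from rfl, hb, zpow_add, zpow_mul,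
        zpow_mul, zpow_natCast, zpow_natCast]
    conv_rhs => rw [hg']
    rw [show (g ^ m) ^ α * (g ^ 2 ^ e) ^ β * u * ((g ^ m) ^ α * (g ^ 2 ^ e) ^ β)⁻¹ =
      (g ^ m) ^ α * ((g ^ 2 ^ e) ^ β * u * ((g ^ 2 ^ e) ^ β)⁻¹) * ((g ^ m) ^ α)⁻¹ by group,
      (hodd.zpow_left β).eq, mul_inv_cancel_right]
  · have hCN : (Subgroup.centralizer ({(u : G)} : Set G)) ≤ N := fun x hx => hmemN x (by
      rw [Subgroup.mem_centralizer_singleton_iff.mp hx, mul_inv_cancel_right]
      exact Subgroup.mem_zpowers _)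
    obtain ⟨c, hc, hcP⟩ := exists_conj_mem_sylow P hPN
      ((Subgroup.map_subtype_le (S : Subgroup (Subgroup.centralizer ({(u : G)} : Set G)))).trans hCN) (S.2.map (Subgroup.centralizer ({(u : G)} : Set G)).subtype)
    have hcA : ∀ s : S, ∃ q : P, q ∈ Subgroup.zpowers a ∧ (q : G) = c * ((s : (Subgroup.centralizer ({(u : G)} : Set G))) : G) * c⁻¹ := by
      intro s
      refine ⟨⟨_, hcP _ ⟨_, s.2, rfl⟩⟩, ?_, rfl⟩
      rw [← hcent, Subgroup.mem_centralizer_singleton_iff]
      refine Subtype.ext ?_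
      have h := hcommN c hc _ (hCN (s : (Subgroup.centralizer ({(u : G)} : Set G))).2)
      rw [Subgroup.mem_centralizer_singleton_iff.mp (s : (Subgroup.centralizer ({(u : G)} : Set G))).2, mul_inv_cancel_right] at h
      exact mul_inv_eq_iff_eq_mul.mp h
    choose q hq hqv using hcA
    let φ : S →* Subgroup.zpowers a :=
      { toFun := fun s => ⟨q s, hq s⟩
        map_one' := Subtype.ext (Subtype.ext (by simp [hqv]))
        map_mul' := fun s t => Subtype.ext (Subtype.ext (by simp [hqv, mul_assoc])) }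
    have hφ : Function.Injective φ := fun s t e => by
      have h := congrArg (fun x : Subgroup.zpowers a => ((x : P) : G)) e
      simp only [φ, MonoidHom.coe_mk, OneHom.coe_mk, hqv] at h
      exact Subtype.ext (Subtype.ext (mul_left_cancel (mul_right_cancel h)))
    refine ⟨isCyclic_of_injective φ hφ, le_antisymm ?_ ?_⟩
    · rw [← ha, ← Nat.card_zpowers]
      exact Nat.card_le_card_of_injective φ hφ
    · set A' := (Subgroup.zpowers (a : G)).subgroupOf (Subgroup.centralizer ({(u : G)} : Set G))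
      have hA' : Nat.card A' = 2 ^ n := by
        rw [Nat.card_congr (Subgroup.subgroupOfEquivOfLe (Subgroup.zpowers_le.mpr
          (Subgroup.mem_centralizer_singleton_iff.mpr
            (congrArg Subtype.val (hcomm a (Subgroup.mem_zpowers a)).eq)))).toEquiv, Nat.card_zpowers,
          Subgroup.orderOf_coe, ha]
      obtain ⟨T, hT⟩ := (IsPGroup.of_card hA').exists_le_sylow
      have hST : Nat.card S = Nat.card T := (S.card_eq_multiplicity).trans T.card_eq_multiplicity.symm
      rw [← hA', hST]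
      exact Subgroup.card_le_of_le hT

/-- The virtual character of norm three of a quaternion group of order at least 16. -/
theorem exists_large_theta (P : Sylow 2 G) [Fintype P] {a : P} {n : ℕ} (hn : 3 ≤ n)
    (ha : orderOf a = 2 ^ n) (hidx : (Subgroup.zpowers a).index = 2)
    (hout : ∀ x : P, x ∉ Subgroup.zpowers a → x * a * x⁻¹ = a⁻¹) :
    ∃ θ : P → ℂ, IsGeneralizedCharacter P θ ∧
      (∀ y : P, (y : G) ∉ {y : G | y ∈ Subgroup.zpowers (a : G) ∧ y * y ≠ 1} → θ y = 0) ∧
      classInner θ θ = 3 ∧ classInner θ (fun _ => (1 : ℂ)) = 1 := by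
  classical
  set X := Subgroup.zpowers a with hX
  have : X.Normal := Subgroup.normal_of_index_eq_two hidx
  set U : Set G := {y | y ∈ Subgroup.zpowers (a : G) ∧ y * y ≠ 1}
  have hXU : ∀ y : P, y ∈ X → y * y ≠ 1 → (y : G) ∈ U := fun y hy hy2 => by
    obtain ⟨k, hk⟩ := Subgroup.mem_zpowers_iff.mp hy
    exact ⟨⟨k, by rw [← hk]; simp⟩, fun h => hy2 (Subtype.ext h)⟩
  -- the linear character of order four
  set i : ℂˣ := Units.mk0 Complex.I Complex.I_ne_zero
  have hi : orderOf i = 4 := by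
    rw [orderOf_eq_prime_pow (p := 2) (n := 1)]
    · norm_num
    · intro h
      have := congrArg (Units.val) h
      simp [i] at this
      norm_num at this
    · refine Units.ext ?_
      simp [i]
  set a' : X := ⟨a, Subgroup.mem_zpowers a⟩
  have hgen : ∀ x : X, x ∈ Subgroup.zpowers a' := fun x => by
    obtain ⟨k, hk⟩ := Subgroup.mem_zpowers_iff.mp x.2
    exact ⟨k, Subtype.ext (by simpa using hk)⟩
  have hdvd : orderOf i ∣ orderOf a' := by
    rw [hi, ← Subgroup.orderOf_coe, ha]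
    exact (show 4 = 2 ^ 2 by norm_num) ▸ pow_dvd_pow 2 (by omega)
  set lam : X →* ℂˣ := monoidHomOfForallMemZpowers hgen hdvd
  have hlama : lam a' = i := monoidHomOfForallMemZpowers_apply_gen hgen hdvd
  set φ : X → ℂ := fun x => 1 - (lam x : ℂ) with hφdef
  have hlam1 : ∀ x : X, x * x = 1 → lam x = 1 := by
    intro x hx
    obtain ⟨k, rfl⟩ := hgen x
    simp only at hx ⊢
    have h2 : ((2 ^ n : ℕ) : ℤ) ∣ k + k := by
      rw [← ha, orderOf_dvd_iff_zpow_eq_one, zpow_add]
      simpa [a'] using congrArg Subtype.val hx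
    rw [map_zpow, hlama, ← orderOf_dvd_iff_zpow_eq_one, hi]
    obtain ⟨m, rfl⟩ : ∃ m, n = m + 3 := ⟨n - 3, by omega⟩
    obtain ⟨q, hq⟩ := h2
    exact ⟨(2 : ℤ) ^ m * q, by push_cast at hq ⊢; rw [pow_add] at hq; linarith [hq]⟩
  have hφ : IsGeneralizedCharacter X φ := Char.isGeneralized_sub Char.isGeneralized_one
    (Char.isGeneralized_of_isCharacter (Char.isCharacter_monoidHom lam))
  set θ : P → ℂ := indFun X φ
  have hθ : IsGeneralizedCharacter P θ := Char.isGeneralized_indFun X hφ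
  have hθU : ∀ y : P, (y : G) ∉ U → θ y = 0 := by
    intro y hy
    refine mul_eq_zero_of_right _ (Finset.sum_eq_zero fun x _ => ?_)
    by_cases hm : x⁻¹ * y * x ∈ X
    · rw [Char.extendByZero_mem X φ hm]
      have hyX : y ∈ X := by simpa [mul_assoc] using Subgroup.Normal.conj_mem ‹X.Normal› _ hm x
      have hy2 : y * y = 1 := by_contra fun h => hy (hXU y hyX h)
      show 1 - _ = (0 : ℂ)
      rw [hlam1 _ (Subtype.ext (by
        show x⁻¹ * y * x * (x⁻¹ * y * x) = 1
        rw [show x⁻¹ * y * x * (x⁻¹ * y * x) = x⁻¹ * (y * y) * x by group, hy2]; group)),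
        Units.val_one, sub_self]
    · exact Char.extendByZero_notMem X φ hm
  -- norm three
  obtain ⟨w, hw⟩ : ∃ w : P, w ∉ X := by
    by_contra h
    push Not at h
    rw [show X = ⊤ from eq_top_iff.mpr fun x _ => h x, Subgroup.index_top] at hidx
    omega
  have hres : (fun x : X => θ x) = fun x => φ x + φ x⁻¹ := by
    funext x
    rw [show θ x = _ from Char.indFun_apply_of_normal X φ x]
    have hterm : ∀ g : P, φ ⟨g * x * g⁻¹, Subgroup.Normal.conj_mem ‹X.Normal› (x : P) x.2 g⟩ =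
        if g ∈ X then φ x else φ x⁻¹ := by
      intro g
      obtain ⟨k, hk⟩ := Subgroup.mem_zpowers_iff.mp x.2
      split_ifs with hg
      · obtain ⟨j, hj⟩ := Subgroup.mem_zpowers_iff.mp hg
        congr 1
        refine Subtype.ext ?_
        show g * (x : P) * g⁻¹ = x
        rw [← hk, ← hj, (Commute.zpow_zpow (Commute.refl a) _ _).eq, mul_inv_cancel_right]
      · congr 1
        refine Subtype.ext ?_
        show g * (x : P) * g⁻¹ = ((x : P))⁻¹
        rw [← hk, ← conj_zpow, hout g hg, inv_zpow]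
    rw [Finset.sum_congr rfl fun g _ => hterm g]
    have hflip : ∀ g : P, (w * g ∈ X ↔ g ∉ X) := fun g => by
      rw [Subgroup.mul_mem_iff_of_index_two hidx]
      exact ⟨fun h hg => hw (h.mpr hg), fun h => iff_of_false hw h⟩
    have hcard : (Nat.card X : ℂ) * 2 = Fintype.card P := by
      have h := X.card_mul_index
      rw [hidx] at h
      exact_mod_cast (h.trans Nat.card_eq_fintype_card : Nat.card X * 2 = Fintype.card P)
    have hX0 : (Nat.card X : ℂ) ≠ 0 := Nat.cast_ne_zero.mpr Nat.card_pos.ne'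
    have h2 : 2 * ∑ g : P, (if g ∈ X then φ x else φ x⁻¹) =
        (Fintype.card P : ℂ) * (φ x + φ x⁻¹) := by
      rw [two_mul]
      refine Eq.trans (congrArg₂ (· + ·) rfl (Equiv.sum_comp (Equiv.mulLeft w) _).symm) ?_
      refine Eq.trans Finset.sum_add_distrib.symm ?_
      refine (Finset.sum_congr rfl (g := fun _ => φ x + φ x⁻¹) fun g _ => ?_).trans ?_
      · simp only [Equiv.coe_mulLeft, hflip]
        by_cases hg : g ∈ X <;> simp [hg, add_comm]
      · rw [Finset.sum_const, nsmul_eq_mul]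
        rfl
    rw [← hcard] at h2
    rw [inv_mul_eq_iff_eq_mul₀ hX0]
    linear_combination h2 / 2
  have hne1 : lam ≠ 1 := fun h => by
    have := hlama
    rw [h, MonoidHom.one_apply] at this
    rw [← this, orderOf_one] at hi
    omega
  have hne2 : lam ≠ lam⁻¹ := fun h => by
    have h' := congrArg (fun f : X →* ℂˣ => f a') h
    simp only [MonoidHom.inv_apply, hlama] at h'
    have h4 : i ^ 2 = 1 := by rw [pow_two]; exact mul_eq_one_iff_eq_inv.mpr h'
    have := orderOf_dvd_of_pow_eq_one h4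
    rw [hi] at this
    omega
  have hinner : ∀ f g : X →* ℂˣ, classInner (fun x : X => (f x : ℂ)) (fun x : X => (g x : ℂ)) =
      if f = g then 1 else 0 := by
    intro f g
    split_ifs with h
    · subst h
      exact Char.classInner_irr_self (Char.isIrrCharacter_monoidHom f)
    · refine Char.classInner_irr_ne (Char.isIrrCharacter_monoidHom f) (Char.isIrrCharacter_monoidHom g)
        fun e => h (MonoidHom.ext fun x => Units.ext (congrFun e x))
  have hnorm : classInner θ θ = 3 := by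
    rw [Char.frobenius_reciprocity X φ (Char.isClassFunction_of_isGeneralized hθ), hres]
    have e1 : φ = (fun x : X => ((1 : X →* ℂˣ) x : ℂ)) - fun x : X => (lam x : ℂ) :=
      funext fun x => by simp [hφdef]
    have e2 : (fun x : X => φ x + φ x⁻¹) = (fun x : X => ((1 : X →* ℂˣ) x : ℂ)) +
        (fun x : X => ((1 : X →* ℂˣ) x : ℂ)) - (fun x : X => (lam x : ℂ)) -
        fun x : X => ((lam⁻¹ : X →* ℂˣ) x : ℂ) := funext fun x => by
      simp [hφdef, map_inv]; ring
    rw [e2, e1, Char.classInner_sub_right, Char.classInner_sub_right, Char.classInner_add_right,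
      Char.classInner_sub_left, Char.classInner_sub_left, Char.classInner_sub_left, hinner, hinner,
      hinner, hinner, hinner, hinner, if_pos rfl, if_pos rfl, if_neg hne1, if_neg hne1.symm,
      if_neg (fun h => hne1 (MonoidHom.ext fun x => inv_eq_one.mp (DFunLike.congr_fun h x).symm)), if_neg hne2]
    norm_num
  refine ⟨θ, hθ, hθU, hnorm, ?_⟩
  rw [Char.frobenius_reciprocity X φ (fun _ _ => rfl)]
  have e1 : φ = (fun x : X => ((1 : X →* ℂˣ) x : ℂ)) - fun x : X => (lam x : ℂ) :=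
    funext fun x => by simp [hφdef]
  have e3 : (fun _ : X => (1 : ℂ)) = fun x : X => ((1 : X →* ℂˣ) x : ℂ) := funext fun x => by simp
  rw [e3, e1, Char.classInner_sub_left, hinner, hinner, if_pos rfl, if_neg hne1, sub_zero]

/-- The case of a quaternion Sylow subgroup of order at least 16. -/
theorem exists_normal_of_large (P : Sylow 2 G) {t : G} (ht : orderOf t = 2)
    (hone : ∀ y : G, orderOf y = 2 → Commute t y → y = t) {a : P} {n : ℕ} (hn : 3 ≤ n)
    (ha : orderOf a = 2 ^ n) (hidx : (Subgroup.zpowers a).index = 2)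
    (hout : ∀ x : P, x ∉ Subgroup.zpowers a → x * a * x⁻¹ = a⁻¹) :
    ∃ K : Subgroup G, K.Normal ∧ K ≠ ⊤ ∧ t ∈ K := by
  classical
  obtain ⟨M, hM⟩ := Blocks.exists_isPModular (p := 2) Nat.prime_two
  have := Blocks.isPrime_of_isPModular hM
  set X := Subgroup.zpowers a with hX
  have : X.Normal := Subgroup.normal_of_index_eq_two hidx
  set U : Set G := {y | y ∈ Subgroup.zpowers (a : G) ∧ y * y ≠ 1}
  have hUX : ∀ y : P, (y : G) ∈ U → y ∈ X ∧ y * y ≠ 1 := fun y hy => by
    obtain ⟨k, hk⟩ := Subgroup.mem_zpowers_iff.mp hy.1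
    exact ⟨⟨k, Subtype.ext (by simpa using hk)⟩, fun h => hy.2 (congrArg Subtype.val h)⟩
  have hXU : ∀ y : P, y ∈ X → y * y ≠ 1 → (y : G) ∈ U := fun y hy hy2 => by
    obtain ⟨k, hk⟩ := Subgroup.mem_zpowers_iff.mp hy
    exact ⟨⟨k, by rw [← hk]; simp⟩, fun h => hy2 (Subtype.ext h)⟩
  have hUP : U ⊆ ((P : Subgroup G) : Set G) := fun y hy => (Subgroup.zpowers_le.mpr a.2) hy.1
  -- no conjugate of `t` inverts an element of `U`
  have hinv : ∀ u ∈ U, ∀ g : G, (g * t * g⁻¹) * u * (g * t * g⁻¹)⁻¹ ≠ u⁻¹ := by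
    intro u hu g h
    obtain ⟨k, hk⟩ := IsPGroup.iff_orderOf.mp P.2 ⟨u, hUP hu⟩
    rw [← Subgroup.orderOf_coe] at hk
    simp only at hk
    obtain ⟨j, rfl⟩ : ∃ j, k = j + 1 := Nat.exists_eq_succ_of_ne_zero fun h0 => hu.2 (by
      rw [orderOf_eq_one_iff.mp (hk.trans (by rw [h0, pow_zero])), one_mul])
    set s := u ^ 2 ^ j with hs
    have hs2 : orderOf s = 2 := by
      rw [orderOf_pow_of_dvd (by positivity) (hk ▸ ⟨2, pow_succ 2 j⟩), hk, pow_succ,
        Nat.mul_div_cancel_left _ (by positivity)]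
    have hcs : Commute (g * t * g⁻¹) s := by
      refine mul_inv_eq_iff_eq_mul.mp ?_
      rw [hs, ← conj_pow, h, inv_pow, Invol.inv_of_orderOf_two hs2]
    have he : g⁻¹ * s * g = t := hone _ (by
      have h' := Invol.conj_orderOf_two hs2 g⁻¹
      rwa [inv_inv] at h') (by
      have h' := hcs.map (MulAut.conj g⁻¹).toMonoidHom
      simpa [mul_assoc] using h')
    have hs' : g * t * g⁻¹ = s := by rw [← he]; group
    rw [hs', hs, (Commute.pow_self u (2 ^ j)).eq, mul_inv_cancel_right] at h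
    exact hu.2 (mul_eq_one_iff_eq_inv.mpr h)
  obtain ⟨θ, hθ, hθU, hnorm, h⟩ := exists_large_theta P hn ha hidx hout
  have hmean : (Nat.card P : ℂ)⁻¹ * ∑ᶠ y : P, θ y ≠ 0 := by
    simp only [classInner, map_one, mul_one] at h
    rw [finsum_eq_sum_of_fintype]
    exact h.trans_ne one_ne_zero
  have hfour := (Cfsg.Agent.S4722.result M hM (P : Subgroup G) P.2 U hUP t ht hinv θ hθ hθU).2.2.2
    hmean
  rcases hfour with ⟨hpos, hneg⟩ | ⟨K, h1, h2, -, h4⟩
  swap
  · exact ⟨K, h1, h2, h4⟩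
  exfalso
  set B := principalBlock M G
  have hsq := Blocks.sum_principal_coeff_sq hM (P : Subgroup G) P.2 U
    (Char.isClassFunction_of_isGeneralized hθ) hθU (fun u hu v hv hc => by
      obtain ⟨g, hg⟩ := isConj_iff.mp hc
      obtain ⟨q, hq⟩ := (local_structure P ha hout (hUX u hu).1 (hUX u hu).2).2.1 g (hg ▸ hv.1)
      exact isConj_iff.mpr ⟨q, Subtype.ext (hq.trans hg)⟩) (fun u hu => by
      obtain ⟨hc, -, hsyl⟩ := local_structure P ha hout (hUX u hu).1 (hUX u hu).2
      obtain ⟨S⟩ := (inferInstance : Nonempty (Sylow 2 (Subgroup.centralizer ({(u : G)} : Set G))))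
      rw [Blocks.sum_sq_degree_principal_of_npc hM (hasNormalPComplement_of_cyclic S (hsyl S).1) S,
        (hsyl S).2, hc, Nat.card_zpowers, ha])
  rw [hnorm] at hsq
  have hcoeff : ∀ χ : IrrCharacter G, ∃ m : ℤ,
      classInner θ (fun y : (P : Subgroup G) => (χ : G → ℂ) y) = m ∧
      (Nat.card (P : Subgroup G) : ℂ)⁻¹ *
        ∑ᶠ y : (P : Subgroup G), (χ : G → ℂ) (y : G) * θ y⁻¹ = m := by
    intro χ
    obtain ⟨m, hm⟩ := Char.exists_int_classInner hθ (ψ := fun y : P => (χ : G → ℂ) y)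
      (Char.isGeneralized_restrict _ (Char.isGeneralized_of_isIrr χ.2))
    refine ⟨m, hm, ?_⟩
    rw [← hm, classInner, finsum_eq_sum_of_fintype]
    congr 1
    refine Fintype.sum_equiv (Equiv.inv P) _ _ fun y => ?_
    rw [Equiv.inv_apply, Subgroup.coe_inv, Blocks.irr_value_inv χ.2, Complex.conj_conj, mul_comm]
  choose m hm hm' using hcoeff
  simp only [hm, map_intCast] at hsq
  simp only [hm', Complex.intCast_re, Int.cast_pos, Int.cast_lt_zero] at hpos hneg
  have h3 : ∑ χ : IrrCharacter G with χ ∈ B, m χ * m χ = 3 := by exact_mod_cast hsq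
  have hcard : ∀ q : IrrCharacter G → Prop, Nat.card {χ : IrrCharacter G // χ ∈ B ∧ q χ} =
      ((Finset.univ.filter (· ∈ B)).filter q).card := by
    intro q
    rw [Finset.filter_filter, Nat.card_eq_fintype_card, Fintype.card_subtype]
  rw [hcard] at hpos hneg
  have hle : ∑ χ ∈ (Finset.univ.filter (· ∈ B)).filter (fun χ => 0 < m χ) ∪
      (Finset.univ.filter (· ∈ B)).filter (fun χ => m χ < 0), m χ * m χ ≤ 3 := by
    rw [← h3]
    exact Finset.sum_le_sum_of_subset_of_nonneg
      (Finset.union_subset (Finset.filter_subset _ _) (Finset.filter_subset _ _))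
      fun χ _ _ => mul_self_nonneg _
  have hge : (4 : ℤ) ≤ ∑ χ ∈ (Finset.univ.filter (· ∈ B)).filter (fun χ => 0 < m χ) ∪
      (Finset.univ.filter (· ∈ B)).filter (fun χ => m χ < 0), m χ * m χ := by
    refine le_trans ?_ (Finset.card_nsmul_le_sum _ _ (1 : ℤ) fun χ hχ => ?_)
    · rw [Finset.card_union_of_disjoint (Finset.disjoint_filter.mpr fun χ _ h => by omega),
        nsmul_one]
      push_cast
      refine le_trans (show (4 : ℤ) ≤ ((2 : ℕ) : ℤ) + ((2 : ℕ) : ℤ) by norm_num)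
        (add_le_add (Int.ofNat_le.mpr (le_of_le_of_eq hpos ?_))
          (Int.ofNat_le.mpr (le_of_le_of_eq hneg ?_))) <;> congr!
    · rcases Finset.mem_union.mp hχ with h | h <;>
        nlinarith [(Finset.mem_filter.mp h).2]
  omega

end CfsgLib.ZStar
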