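import Cfsg.Agent.Lib.ZStar.EightLocal

/-!
# Sylow 2-subgroups isomorphic to a quaternion group of order 8
-/

set_option autoImplicit false

namespace CfsgLib.ZStar

open Cfsg

/-- The standing data of a quaternion Sylow 2-subgroup of order 8. -/
theorem quaternion_eight_data {G : Type*} [Group G] [Fintype G] (S : Sylow 2 G)
    (e : (S : Subgroup G) ≃* QuaternionGroup 2) :
    ∃ (u : G) (a : S), orderOf u = 2 ∧ u ∈ S ∧ (∀ x : S, orderOf x = 2 → (x : G) = u) ∧
      orderOf a = 4 ∧ (Subgroup.zpowers a).index = 2 ∧ (∀ x : S, x ^ 2 ^ 2 = 1) ∧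
      (S : Subgroup G) ≤ Subgroup.centralizer ({u} : Set G) ∧
      (∀ y : G, orderOf y = 2 → Commute u y → y = u) ∧ IsIsolatedInvolution u := by
  set z : QuaternionGroup 2 := QuaternionGroup.a 2
  set a : S := e.symm (QuaternionGroup.a 1)
  set u : G := ((e.symm z : (S : Subgroup G)) : G) with hu
  have hz : orderOf z = 2 := Invol.orderOf_two_of_mul_self (by decide) (by decide)
  have hu2 : orderOf u = 2 := by rw [hu, Subgroup.orderOf_coe, MulEquiv.orderOf_eq, hz]
  have hq : ∀ q : QuaternionGroup 2, q * q = 1 → q = 1 ∨ q = z := by decide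
  have huniq : ∀ x : S, orderOf x = 2 → (x : G) = u := by
    intro x hx
    rcases hq (e x) (by rw [← map_mul, Invol.mul_self_of_orderOf_two hx, map_one]) with h | h
    · exact absurd ((map_eq_one_iff e e.injective).mp h) (Invol.ne_one_of_orderOf_two hx)
    · rw [hu, ← h, e.symm_apply_apply]
  have ha : orderOf a = 4 := by
    rw [MulEquiv.orderOf_eq, QuaternionGroup.orderOf_a_one]
  have hidx : (Subgroup.zpowers a).index = 2 := by
    have h := (Subgroup.zpowers a).card_mul_index
    have h8 : Nat.card S = 8 :=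
      (Nat.card_congr e.toEquiv).trans (Nat.card_eq_fintype_card.trans QuaternionGroup.card)
    rw [Nat.card_zpowers, ha] at h
    have h' : 4 * (Subgroup.zpowers a).index = 8 := h.trans h8
    omega
  have hmax : ∀ x : S, x ^ 2 ^ 2 = 1 := fun x => e.injective (by
    rw [map_pow, map_one]
    exact (by decide : ∀ q : QuaternionGroup 2, q ^ 2 ^ 2 = 1) (e x))
  have hPC : (S : Subgroup G) ≤ Subgroup.centralizer ({u} : Set G) := fun x hx => by
    have hux : x * u * x⁻¹ ∈ S := mul_mem (mul_mem hx (e.symm z).2) (inv_mem hx)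
    have h := huniq ⟨_, hux⟩ (by
      rw [← Subgroup.orderOf_coe]; exact (Transfer.orderOf_conj x u).trans hu2)
    exact Subgroup.mem_centralizer_singleton_iff.mpr (mul_inv_eq_iff_eq_mul.mp h)
  have hone : ∀ y : G, orderOf y = 2 → Commute u y → y = u := by
    intro y hy huy
    obtain ⟨c, hc, hcy⟩ := exists_conj_mem_sylow S hPC
      (Subgroup.zpowers_le.mpr (Subgroup.mem_centralizer_singleton_iff.mpr huy.eq.symm))
      (Transfer.isPGroup_zpowers ⟨1, hy⟩)
    have h := huniq ⟨_, hcy y (Subgroup.mem_zpowers y)⟩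
      (by rw [← Subgroup.orderOf_coe]; exact (Transfer.orderOf_conj c y).trans hy)
    have hcu : c⁻¹ * u * c = u := by
      rw [mul_assoc, ← Subgroup.mem_centralizer_singleton_iff.mp hc, ← mul_assoc, inv_mul_cancel,
        one_mul]
    calc y = c⁻¹ * (c * y * c⁻¹) * c := by group
      _ = u := by rw [show c * y * c⁻¹ = u from h, hcu]
  exact ⟨u, a, hu2, (e.symm z).2, huniq, ha, hidx, hmax, hPC, hone,
    Invol.isolated_of_sylow S hu2 (e.symm z).2 fun g hg => huniq ⟨_, hg⟩
      (by rw [← Subgroup.orderOf_coe]; exact (Transfer.orderOf_conj g u).trans hu2)⟩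

end CfsgLib.ZStar
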