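import Cfsg.Agent.Lib.ZStar.Large

/-!
# Sylow 2-subgroups isomorphic to a generalized quaternion group of order at least 16
-/

set_option autoImplicit false

namespace CfsgLib.ZStar

open Cfsg QuaternionGroup
open scoped commutatorElement

/-- Outside the cyclic subgroup of index two every element inverts it. -/
theorem quaternion_conj {m : ℕ} [NeZero m] (q : QuaternionGroup m)
    (hq : q ∉ Subgroup.zpowers (a 1 : QuaternionGroup m)) :
    q * a 1 * q⁻¹ = (a 1 : QuaternionGroup m)⁻¹ := by
  rcases q with i | i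
  · exact absurd ⟨i.val, by simp only; rw [zpow_natCast, a_one_pow, ZMod.natCast_zmod_val]⟩ hq
  · have h : (a 1 : QuaternionGroup m)⁻¹ = a (-1) := rfl
    rw [mul_inv_eq_iff_eq_mul, h, xa_mul_a, a_mul_xa, sub_neg_eq_add]

/-- The standing data of a generalized quaternion Sylow 2-subgroup of order `2 ^ (n + 4)`. -/
theorem quaternion_large_data {G : Type*} [Group G] [Fintype G] (S : Sylow 2 G) (n : ℕ)
    (e : (S : Subgroup G) ≃* QuaternionGroup (2 ^ (n + 2))) :
    ∃ (u : G) (a : S), orderOf u = 2 ∧ u ∈ S ∧ orderOf a = 2 ^ (n + 3) ∧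
      (Subgroup.zpowers a).index = 2 ∧
      (∀ x : S, x ∉ Subgroup.zpowers a → x * a * x⁻¹ = a⁻¹) ∧
      (∀ x : S, orderOf x = 2 → (x : G) = u) ∧
      ⁅(S : Subgroup G), (S : Subgroup G)⁆ = Subgroup.zpowers ((a * a : S) : G) ∧
      (∀ y : G, orderOf y = 2 → Commute u y → y = u) ∧ IsIsolatedInvolution u := by
  classical
  have hm : NeZero (2 ^ (n + 2)) := ⟨by positivity⟩
  set b : QuaternionGroup (2 ^ (n + 2)) := QuaternionGroup.a 1 with hb
  set a : S := e.symm b
  have hob : orderOf b = 2 ^ (n + 3) := by rw [hb, orderOf_a_one]; ring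
  have ha : orderOf a = 2 ^ (n + 3) := by rw [MulEquiv.orderOf_eq, hob]
  have hidx : (Subgroup.zpowers a).index = 2 := by
    have h := (Subgroup.zpowers a).card_mul_index
    have h8 : Nat.card S = 2 ^ (n + 3) * 2 :=
      (Nat.card_congr e.toEquiv).trans (Nat.card_eq_fintype_card.trans
        (QuaternionGroup.card.trans (by ring)))
    rw [Nat.card_zpowers, ha] at h
    exact Nat.eq_of_mul_eq_mul_left (by positivity) (h.trans h8)
  have hout : ∀ x : S, x ∉ Subgroup.zpowers a → x * a * x⁻¹ = a⁻¹ := by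
    intro x hx
    have hq : e x ∉ Subgroup.zpowers b := by
      rintro ⟨k, hk⟩
      exact hx ⟨k, e.injective (by simp [a, hk.symm])⟩
    apply e.injective
    simpa [a] using quaternion_conj (e x) hq
  -- the involution
  set u' : S := a ^ 2 ^ (n + 2)
  have hu' : orderOf u' = 2 := by
    rw [orderOf_pow_of_dvd (by positivity) (ha ▸ ⟨2, pow_succ 2 (n + 2)⟩), ha, pow_succ,
      Nat.mul_div_cancel_left _ (by positivity)]
  have huniq : ∀ x : S, orderOf x = 2 → (x : G) = u' := by
    intro x hx
    have hxa : x ∈ Subgroup.zpowers a := by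
      by_contra hxa
      have h1 : e x * e x = 1 := by rw [← map_mul, Invol.mul_self_of_orderOf_two hx, map_one]
      have hq : e x ∉ Subgroup.zpowers b := by
        rintro ⟨k, hk⟩
        exact hxa ⟨k, e.injective (by simp [a, hk.symm])⟩
      rcases hex : e x with i | i
      · exact hq ⟨i.val, by simp only; rw [hex, zpow_natCast, hb, a_one_pow, ZMod.natCast_zmod_val]⟩
      · rw [hex, xa_mul_xa, one_def] at h1
        injection h1 with h2
        have h3 : ((2 ^ (n + 2) : ℕ) : ZMod (2 * 2 ^ (n + 2))) = 0 := by linear_combination h2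
        rw [ZMod.natCast_eq_zero_iff] at h3
        have := Nat.le_of_dvd (by positivity) h3
        have := Nat.two_pow_pos (n + 2)
        omega
    obtain ⟨j, hj⟩ := Subgroup.mem_zpowers_iff.mp
      (mem_zpowers_of_orderOf_eq (pow_mem (Subgroup.mem_zpowers a) (2 ^ (n + 2))) hxa
        (hx.trans hu'.symm) : x ∈ Subgroup.zpowers u')
    rcases Int.even_or_odd j with ⟨k, rfl⟩ | ⟨k, rfl⟩
    · exfalso
      rw [← two_mul, zpow_mul, zpow_ofNat, pow_two, Invol.mul_self_of_orderOf_two hu', one_zpow]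
        at hj
      exact Invol.ne_one_of_orderOf_two hx hj.symm
    · rw [zpow_add_one, zpow_mul, zpow_ofNat, pow_two, Invol.mul_self_of_orderOf_two hu', one_zpow,
        one_mul] at hj
      rw [← hj]
  have hiso : IsIsolatedInvolution (u' : G) := by
    refine Invol.isolated_of_sylow S ((Subgroup.orderOf_coe u').trans hu') u'.2 fun g hg =>
      huniq ⟨_, hg⟩ ?_
    rw [← Subgroup.orderOf_coe]
    exact (Transfer.orderOf_conj g _).trans ((Subgroup.orderOf_coe u').trans hu')
  have hone : ∀ y : G, orderOf y = 2 → Commute (u' : G) y → y = u' := by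
    intro y hy huy
    have hPC : (S : Subgroup G) ≤ Subgroup.centralizer ({(u' : G)} : Set G) := fun x hx => by
      have h := huniq ⟨x * (u' : G) * x⁻¹, mul_mem (mul_mem hx u'.2) (inv_mem hx)⟩ (by
        rw [← Subgroup.orderOf_coe]
        exact (Transfer.orderOf_conj x _).trans ((Subgroup.orderOf_coe u').trans hu'))
      exact Subgroup.mem_centralizer_singleton_iff.mpr (mul_inv_eq_iff_eq_mul.mp h)
    obtain ⟨c, hc, hcy⟩ := exists_conj_mem_sylow S hPC
      (Subgroup.zpowers_le.mpr (Subgroup.mem_centralizer_singleton_iff.mpr huy.eq.symm))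
      (Transfer.isPGroup_zpowers ⟨1, hy⟩)
    have h := huniq ⟨_, hcy y (Subgroup.mem_zpowers y)⟩
      (by rw [← Subgroup.orderOf_coe]; exact (Transfer.orderOf_conj c y).trans hy)
    have hcu : c⁻¹ * (u' : G) * c = u' := by
      rw [mul_assoc, ← Subgroup.mem_centralizer_singleton_iff.mp hc, ← mul_assoc, inv_mul_cancel,
        one_mul]
    calc y = c⁻¹ * (c * y * c⁻¹) * c := by group
      _ = u' := by rw [show c * y * c⁻¹ = (u' : G) from h, hcu]
  -- the commutator subgroup
  obtain ⟨w, hw⟩ : ∃ w : S, w ∉ Subgroup.zpowers a := by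
    by_contra h
    push Not at h
    rw [show Subgroup.zpowers a = ⊤ from eq_top_iff.mpr fun x _ => h x, Subgroup.index_top] at hidx
    omega
  have hcomm : _root_.commutator S = Subgroup.zpowers (a * a) := by
    refine le_antisymm ?_ (Subgroup.zpowers_le.mpr ?_)
    · haveI hA : (Subgroup.zpowers a).Normal := Subgroup.normal_of_index_eq_two hidx
      have hsgn : ∀ x : S, ∀ k : ℤ,
          ⁅x, a ^ k⁆ ∈ Subgroup.zpowers (a * a) := by
        intro x k
        rw [commutatorElement_def, ← conj_zpow]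
        by_cases hx : x ∈ Subgroup.zpowers a
        · obtain ⟨i, rfl⟩ := hx
          rw [show (fun i : ℤ => a ^ i) i * a * ((fun i : ℤ => a ^ i) i)⁻¹ = a by group,
            mul_inv_cancel]
          exact one_mem _
        · rw [hout x hx, inv_zpow', ← zpow_neg, ← zpow_add]
          exact ⟨-k, by simp only; rw [← pow_two, ← zpow_natCast, ← zpow_mul]; congr 1; push_cast; ring⟩
      haveI hN : (Subgroup.zpowers (a * a)).Normal := ⟨fun z hz x => by
        obtain ⟨k, rfl⟩ := hz
        show x * (a * a) ^ k * x⁻¹ ∈ Subgroup.zpowers (a * a)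
        have e1 : x * (a * a) ^ k * x⁻¹ = ⁅x, a ^ (2 * k)⁆ * (a * a) ^ k := by
          rw [commutatorElement_def, zpow_mul, zpow_ofNat, pow_two, inv_mul_cancel_right]
        rw [e1]
        exact mul_mem (hsgn x _) (zpow_mem (Subgroup.mem_zpowers _) k)⟩
      rw [_root_.commutator_def, Subgroup.commutator_le]
      intro x _ y _
      set π := QuotientGroup.mk' (Subgroup.zpowers (a * a))
      rw [← QuotientGroup.ker_mk' (Subgroup.zpowers (a * a)), MonoidHom.mem_ker,
        map_commutatorElement, commutatorElement_eq_one_iff_commute]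
      have hpa : ∀ x : S, Commute (π x) (π a) := fun x => by
        rw [← commutatorElement_eq_one_iff_commute, ← map_commutatorElement, ← MonoidHom.mem_ker,
          QuotientGroup.ker_mk']
        simpa using hsgn x 1
      have hcases : ∀ x : S, ∃ k : ℤ, x = a ^ k ∨ x = w * a ^ k := fun x => by
        by_cases hx : x ∈ Subgroup.zpowers a
        · obtain ⟨k, rfl⟩ := hx; exact ⟨k, Or.inl rfl⟩
        · have h : w⁻¹ * x ∈ Subgroup.zpowers a := by
            rw [Subgroup.mul_mem_iff_of_index_two hidx, Subgroup.inv_mem_iff]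
            exact iff_of_false hw hx
          obtain ⟨k, hk⟩ := h
          exact ⟨k, Or.inr (by simp only at hk; rw [hk, mul_inv_cancel_left])⟩
      obtain ⟨i, rfl | rfl⟩ := hcases x
      · rw [map_zpow]
        exact ((hpa y).zpow_right i).symm
      · obtain ⟨j, rfl | rfl⟩ := hcases y
        · rw [map_zpow π a j]
          exact (hpa _).zpow_right j
        · rw [map_mul π w, map_mul π w, map_zpow, map_zpow]
          exact (((Commute.refl (π w)).mul_right ((hpa w).zpow_right j))).mul_left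
            (((hpa w).zpow_right i).symm.mul_right (((Commute.refl (π a)).zpow_zpow i j)))
    · have h : a * a = ⁅a, w⁆ := by
        rw [commutatorElement_def]
        calc a * a = a * (w * a * w⁻¹)⁻¹ := by rw [hout w hw, inv_inv]
          _ = a * w * a⁻¹ * w⁻¹ := by group
      rw [h]
      exact Subgroup.commutator_mem_commutator (Subgroup.mem_top a) (Subgroup.mem_top w)
  refine ⟨u', a, (Subgroup.orderOf_coe u').trans hu', u'.2, ha, hidx, hout, huniq, ?_, hone, hiso⟩
  rw [← Subgroup.map_subtype_commutator, hcomm, MonoidHom.map_zpowers]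
  rfl

/-- The centralizer and normalizer of the commutator subgroup of the Sylow subgroup. -/
theorem quaternion_commutator_data {G : Type*} [Group G] [Fintype G] (S : Sylow 2 G) (n : ℕ)
    (e : (S : Subgroup G) ≃* QuaternionGroup (2 ^ (n + 2))) (D : Subgroup G)
    (hD : D = ⁅(S : Subgroup G), (S : Subgroup G)⁆) :
    ∃ d : G, orderOf d = 2 ^ (n + 2) ∧ Nat.card D = 2 ^ (n + 2) ∧ D = Subgroup.zpowers d ∧
      d ∈ (S : Subgroup G) ∧
      Subgroup.centralizer (D : Set G) = Subgroup.centralizer {d} ∧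
      (S : Subgroup G) ≤ Subgroup.normalizer (D : Set G) ∧
      (∀ g ∈ Subgroup.normalizer (D : Set G),
        ∃ q ∈ (S : Subgroup G), q⁻¹ * g ∈ Subgroup.centralizer (D : Set G)) ∧
      (∀ T : Sylow 2 (Subgroup.centralizer (D : Set G)),
        IsCyclic (T : Subgroup (Subgroup.centralizer (D : Set G))) ∧ Nat.card T = 2 ^ (n + 3)) ∧
      Nat.card ↥((S : Subgroup G) ⊓ Subgroup.centralizer (D : Set G)) = 2 ^ (n + 3) ∧
      ∃ w ∈ (S : Subgroup G), w ∉ Subgroup.centralizer (D : Set G) ∧
        ∀ q ∈ (S : Subgroup G), q ∈ Subgroup.centralizer (D : Set G) ∨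
          w⁻¹ * q ∈ Subgroup.centralizer (D : Set G) := by
  obtain ⟨-, a, -, -, ha, hidx, hout, -, hDe, -, -⟩ := quaternion_large_data S n e
  rw [hDe] at hD
  set v : S := a * a with hv
  have hov : orderOf v = 2 ^ (n + 2) := by
    rw [hv, ← pow_two, orderOf_pow_of_dvd two_ne_zero (ha ▸ dvd_pow_self 2 (by omega)), ha,
      pow_succ, Nat.mul_div_cancel _ two_pos]
  have hv2 : v * v ≠ 1 := fun h => by
    have := Nat.le_of_dvd two_pos (orderOf_dvd_of_pow_eq_one ((pow_two v).trans h))
    rw [hov] at this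
    have := Nat.pow_le_pow_right two_pos (show 2 ≤ n + 2 by omega)
    omega
  have hva : v ∈ Subgroup.zpowers a := mul_mem (Subgroup.mem_zpowers a) (Subgroup.mem_zpowers a)
  obtain ⟨hcent, hfus, hsyl⟩ := local_structure S ha hout hva hv2
  have hC : Subgroup.centralizer (D : Set G) = Subgroup.centralizer {(v : G)} := by
    rw [hD, Subgroup.zpowers_eq_closure, Subgroup.centralizer_closure]
  have hmem : ∀ q : S, (q : G) ∈ Subgroup.centralizer (D : Set G) ↔ q ∈ Subgroup.zpowers a := by
    intro q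
    rw [hC, ← hcent, Subgroup.mem_centralizer_singleton_iff, Subgroup.mem_centralizer_singleton_iff]
    exact ⟨fun h => Subtype.ext h, fun h => congrArg Subtype.val h⟩
  obtain ⟨w, hw⟩ : ∃ w : S, w ∉ Subgroup.zpowers a := by
    by_contra h
    push Not at h
    rw [show Subgroup.zpowers a = ⊤ from eq_top_iff.mpr fun x _ => h x, Subgroup.index_top] at hidx
    omega
  have hconj : ∀ q : S, (q : G) * (v : G) * (q : G)⁻¹ ∈ D := by
    intro q
    by_cases hq : q ∈ Subgroup.zpowers a
    · have hc := (hmem q).mpr hq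
      rw [hC, Subgroup.mem_centralizer_singleton_iff] at hc
      rw [hc, mul_inv_cancel_right, hD]
      exact Subgroup.mem_zpowers _
    · have h : q * v * q⁻¹ = v⁻¹ := by
        rw [hv, ← pow_two, ← conj_pow, hout q hq, inv_pow]
      have h' : (q : G) * (v : G) * (q : G)⁻¹ = (v : G)⁻¹ := congrArg Subtype.val h
      rw [h', hD]
      exact inv_mem (Subgroup.mem_zpowers _)
  have hSN : (S : Subgroup G) ≤ Subgroup.normalizer (D : Set G) := by
    refine fun q hq => Subgroup.mem_normalizer_iff.mpr fun y => ?_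
    have hsub : ∀ r : S, ∀ z ∈ D, (r : G) * z * (r : G)⁻¹ ∈ D := by
      intro r z hz
      rw [hD] at hz
      obtain ⟨k, rfl⟩ := hz
      show (r : G) * (v : G) ^ k * (r : G)⁻¹ ∈ D
      rw [← conj_zpow]
      exact zpow_mem (hconj r) k
    refine ⟨hsub ⟨q, hq⟩ y, fun h => ?_⟩
    have h1 := hsub ⟨q⁻¹, inv_mem hq⟩ _ h
    simpa [mul_assoc] using h1
  refine ⟨v, (Subgroup.orderOf_coe v).trans hov, ?_, hD, v.2, hC, hSN, fun g hg => ?_, ?_, ?_,
    w, w.2, fun h => hw ((hmem w).mp h), fun q hq => ?_⟩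
  · rw [hD, Nat.card_zpowers, Subgroup.orderOf_coe, hov]
  · have h1 : g * (v : G) * g⁻¹ ∈ D :=
      (Subgroup.mem_normalizer_iff.mp hg _).mp (hD ▸ Subgroup.mem_zpowers _)
    rw [hD] at h1
    obtain ⟨q, hq⟩ := hfus g
      ((Subgroup.zpowers_le.mpr (show ((v : S) : G) ∈ Subgroup.zpowers (a : G) from
        mul_mem (Subgroup.mem_zpowers _) (Subgroup.mem_zpowers _))) h1)
    refine ⟨q, q.2, ?_⟩
    rw [hC, Subgroup.mem_centralizer_singleton_iff]
    calc (q : G)⁻¹ * g * v = (q : G)⁻¹ * (g * v * g⁻¹) * g := by group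
      _ = v * ((q : G)⁻¹ * g) := by rw [← hq]; group
  · rw [hC]
    exact hsyl
  · rw [← ha, ← Nat.card_zpowers]
    refine Nat.card_congr
      { toFun := fun x => ⟨⟨x, x.2.1⟩, (hmem ⟨x, x.2.1⟩).mp x.2.2⟩
        invFun := fun x => ⟨(x : S), (x : S).2, (hmem _).mpr x.2⟩
        left_inv := fun x => rfl
        right_inv := fun x => rfl }
  · by_cases hqa : (⟨q, hq⟩ : S) ∈ Subgroup.zpowers a
    · exact Or.inl ((hmem ⟨q, hq⟩).mpr hqa)
    · refine Or.inr ((hmem (w⁻¹ * ⟨q, hq⟩)).mpr ?_)
      rw [Subgroup.mul_mem_iff_of_index_two hidx, Subgroup.inv_mem_iff]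
      exact iff_of_false hw hqa

end CfsgLib.ZStar
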