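import Cfsg.Agent.Lib.ZStar.EightLocal
import Cfsg.Agent.Lib.Blocks.RegPart

/-!
# The principal block of a group with quaternion Sylow subgroup of order 8 and a central involution
-/

set_option autoImplicit false
set_option linter.unusedSectionVars false

namespace CfsgLib.ZStar

open Cfsg
open scoped ComplexConjugate CfsgLib.Char

variable {C : Type*} [Group C] [Fintype C] {t : C} {M : Ideal AlgInt}

/-- Transport of the data along an isomorphism. -/
theorem EightData.of_equiv {C' : Type*} [Group C'] [Fintype C'] (h : EightData C t) (e : C ≃* C') :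
    EightData C' (e t) where
  order_two := by rw [MulEquiv.orderOf_eq]; exact h.order_two
  central c := by
    obtain ⟨c, rfl⟩ := e.surjective c
    exact (h.central c).map e.toMonoidHom
  unique y hy := by
    obtain ⟨y, rfl⟩ := e.surjective y
    rw [h.unique y (by rwa [MulEquiv.orderOf_eq] at hy)]
  not_eight x := by
    obtain ⟨x, rfl⟩ := e.surjective x
    rw [MulEquiv.orderOf_eq]
    exact h.not_eight x
  exists_four := by
    obtain ⟨y, hy⟩ := h.exists_four
    exact ⟨e y, by rw [MulEquiv.orderOf_eq]; exact hy⟩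
  conj_four x y hx hy := by
    obtain ⟨x, rfl⟩ := e.surjective x
    obtain ⟨y, rfl⟩ := e.surjective y
    rw [MulEquiv.orderOf_eq] at hx hy
    exact e.toMonoidHom.map_isConj (h.conj_four x y hx hy)
  cyclic_four y hy S := by
    obtain ⟨y, rfl⟩ := e.surjective y
    rw [MulEquiv.orderOf_eq] at hy
    let f : Subgroup.centralizer ({y} : Set C) →* Subgroup.centralizer ({e y} : Set C') :=
      { toFun := fun c => ⟨e c, Subgroup.mem_centralizer_singleton_iff.mpr (by
          rw [← map_mul, ← map_mul, Subgroup.mem_centralizer_singleton_iff.mp c.2])⟩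
        map_one' := Subtype.ext (map_one e)
        map_mul' := fun a b => Subtype.ext (map_mul e _ _) }
    have hfi : Function.Injective f := fun a b hab =>
      Subtype.ext (e.injective (congrArg Subtype.val hab))
    have hfs : Function.Surjective f := by
      rintro ⟨c, hc⟩
      obtain ⟨c, rfl⟩ := e.surjective c
      refine ⟨⟨c, Subgroup.mem_centralizer_singleton_iff.mpr (e.injective ?_)⟩, rfl⟩
      rw [map_mul, map_mul]
      exact Subgroup.mem_centralizer_singleton_iff.mp hc
    obtain ⟨hc, hk⟩ := h.cyclic_four y hy (S.comapOfInjective f hfi (by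
      rw [MonoidHom.range_eq_top.mpr hfs]
      exact le_top))
    let g := ((Subgroup.equivMapOfInjective _ f hfi).trans (MulEquiv.subgroupCongr
      (Subgroup.map_comap_eq_self_of_surjective hfs (S : Subgroup _))) :
        (S : Subgroup _).comap f ≃* (S : Subgroup _))
    rw [Sylow.coe_comapOfInjective] at hc
    refine ⟨isCyclic_of_surjective g g.surjective, ?_⟩
    rw [← hk]
    exact (Nat.card_congr g.toEquiv).symm
  sylow_card P := by
    rw [← h.sylow_card (P.comapOfInjective e.toMonoidHom e.injective
      (by rw [MonoidHom.range_eq_top.mpr e.surjective]; exact le_top))]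
    exact Nat.card_congr ((MulEquiv.subgroupCongr
      (Subgroup.map_comap_eq_self_of_surjective e.surjective (P : Subgroup C')).symm).trans
        (Subgroup.equivMapOfInjective _ e.toMonoidHom e.injective).symm).toEquiv

/-- The principal block has exactly seven characters. -/
theorem card_principalBlock_eq_seven (h : EightData C t) (hM : IsPModular 2 M) :
    Nat.card (principalBlock M C) = 7 := by
  classical
  have := Blocks.isPrime_of_isPModular hM
  obtain ⟨ψ, ε, F⟩ := exists_eightFamily h hM
  let Hf : Fin 3 → C → ℂ := fun a => eightH (ψ a : C → ℂ) (ε a)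
  have hgen : ∀ a, IsGeneralizedCharacter C (Hf a) := fun a => by
    have he : Hf a = eightG (ψ a : C → ℂ) (ε a) - eightTheta (ψ a : C → ℂ) (ε a) := by
      rw [eightTheta_eq F]; simp [Hf]
    rw [he, eightG_eq]
    exact Char.isGeneralized_sub (Char.isGeneralized_add (Char.isGeneralized_of_isIrr (Blocks.trivIrr _).2)
      (Char.isGeneralized_intCast_smul (Char.isGeneralized_of_isIrr (ψ a).2) (ε a)))
      (isGeneralized_eightTheta h (F.invariant a) (F.sign a) (F.value a))
  have hnorm : ∀ a, classInner (Hf a) (Hf a) = 1 := fun a => by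
    show classInner (eightH _ _) (eightH _ _) = 1
    rw [classInner_eightH h F, if_pos rfl]
  choose c hc φ hφ using fun a => Char.exists_of_norm_one (hgen a) (hnorm a)
  have hc0 : ∀ a, c a ≠ 0 := fun a => by rcases hc a with e | e <;> simp [e]
  have hpos : ∀ χ : IrrCharacter C, (χ : C → ℂ) 1 ≠ 0 := fun χ => by
    rw [(Blocks.irr_degree_eq χ).1]
    exact_mod_cast (Blocks.irr_degree_eq χ).2.ne'
  have hanti : ∀ a, (φ a : C → ℂ) t = -(φ a : C → ℂ) 1 := fun a => by
    have h1 := eightH_mul h F a 1
    rw [mul_one, show eightH (ψ a : C → ℂ) (ε a) = c a • (φ a : C → ℂ) from hφ a] at h1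
    simp only [Pi.smul_apply, smul_eq_mul, ← mul_neg] at h1
    exact mul_left_cancel₀ (hc0 a) h1
  have hne : ∀ a (χ : IrrCharacter C), (χ : C → ℂ) t = (χ : C → ℂ) 1 → φ a ≠ χ := by
    intro a χ hχ e
    have h1 := hanti a
    rw [e, hχ] at h1
    exact hpos χ (by linear_combination h1 / 2)
  have hψt : ∀ a, (ψ a : C → ℂ) t = (ψ a : C → ℂ) 1 := fun a => by
    simpa using F.invariant a 1
  have hinj : Function.Injective φ := by
    intro a b hab
    by_contra hne'
    have h1 := classInner_eightH h F a b
    rw [if_neg hne', show eightH (ψ a : C → ℂ) (ε a) = c a • (φ a : C → ℂ) from hφ a,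
      show eightH (ψ b : C → ℂ) (ε b) = c b • (φ b : C → ℂ) from hφ b, hab,
      Char.classInner_smul_left, Char.classInner_smul_right, Char.classInner_coe, if_pos rfl] at h1
    rcases hc a with e | e <;> rcases hc b with e' | e' <;> simp [e, e'] at h1
  have hT : Blocks.trivIrr C ∈ principalBlock M C := Blocks.mem_blockOf_self (Blocks.trivIrr C)
  have hmem : ∀ a, φ a ∈ principalBlock M C := by
    intro a
    by_contra hn
    have hBU := Blocks.IsPBlock.isBlockUnion (Blocks.isPBlock_principalBlock (M := M) (G := C))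
    have h1 := Blocks.classInner_regPart_eq_zero hM hBU hT hn
    have h2 := Blocks.classInner_regPart_eq_zero hM hBU (F.mem a) hn
    have h3 : Blocks.regPart 2 (Hf a) =
        Blocks.regPart 2 (Blocks.trivIrr C : C → ℂ) + (ε a : ℂ) • Blocks.regPart 2 (ψ a : C → ℂ) := by
      funext g
      by_cases hg : IsPRegular 2 g
      · have h2g : ¬ 2 ∣ orderOf g := hg
        have h4g : ¬ 4 ∣ orderOf g := fun hd => h2g ((by norm_num : 2 ∣ 4).trans hd)
        simp only [Pi.add_apply, Pi.smul_apply, smul_eq_mul, Blocks.regPart_of_regular hg]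
        simp [Hf, eightH, h4g, h2g, eightG, Blocks.trivIrr]
      · simp [Blocks.regPart_of_singular hg]
    have h4 : classInner (Blocks.regPart 2 (Hf a)) (φ a : C → ℂ) = 0 := by
      rw [h3, Char.classInner_add_left, Char.classInner_smul_left, h1, h2, mul_zero, add_zero]
    rw [hφ a] at h4
    have h5 : Blocks.regPart 2 (c a • (φ a : C → ℂ)) = c a • Blocks.regPart 2 (φ a : C → ℂ) := by
      funext g
      by_cases hg : IsPRegular 2 g
      · simp [Blocks.regPart_of_regular hg]
      · simp [Blocks.regPart_of_singular hg]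
    rw [h5, Char.classInner_smul_left, mul_eq_zero, or_iff_right (hc0 a),
      ← Blocks.classInner_regPart_regPart, classInner, mul_eq_zero,
      or_iff_right (inv_ne_zero (Nat.cast_ne_zero.mpr Nat.card_pos.ne'))] at h4
    have h6 : ∑ g, (Complex.normSq (Blocks.regPart 2 (φ a : C → ℂ) g) : ℂ) = 0 := by
      rw [← h4]
      exact Finset.sum_congr rfl fun g _ => (Complex.mul_conj _).symm
    have h7 : ∑ g, Complex.normSq (Blocks.regPart 2 (φ a : C → ℂ) g) = 0 := by exact_mod_cast h6
    have h8 := (Finset.sum_eq_zero_iff_of_nonneg fun g _ => Complex.normSq_nonneg _).mp h7 1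
      (Finset.mem_univ _)
    rw [Complex.normSq_eq_zero, Blocks.regPart_of_regular (by simp [IsPRegular])] at h8
    exact hpos _ h8
  -- the seven characters
  set Z : Finset (IrrCharacter C) :=
    insert (Blocks.trivIrr C) (Finset.univ.image ψ ∪ Finset.univ.image φ) with hZ
  have hdisj : Disjoint (Finset.univ.image ψ) (Finset.univ.image φ) := by
    rw [Finset.disjoint_left]
    intro χ h1 h2
    obtain ⟨a, -, rfl⟩ := Finset.mem_image.mp h1
    obtain ⟨b, -, hb⟩ := Finset.mem_image.mp h2
    exact hne b _ (hψt a) hb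
  have hnot : Blocks.trivIrr C ∉ Finset.univ.image ψ ∪ Finset.univ.image φ := by
    simp only [Finset.mem_union, Finset.mem_image, Finset.mem_univ, true_and, not_or, not_exists]
    exact ⟨fun a => F.ne_triv a, fun a => hne a _ rfl⟩
  have hZcard : Z.card = 7 := by
    rw [hZ, Finset.card_insert_of_notMem hnot, Finset.card_union_of_disjoint hdisj,
      Finset.card_image_of_injective _ F.inj, Finset.card_image_of_injective _ hinj]
    rfl
  set B : Finset (IrrCharacter C) := {χ : IrrCharacter C | χ ∈ principalBlock M C} with hB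
  have hZB : Z ⊆ B := by
    intro χ hχ
    simp only [hZ, Finset.mem_insert, Finset.mem_union, Finset.mem_image, Finset.mem_univ,
      true_and] at hχ
    refine Finset.mem_filter.mpr ⟨Finset.mem_univ _, ?_⟩
    rcases hχ with rfl | ⟨a, rfl⟩ | ⟨a, rfl⟩
    · exact hT
    · exact F.mem a
    · exact hmem a
  have hsum : ∑ χ ∈ Z, (χ : C → ℂ) 1 * (χ : C → ℂ) 1 =
      ∑ χ ∈ B, (χ : C → ℂ) 1 * (χ : C → ℂ) 1 := by
    rw [hB, sum_sq_degree_principal h hM F, hZ, Finset.sum_insert hnot,
      Finset.sum_union hdisj, Finset.sum_image fun a _ b _ e => F.inj e,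
      Finset.sum_image fun a _ b _ e => hinj e]
    have h1 : ∀ a, (φ a : C → ℂ) 1 * (φ a : C → ℂ) 1 =
        1 + 2 * ((ε a : ℂ) * (ψ a : C → ℂ) 1) + (ψ a : C → ℂ) 1 * (ψ a : C → ℂ) 1 := by
      intro a
      have e := congrFun (hφ a) 1
      simp [Hf, eightH, eightG] at e
      have he : ((ε a : ℂ)) * (ε a : ℂ) = 1 := by rcases F.sign a with hs | hs <;> simp [hs]
      have hcc : c a * c a = 1 := by rcases hc a with hca | hca <;> simp [hca]
      linear_combination ((φ a : C → ℂ) 1) * ((φ a : C → ℂ) 1) * (-hcc) +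
        (-(c a * (φ a : C → ℂ) 1) - (1 + (ε a : ℂ) * (ψ a : C → ℂ) 1)) * e +
        ((ψ a : C → ℂ) 1 * (ψ a : C → ℂ) 1) * he
    have hpsi := F.psi 1
    rw [orderOf_one, if_neg (by norm_num)] at hpsi
    rw [Finset.sum_congr rfl fun a _ => h1 a, Finset.sum_add_distrib, Finset.sum_add_distrib,
      ← Finset.mul_sum]
    simp [Blocks.trivIrr]
    linear_combination 2 * hpsi
  have hBZ : B = Z := by
    refine (Finset.Subset.antisymm (fun χ hχ => ?_) hZB)
    by_contra hn
    rw [← Finset.sum_sdiff hZB, right_eq_add] at hsum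
    simp only [(Blocks.irr_degree_eq _).1] at hsum
    have h9 : ∑ η ∈ B \ Z, charDegree (η : C → ℂ) * charDegree (η : C → ℂ) = 0 := by
      exact_mod_cast hsum
    have h10 := (Finset.sum_eq_zero_iff.mp h9) χ (Finset.mem_sdiff.mpr ⟨hχ, hn⟩)
    have := (Blocks.irr_degree_eq χ).2
    nlinarith
  rw [← hZcard, ← hBZ, hB, Nat.card_eq_fintype_card, Fintype.card_subtype]

end CfsgLib.ZStar
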